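import Cfsg.Agent.Zass.AbelianBound
import Mathlib

/-!
Zassenhaus groups with an abelian kernel: the two-point stabilisers are large.
-/

set_option autoImplicit false
set_option linter.style.haveILetI false

namespace CfsgLib.Zass

open MulAction

variable {G Ω : Type*} [Group G] [Finite G] [MulAction G Ω] [Fintype Ω]

/-- A regular subgroup of a point stabiliser has the size and fixed points of the kernel. -/
theorem kernel_of_regular {x : Ω} {F : Subgroup G}
    (hFle : F ≤ stabilizer G x) (hreg : ∀ y z : Ω, y ≠ x → z ≠ x → ∃! u : F, (u : G) • y = z)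
    {y : Ω} (hy : y ≠ x) :
    Nat.card F + 1 = Fintype.card Ω ∧ ∀ u ∈ F, u ≠ 1 → ∀ c : Ω, u • c = c → c = x := by
  classical
  have e : F ≃ {c : Ω // c ≠ x} := Equiv.ofBijective
    (fun u => ⟨(u : G) • y, fun h => hy
      (smul_left_cancel (u : G) (h.trans (mem_stabilizer_iff.mp (hFle u.2)).symm))⟩)
    ⟨fun u v h => (hreg y ((v : G) • y) hy (fun h' => hy
        (smul_left_cancel (v : G) (h'.trans (mem_stabilizer_iff.mp (hFle v.2)).symm)))).unique
        (congrArg Subtype.val h) rfl,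
      fun c => by
        obtain ⟨u, hu, -⟩ := hreg y c.1 hy c.2
        exact ⟨u, Subtype.ext hu⟩⟩
  refine ⟨?_, fun u hu hu1 c hc => ?_⟩
  · rw [Nat.card_congr e, Nat.card_eq_fintype_card, Fintype.card_subtype_compl,
      Fintype.card_subtype_eq]
    have : 0 < Fintype.card Ω := Fintype.card_pos_iff.2 ⟨x⟩
    omega
  · by_contra hcx
    exact hu1 (congrArg Subtype.val ((hreg c c hcx hcx).unique (y₁ := (⟨u, hu⟩ : F)) (y₂ := 1) hc
      (one_smul G c)))

/-- A minimal normal subgroup of a Zassenhaus group is simple, and a Zassenhaus group again. -/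
theorem exists_simple_normal (hZ : Cfsg.IsZassenhausGroup G Ω) :
    ∃ N : Subgroup G, N.Normal ∧ N ≠ ⊥ ∧ Cfsg.IsZassenhausGroup N Ω ∧ IsSimpleGroup N := by
  classical
  haveI := hZ.1
  haveI := Fintype.ofFinite (Subgroup G)
  have hGnt : (⊤ : Subgroup G) ≠ ⊥ := fun h => by
    obtain ⟨g, hg, -⟩ := hZ.2.2.2.1
    exact hg (Subgroup.mem_bot.1 (h ▸ Subgroup.mem_top g))
  obtain ⟨N, ⟨hNn, hNb⟩, hmin⟩ := WellFounded.has_min (r := fun A B : Subgroup G => A < B) wellFounded_lt
    {N : Subgroup G | N.Normal ∧ N ≠ ⊥} ⟨⊤, inferInstance, hGnt⟩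
  haveI := hNn
  have hNZ := isZassenhaus_normal hZ N hNb
  haveI := hNZ.1
  haveI hNt : Nontrivial N := (Subgroup.nontrivial_iff_ne_bot N).2 hNb
  refine ⟨N, hNn, hNb, hNZ, ⟨?_⟩⟩
  -- two non-trivial normal subgroups of `N` meet non-trivially
  have hmeet : ∀ A B : Subgroup N, A.Normal → B.Normal → A ≠ ⊥ → B ≠ ⊥ → A ⊓ B ≠ ⊥ := by
    intro A B hA hB hA1 hB1 hAB
    haveI : MulAction.IsPreprimitive N Ω := MulAction.isPreprimitive_of_is_two_pretransitive hNZ.2.1
    have htr : ∀ C : Subgroup N, C.Normal → C ≠ ⊥ → IsPretransitive C Ω := by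
      intro C hC hC1
      haveI := hC
      refine MulAction.IsQuasiPreprimitive.isPretransitive_of_normal (G := N) fun h => hC1 ?_
      rw [Subgroup.eq_bot_iff_forall]
      intro z hz
      refine FaithfulSMul.eq_of_smul_eq_smul fun c : Ω => ?_
      rw [one_smul]
      have : c ∈ MulAction.fixedPoints C Ω := h ▸ Set.mem_univ c
      exact this ⟨z, hz⟩
    haveI := htr B hB hB1
    obtain ⟨c, hc⟩ := hNZ.2.2.2.2 A hA (htr A hA hA1)
    refine hc ((Subgroup.eq_bot_iff_forall _).2 fun z hz => Subtype.ext ?_)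
    refine FaithfulSMul.eq_of_smul_eq_smul fun p : Ω => ?_
    rw [OneMemClass.coe_one, one_smul]
    obtain ⟨m, rfl⟩ := MulAction.exists_smul_eq B c p
    show (z : N) • ((m : N) • c) = (m : N) • c
    rw [← mul_smul, (Subgroup.commute_of_normal_of_disjoint A B hA hB (disjoint_iff.2 hAB) (z : N)
      (m : N) z.2 m.2).eq, mul_smul, show (z : N) • c = c from hz]
  haveI := Fintype.ofFinite (Subgroup N)
  intro H hH
  by_contra hH'
  push Not at hH'
  obtain ⟨M, ⟨hMn, hMb⟩, hMmin⟩ := WellFounded.has_min (r := fun A B : Subgroup N => A < B)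
    wellFounded_lt {M : Subgroup N | M.Normal ∧ M ≠ ⊥} ⟨H, hH, hH'.1⟩
  have hle : ∀ A : Subgroup N, A.Normal → A ≠ ⊥ → M ≤ A := by
    intro A hA hA1
    haveI := hA
    haveI := hMn
    by_contra h
    refine hMmin (A ⊓ M) ⟨inferInstance, hmeet A M hA hMn hA1 hMb⟩ ?_
    exact lt_of_le_of_ne inf_le_right fun e => h (e ▸ inf_le_left)
  have hM'n : (M.map N.subtype).Normal := by
    refine ⟨?_⟩
    rintro _ ⟨m, hm, rfl⟩ g
    let σ : N ≃* N := MulAut.conjNormal g⁻¹
    haveI := hMn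
    have hne : M.map σ.toMonoidHom ≠ ⊥ := fun e =>
      hMb ((Subgroup.map_eq_bot_iff_of_injective M σ.injective).1 e)
    obtain ⟨k, hk, hkm⟩ := hle _ (hMn.map _ σ.surjective) hne hm
    refine ⟨k, hk, ?_⟩
    have e : g⁻¹ * (k : G) * g = m := by
      rw [← hkm, MulEquiv.coe_toMonoidHom]
      show _ = ((MulAut.conjNormal g⁻¹ k : N) : G)
      rw [MulAut.conjNormal_apply, inv_inv]
    show (k : G) = g * (m : G) * g⁻¹
    rw [← e]
    group
  have hM'b : M.map N.subtype ≠ ⊥ := fun e =>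
    hMb ((Subgroup.map_eq_bot_iff_of_injective M N.subtype_injective).1 e)
  have hMH : M ≤ H := hle H hH hH'.1
  refine hH'.2 (top_le_iff.1 (le_trans ?_ hMH))
  intro z _
  have hEq : M.map N.subtype = N := by
    by_contra hne
    exact hmin _ ⟨hM'n, hM'b⟩ (lt_of_le_of_ne (Subgroup.map_subtype_le M) hne)
  obtain ⟨y, hy, e⟩ := (hEq.symm ▸ z.2 : (z : G) ∈ M.map N.subtype)
  rwa [← Subtype.ext (e : (y : G) = z)]

theorem card_pair_normal (hZ : Cfsg.IsZassenhausGroup G Ω) {a b : Ω} (hab : a ≠ b) (F : Subgroup G)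
    (hFa : F ≤ stabilizer G a) (hFcard : Nat.card F + 1 = Fintype.card Ω)
    (hFfix : ∀ u ∈ F, u ≠ 1 → ∀ c : Ω, u • c = c → c = a) (hcomm : IsMulCommutative F)
    (N : Subgroup G) [N.Normal] (hN : N ≠ ⊥) [IsSimpleGroup N] :
    Fintype.card Ω - 2 ≤ 2 * Nat.card ↥(stabilizer N a ⊓ stabilizer N b) := by
  have hNZ := isZassenhaus_normal hZ N hN
  rcases Nat.even_or_odd (Nat.card ↥(stabilizer N a ⊓ stabilizer N b)) with he | ho
  · exact two_mul_card_of_even hNZ hab he
  · by_contra hcon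
    have hFN : F ≤ N := fun u hu => by
      by_cases h1 : u = 1
      · rw [h1]; exact one_mem _
      · exact (normal_props hZ N hN).2.2 u a (hFa hu) (hFfix u hu h1)
    have hcard : Nat.card (F.subgroupOf N) = Nat.card F :=
      Nat.card_congr (Subgroup.subgroupOfEquivOfLe hFN).toEquiv
    refine false_of_odd_simple hNZ hab ho (F.subgroupOf N) (fun u hu => hFa hu)
      (by rw [hcard]; exact hFcard) (fun u hu hu1 c hc => hFfix u hu (fun e => hu1 (Subtype.ext e)) c hc)
      ⟨⟨fun u v => Subtype.ext (Subtype.ext (show ((u : N) : G) * ((v : N) : G) = (v : N) * (u : N) from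
        congrArg Subtype.val (hcomm.is_comm.comm ⟨_, u.2⟩ ⟨_, v.2⟩)))⟩⟩ ?_
    rw [hcard]
    omega

omit [Fintype Ω] [Finite G] in
theorem card_pair_dvd (N : Subgroup G) (a b : Ω) :
    Nat.card ↥(stabilizer N a ⊓ stabilizer N b) ∣ Nat.card ↥(stabilizer G a ⊓ stabilizer G b) :=
  Subgroup.card_dvd_of_injective
    ({ toFun := fun g => ⟨((g : N) : G), g.2.1, g.2.2⟩
       map_one' := rfl
       map_mul' := fun _ _ => rfl } :
      ↥(stabilizer N a ⊓ stabilizer N b) →* ↥(stabilizer G a ⊓ stabilizer G b))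
    fun g g' e => Subtype.ext (Subtype.ext (congrArg
      (fun t : ↥(stabilizer G a ⊓ stabilizer G b) => (t : G)) e))

/-- With an abelian kernel the two-point stabilisers have at least half the largest possible order. -/
theorem large_of_abelian (hZ : Cfsg.IsZassenhausGroup G Ω) {a b : Ω} (hab : a ≠ b) (F : Subgroup G)
    (hFa : F ≤ stabilizer G a) (hFcard : Nat.card F + 1 = Fintype.card Ω)
    (hFfix : ∀ u ∈ F, u ≠ 1 → ∀ c : Ω, u • c = c → c = a) (hcomm : IsMulCommutative F) :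
    Fintype.card Ω - 2 ≤ 2 * Nat.card ↥(stabilizer G a ⊓ stabilizer G b) := by
  obtain ⟨N, hNn, hN, -, hNs⟩ := exists_simple_normal hZ
  haveI := hNn
  haveI := hNs
  have h := card_pair_normal hZ hab F hFa hFcard hFfix hcomm N hN
  have := Nat.le_of_dvd Nat.card_pos (card_pair_dvd N a b)
  omega

/-- In the half-sharp case the group is simple. -/
theorem simple_of_half (hZ : Cfsg.IsZassenhausGroup G Ω) {a b : Ω} (hab : a ≠ b) (F : Subgroup G)
    (hFa : F ≤ stabilizer G a) (hFcard : Nat.card F + 1 = Fintype.card Ω)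
    (hFfix : ∀ u ∈ F, u ≠ 1 → ∀ c : Ω, u • c = c → c = a) (hcomm : IsMulCommutative F)
    (hhalf : 2 * Nat.card ↥(stabilizer G a ⊓ stabilizer G b) + 2 = Fintype.card Ω) :
    IsSimpleGroup G := by
  classical
  obtain ⟨N, hNn, hN, hNZ, hNs⟩ := exists_simple_normal hZ
  haveI := hNn
  haveI := hNs
  haveI := Fintype.ofFinite G
  have h := card_pair_normal hZ hab F hFa hFcard hFfix hcomm N hN
  have hle := Nat.le_of_dvd Nat.card_pos (card_pair_dvd N a b)
  have hcardN := CfsgLib.Char.zass_card_group hNZ hab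
  have hcardG := CfsgLib.Char.zass_card_group hZ hab
  rw [show Nat.card ↥(stabilizer N a ⊓ stabilizer N b) = Nat.card ↥(stabilizer G a ⊓ stabilizer G b) by
    omega, ← hcardG] at hcardN
  obtain rfl : N = ⊤ := Subgroup.eq_top_of_card_eq N hcardN
  exact (MulEquiv.isSimpleGroup_congr Subgroup.topEquiv).1 hNs

end CfsgLib.Zass
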