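import Cfsg.Prelude.Def_LieExceptional
import Cfsg.Agent.Char.FrobeniusKernel
import Cfsg.Agent.S0054

/-!
Kernels of point stabilisers and normal subgroups of Zassenhaus groups.
-/

set_option autoImplicit false
set_option linter.style.haveILetI false

namespace CfsgLib.Zass

open scoped Pointwise

variable {G Ω : Type*} [Group G] [MulAction G Ω]

theorem finite_of_isZassenhaus [Finite Ω] (hZ : Cfsg.IsZassenhausGroup G Ω) : Finite G :=
  Finite.of_injective (fun g : G => fun x : Ω => g • x) fun g g' e =>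
    hZ.1.eq_of_smul_eq_smul (congrFun e)

theorem two_trans (hZ : Cfsg.IsZassenhausGroup G Ω) {p q u v : Ω} (h1 : p ≠ q) (h2 : u ≠ v) :
    ∃ g : G, g • p = u ∧ g • q = v :=
  MulAction.is_two_pretransitive_iff.1 hZ.2.1 h1 h2

theorem fix_two (hZ : Cfsg.IsZassenhausGroup G Ω) {a b : Ω} (hab : a ≠ b) :
    ∃ g : G, g ≠ 1 ∧ g • a = a ∧ g • b = b := by
  obtain ⟨g, hg, p, q, hpq, hp, hq⟩ := hZ.2.2.2.1
  obtain ⟨f, hfp, hfq⟩ := two_trans hZ hpq hab
  refine ⟨f * g * f⁻¹, fun e => hg ?_, ?_, ?_⟩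
  · simpa using e
  · rw [← hfp, ← mul_smul, inv_mul_cancel_right, mul_smul, hp]
  · rw [← hfq, ← mul_smul, inv_mul_cancel_right, mul_smul, hq]

/-- The kernel of a point stabiliser: the elements with the single fixed point, with `1`. -/
theorem exists_kernel [Finite Ω] (hZ : Cfsg.IsZassenhausGroup G Ω) (a : Ω) :
    ∃ K : Subgroup G, K ≤ MulAction.stabilizer G a ∧
      (∀ g : G, g ∈ K ↔ g = 1 ∨ (g • a = a ∧ ∀ c, g • c = c → c = a)) ∧
      (∀ g : G, g • a = a → ∀ k ∈ K, g * k * g⁻¹ ∈ K) ∧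
      ∀ b c : Ω, b ≠ a → c ≠ a → ∃ k ∈ K, k • b = c := by
  classical
  haveI := finite_of_isZassenhaus hZ
  obtain ⟨b₀, hb₀⟩ : ∃ b₀, b₀ ≠ a := by
    by_contra hn
    push Not at hn
    obtain ⟨-, -, p, q, hpq, -⟩ := hZ.2.2.2.1
    exact hpq ((hn p).trans (hn q).symm)
  let L := MulAction.stabilizer G a
  let E : Subgroup L := (MulAction.stabilizer G b₀).subgroupOf L
  have hTI : ∀ g : L, g ∉ E → ∀ x ∈ E, g * x * g⁻¹ ∈ E → x = 1 := by
    intro g hg x hx hgx
    apply Subtype.ext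
    have hgb : (g : G)⁻¹ • b₀ ≠ b₀ := fun e => hg (inv_smul_eq_iff.1 e).symm
    have hga' : (g : G)⁻¹ • b₀ ≠ a := fun e => hb₀ (by rw [← g.2, ← inv_smul_eq_iff.1 e])
    refine hZ.2.2.1 x a b₀ ((g : G)⁻¹ • b₀) hb₀.symm hgb.symm hga'.symm x.2 hx ?_
    have e : ((g : G) * x * (g : G)⁻¹) • b₀ = b₀ := hgx
    rw [mul_smul, mul_smul] at e
    exact eq_inv_smul_iff.2 e
  obtain ⟨K, hKn, -, hKsup, -, hKmem⟩ := CfsgLib.Char.exists_frobenius_kernel E hTI
  have hiff : ∀ k : L, (∀ x : L, x⁻¹ * k * x ∉ E) ↔ ∀ c, (k : G) • c = c → c = a := by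
    intro k
    constructor
    · intro h c hc
      by_contra hca
      obtain ⟨g, hga, hgb⟩ := two_trans hZ hb₀.symm (Ne.symm hca)
      refine h ⟨g, hga⟩ ?_
      show (g⁻¹ * (k : G) * g) • b₀ = b₀
      rw [mul_smul, mul_smul, hgb, hc, inv_smul_eq_iff, hgb]
    · intro h x hx
      have e : ((x : G)⁻¹ * k * x) • b₀ = b₀ := hx
      rw [mul_smul, mul_smul, inv_smul_eq_iff] at e
      exact hb₀ (smul_left_cancel (x : G) ((h _ e).trans (x.2 : (x : G) • a = a).symm))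
  have hfact : ∀ g : L, ∃ k ∈ K, ∃ e ∈ E, k * e = g := fun g => by
    haveI := hKn
    have : g ∈ ((K : Set L) * (E : Set L)) := by
      rw [← Subgroup.normal_mul, hKsup]
      trivial
    exact this
  refine ⟨K.map L.subtype, Subgroup.map_subtype_le _, fun g => ?_, fun g hg k hk => ?_, fun b c hb hc => ?_⟩
  · constructor
    · rintro ⟨k, hk, rfl⟩
      exact ((hKmem k).1 hk).imp (fun e => by rw [e]; rfl) fun h => ⟨k.2, (hiff k).1 h⟩
    · rintro (rfl | ⟨hga, h⟩)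
      · exact one_mem _
      · exact ⟨⟨g, hga⟩, (hKmem _).2 (Or.inr ((hiff _).2 h)), rfl⟩
  · obtain ⟨k, hk, rfl⟩ := hk
    exact ⟨⟨g, hg⟩ * k * (⟨g, hg⟩ : L)⁻¹, hKn.conj_mem k hk _, rfl⟩
  · have hto : ∀ c, c ≠ a → ∃ k ∈ K, (k : G) • b₀ = c := by
      intro c hc
      obtain ⟨g, hga, hgb⟩ := two_trans hZ hb₀.symm (Ne.symm hc)
      obtain ⟨k, hk, e, he, hke⟩ := hfact ⟨g, hga⟩
      refine ⟨k, hk, ?_⟩
      have h1 : (k : G) * (e : G) = g := congrArg Subtype.val hke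
      rwa [← h1, mul_smul, show (e : G) • b₀ = b₀ from he] at hgb
    obtain ⟨k₁, hk₁, e₁⟩ := hto b hb
    obtain ⟨k₂, hk₂, e₂⟩ := hto c hc
    refine ⟨(k₂ : G) * (k₁ : G)⁻¹, ⟨k₂ * k₁⁻¹, mul_mem hk₂ (inv_mem hk₁), rfl⟩, ?_⟩
    rw [mul_smul, ← e₁, inv_smul_smul, e₂]

/-- A non-trivial normal subgroup of a Zassenhaus group is doubly transitive, contains a non-identity
element fixing two points and every element with exactly one fixed point. -/
theorem normal_props [Finite Ω] (hZ : Cfsg.IsZassenhausGroup G Ω) (N : Subgroup G) [N.Normal]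
    (hN : N ≠ ⊥) :
    MulAction.IsMultiplyPretransitive N Ω 2 ∧
      (∃ g : N, g ≠ 1 ∧ ∃ a b : Ω, a ≠ b ∧ g • a = a ∧ g • b = b) ∧
      ∀ g : G, ∀ a : Ω, g • a = a → (∀ c, g • c = c → c = a) → g ∈ N := by
  classical
  haveI := finite_of_isZassenhaus hZ
  haveI := hZ.1
  haveI : MulAction.IsPreprimitive G Ω := MulAction.isPreprimitive_of_is_two_pretransitive hZ.2.1
  haveI hNt : MulAction.IsPretransitive N Ω := by
    refine MulAction.IsQuasiPreprimitive.isPretransitive_of_normal (G := G) fun h => hN ?_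
    rw [Subgroup.eq_bot_iff_forall]
    intro n hn
    refine hZ.1.eq_of_smul_eq_smul fun x : Ω => ?_
    rw [one_smul]
    have : x ∈ MulAction.fixedPoints N Ω := h ▸ Set.mem_univ x
    exact this ⟨n, hn⟩
  obtain ⟨a₀, ha₀⟩ := hZ.2.2.2.2 N inferInstance hNt
  obtain ⟨n₀, hn₀, hn₀1⟩ := (Subgroup.ne_bot_iff_exists_ne_one.1 ha₀).elim fun x hx =>
    (⟨x.1, x.2, fun e => hx (Subtype.ext e)⟩ : ∃ n : N, n ∈ MulAction.stabilizer N a₀ ∧ n ≠ 1)
  have htwo : ∃ g : N, g ≠ 1 ∧ ∃ a b : Ω, a ≠ b ∧ g • a = a ∧ g • b = b := by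
    by_contra hn
    push Not at hn
    have hTI : ∀ g : N, g ∉ MulAction.stabilizer N a₀ → ∀ x ∈ MulAction.stabilizer N a₀,
        g * x * g⁻¹ ∈ MulAction.stabilizer N a₀ → x = 1 := by
      intro g hg x hx hgx
      by_contra hx1
      refine hn x hx1 a₀ (g⁻¹ • a₀) (fun e => hg (eq_inv_smul_iff.1 e)) hx ?_
      have e : (g * x * g⁻¹) • a₀ = a₀ := hgx
      rw [mul_smul, mul_smul] at e
      exact eq_inv_smul_iff.2 e
    obtain ⟨M, hMn, hMinf, hMsup, -, hMmem⟩ := CfsgLib.Char.exists_frobenius_kernel _ hTI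
    haveI := hMn
    have hMset : ∀ g : N, g ∈ M ↔ g = 1 ∨ ∀ c : Ω, g • c ≠ c := by
      intro g
      rw [hMmem]
      refine or_congr_right ⟨fun h c hc => ?_, fun h x hx => ?_⟩
      · obtain ⟨x, rfl⟩ := MulAction.exists_smul_eq N a₀ c
        refine h x ?_
        show (x⁻¹ * g * x) • a₀ = a₀
        rw [mul_smul, mul_smul, hc, inv_smul_smul]
      · refine h (x • a₀) ?_
        have e : (x⁻¹ * g * x) • a₀ = a₀ := hx
        rwa [mul_smul, mul_smul, inv_smul_eq_iff] at e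
    let M' := M.map N.subtype
    have hM'n : M'.Normal := by
      refine ⟨?_⟩
      rintro _ ⟨m, hm, rfl⟩ g
      refine ⟨⟨g * m * g⁻¹, Subgroup.Normal.conj_mem inferInstance _ m.2 g⟩, ?_, rfl⟩
      rw [SetLike.mem_coe, hMset] at hm ⊢
      refine hm.imp (fun e => Subtype.ext ?_) fun h c hc => h (g⁻¹ • c) ?_
      · show g * (m : G) * g⁻¹ = 1
        rw [e]
        simp
      · have e : (g * (m : G) * g⁻¹) • c = c := hc
        rw [mul_smul, mul_smul] at e
        exact eq_inv_smul_iff.2 e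
    have hM't : MulAction.IsPretransitive M' Ω := by
      have hto : ∀ c, ∃ m ∈ M, m • a₀ = c := fun c => by
        obtain ⟨x, rfl⟩ := MulAction.exists_smul_eq N a₀ c
        have hx : x ∈ ((M : Set N) * (MulAction.stabilizer N a₀ : Set N)) := by
          rw [← Subgroup.normal_mul, hMsup]
          trivial
        obtain ⟨m, hm, e, he, rfl⟩ := hx
        exact ⟨m, hm, by rw [mul_smul, show e • a₀ = a₀ from he]⟩
      refine ⟨fun p q => ?_⟩
      obtain ⟨m₁, hm₁, rfl⟩ := hto p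
      obtain ⟨m₂, hm₂, rfl⟩ := hto q
      refine ⟨⟨((m₂ * m₁⁻¹ : N) : G), m₂ * m₁⁻¹, mul_mem hm₂ (inv_mem hm₁), rfl⟩, ?_⟩
      show (m₂ * m₁⁻¹) • (m₁ • a₀) = m₂ • a₀
      rw [mul_smul, inv_smul_smul]
    obtain ⟨c, hc⟩ := hZ.2.2.2.2 M' hM'n hM't
    refine hc ((Subgroup.eq_bot_iff_forall _).2 fun z hz => ?_)
    obtain ⟨_, m, hm, rfl⟩ := z
    rcases (hMset m).1 hm with h | h
    · exact Subtype.ext (congrArg N.subtype h)
    · exact absurd hz (h c)
  obtain ⟨x, hx1, p, q, hpq, hxp, hxq⟩ := htwo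
  have hK : ∀ a : Ω, ∀ K : Subgroup G, K ≤ MulAction.stabilizer G a →
      (∀ g : G, g ∈ K ↔ g = 1 ∨ (g • a = a ∧ ∀ c, g • c = c → c = a)) →
      (∀ g : G, g • a = a → ∀ k ∈ K, g * k * g⁻¹ ∈ K) → K ≤ N := by
    intro a K hKa hKmem hKn k hk
    obtain ⟨q', hq'⟩ : ∃ q', q' ≠ a := by
      by_contra hn
      push Not at hn
      exact hpq ((hn p).trans (hn q).symm)
    obtain ⟨f, hfp, hfq⟩ := two_trans hZ hpq hq'.symm
    set y := f * (x : G) * f⁻¹ with hy
    have hyN : y ∈ N := Subgroup.Normal.conj_mem inferInstance _ x.2 f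
    have hy1 : y ≠ 1 := fun e => hx1 (Subtype.ext (by simpa [hy] using e))
    have hya : y • a = a := by
      rw [hy, ← hfp, ← mul_smul, inv_mul_cancel_right, mul_smul]
      exact congrArg (f • ·) hxp
    have hyq : y • q' = q' := by
      rw [hy, ← hfq, ← mul_smul, inv_mul_cancel_right, mul_smul]
      exact congrArg (f • ·) hxq
    let φ : K → K := fun z => ⟨z * (y * (z : G)⁻¹ * y⁻¹), mul_mem z.2 (hKn y hya _ (inv_mem z.2))⟩
    have hinj : Function.Injective φ := by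
      intro u v e
      have e' : (u : G) * (y * (u : G)⁻¹ * y⁻¹) = v * (y * (v : G)⁻¹ * y⁻¹) := congrArg Subtype.val e
      have hwK : (v : G)⁻¹ * u ∈ K := mul_mem (inv_mem v.2) u.2
      have hw : (v : G)⁻¹ * u * y = y * ((v : G)⁻¹ * u) := by
        calc (v : G)⁻¹ * u * y = (v : G)⁻¹ * ((u : G) * (y * (u : G)⁻¹ * y⁻¹)) * (y * u) := by group
          _ = y * ((v : G)⁻¹ * u) := by rw [e']; group
      rcases (hKmem _).1 hwK with h | ⟨hwa, h⟩
      · exact Subtype.ext (inv_mul_eq_one.1 h).symm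
      · exfalso
        have e1 : y • (((v : G)⁻¹ * u) • q') = ((v : G)⁻¹ * u) • q' := by
          rw [← mul_smul, ← hw, mul_smul, hyq]
        have e2 : ((v : G)⁻¹ * u) • q' = q' := by
          by_contra hne
          refine hy1 (hZ.2.2.1 y a q' _ hq'.symm (Ne.symm hne) (fun e3 => hq' ?_) hya hyq e1)
          exact (smul_left_cancel ((v : G)⁻¹ * u) (hwa.trans e3)).symm
        exact hq' (h q' e2)
    obtain ⟨z, hz⟩ := (Finite.injective_iff_surjective.1 hinj) ⟨k, hk⟩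
    have e : (z : G) * (y * (z : G)⁻¹ * y⁻¹) = k := congrArg Subtype.val hz
    rw [← e, ← mul_assoc, ← mul_assoc]
    exact mul_mem (Subgroup.Normal.conj_mem inferInstance _ hyN z) (inv_mem hyN)
  refine ⟨?_, ⟨x, hx1, p, q, hpq, hxp, hxq⟩, fun g a hga hg => ?_⟩
  · rw [MulAction.is_two_pretransitive_iff]
    intro u v u' v' huv huv'
    obtain ⟨n, hn⟩ := MulAction.exists_smul_eq N u u'
    obtain ⟨K, hKa, hKmem, hKn, hKt⟩ := exists_kernel hZ u'
    have hnv : n • v ≠ u' := fun e => huv (smul_left_cancel n (hn.trans e.symm))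
    obtain ⟨k, hk, hkv⟩ := hKt _ _ hnv huv'.symm
    refine ⟨⟨k, hK u' K hKa hKmem hKn hk⟩ * n, ?_, ?_⟩
    · show (k * (n : G)) • u = u'
      rw [mul_smul, show (n : G) • u = u' from hn]
      exact hKa hk
    · show (k * (n : G)) • v = v'
      rw [mul_smul]
      exact hkv
  · obtain ⟨K, hKa, hKmem, hKn, -⟩ := exists_kernel hZ a
    exact hK a K hKa hKmem hKn ((hKmem g).2 (Or.inr ⟨hga, hg⟩))

/-- A non-trivial normal subgroup of a Zassenhaus group is a Zassenhaus group. -/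
theorem isZassenhaus_normal [Finite Ω] (hZ : Cfsg.IsZassenhausGroup G Ω) (N : Subgroup G) [N.Normal]
    (hN : N ≠ ⊥) : Cfsg.IsZassenhausGroup N Ω := by
  classical
  haveI := finite_of_isZassenhaus hZ
  obtain ⟨h2, hfix, -⟩ := normal_props hZ N hN
  refine ⟨⟨fun {u v} h => Subtype.ext (hZ.1.eq_of_smul_eq_smul h)⟩, h2,
    fun g a b c h1 h2 h3 ga gb gc => Subtype.ext (hZ.2.2.1 g a b c h1 h2 h3 ga gb gc), hfix,
    fun M hMn hMt => ?_⟩
  by_contra hreg
  push Not at hreg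
  obtain ⟨-, -, a, b, -⟩ := hfix
  haveI : Nonempty Ω := ⟨a⟩
  haveI := hMn
  haveI : FaithfulSMul N Ω := ⟨fun {u v} h => Subtype.ext (hZ.1.eq_of_smul_eq_smul h)⟩
  haveI : MulAction.IsPreprimitive N Ω := MulAction.isPreprimitive_of_is_two_pretransitive h2
  obtain ⟨hcomm, -⟩ := Cfsg.Agent.S0054.result h2 M hMt hreg
  -- conjugates of `M` coincide with it
  have hinv : ∀ g : G, ∀ m ∈ M, (⟨g * (m : N) * g⁻¹, Subgroup.Normal.conj_mem inferInstance _ m.2 g⟩ : N) ∈ M := by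
    intro g
    let σ : N ≃* N := MulAut.conjNormal g
    let M₂ : Subgroup N := M.map σ.toMonoidHom
    haveI : M₂.Normal := hMn.map _ σ.surjective
    have hσ : ∀ (m : N) (c : Ω), σ m • c = g • (m • (g⁻¹ • c)) := fun m c => by
      show (((σ m : N) : G)) • c = g • ((m : G) • (g⁻¹ • c))
      rw [MulAut.conjNormal_apply, mul_smul, mul_smul]
    have hreg₂ : ∀ m ∈ M₂, ∀ c : Ω, m • c = c → m = 1 := by
      rintro _ ⟨m, hm, rfl⟩ c hc
      have h' : m • (g⁻¹ • c) = g⁻¹ • c := by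
        rw [MulEquiv.coe_toMonoidHom, hσ] at hc
        exact eq_inv_smul_iff.2 hc
      have : (⟨m, hm⟩ : M) ∈ MulAction.stabilizer M (g⁻¹ • c) := h'
      rw [hreg] at this
      rw [show m = 1 from congrArg Subtype.val (Subgroup.mem_bot.1 this), map_one]
    have hreg₁ : ∀ m ∈ M, ∀ c : Ω, m • c = c → m = 1 := by
      intro m hm c hc
      have : (⟨m, hm⟩ : M) ∈ MulAction.stabilizer M c := hc
      rw [hreg] at this
      exact congrArg Subtype.val (Subgroup.mem_bot.1 this)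
    have hto₁ : ∀ c, ∃ m ∈ M, m • a = c := fun c =>
      let ⟨m, hm⟩ := MulAction.exists_smul_eq M a c
      ⟨m, m.2, hm⟩
    suffices h : M₂ ≤ M from fun m hm => by
      have h1 := h ⟨m, hm, rfl⟩
      convert h1 using 1
      exact Subtype.ext (MulAut.conjNormal_apply g m).symm
    intro m₂ hm₂
    by_cases hbot : M ⊓ M₂ = ⊥
    · -- commuting regular groups, one of them abelian
      have hcm : ∀ m ∈ M, Commute m m₂ := fun m hm =>
        Subgroup.commute_of_normal_of_disjoint M M₂ hMn inferInstance (disjoint_iff.2 hbot) m m₂ hm hm₂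
      obtain ⟨m, hm, hma⟩ := hto₁ (m₂ • a)
      have : m₂ = m := by
        refine (hZ.1.eq_of_smul_eq_smul (M := G) (α := Ω) (m₁ := (m₂ : G)) (m₂ := (m : G)) fun c => ?_) |> Subtype.ext
        obtain ⟨k, hk, rfl⟩ := hto₁ c
        show m₂ • (k • a) = m • (k • a)
        rw [← mul_smul, ← (hcm k hk).eq, mul_smul, ← hma, ← mul_smul, ← mul_smul]
        congr 1
        exact congrArg Subtype.val (hcomm.is_comm.comm (⟨k, hk⟩ : M) ⟨m, hm⟩)
      rwa [this]
    · haveI : MulAction.IsPretransitive (M ⊓ M₂ : Subgroup N) Ω := by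
        refine MulAction.IsQuasiPreprimitive.isPretransitive_of_normal (G := N) fun h => hbot ?_
        rw [Subgroup.eq_bot_iff_forall]
        intro z hz
        refine FaithfulSMul.eq_of_smul_eq_smul fun c : Ω => ?_
        rw [one_smul]
        have : c ∈ MulAction.fixedPoints (M ⊓ M₂ : Subgroup N) Ω := h ▸ Set.mem_univ c
        exact this ⟨z, hz⟩
      obtain ⟨z, hz⟩ := MulAction.exists_smul_eq (M ⊓ M₂ : Subgroup N) a (m₂ • a)
      have e : (z : N)⁻¹ * m₂ = 1 := hreg₂ _ (mul_mem (inv_mem z.2.2) hm₂) a (by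
        rw [mul_smul, ← hz]
        exact inv_smul_smul (z : N) a)
      rw [← inv_mul_eq_one.1 e]
      exact z.2.1
  have hM'n : (M.map N.subtype).Normal := ⟨fun _ ⟨m, hm, e⟩ g => by
    subst e
    exact ⟨_, hinv g m hm, rfl⟩⟩
  have hM't : MulAction.IsPretransitive (M.map N.subtype) Ω := ⟨fun p q => by
    obtain ⟨m, hm⟩ := MulAction.exists_smul_eq M p q
    exact ⟨⟨((m : N) : G), (m : N), m.2, rfl⟩, hm⟩⟩
  obtain ⟨c, hc⟩ := hZ.2.2.2.2 _ hM'n hM't
  refine hc ((Subgroup.eq_bot_iff_forall _).2 fun z hz => ?_)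
  obtain ⟨_, m, hm, rfl⟩ := z
  have : (⟨m, hm⟩ : M) ∈ MulAction.stabilizer M c := hz
  rw [hreg, Subgroup.mem_bot] at this
  exact Subtype.ext (congrArg N.subtype (congrArg Subtype.val this))

end CfsgLib.Zass
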