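/-
Two-point stabilisers of Zassenhaus groups.
-/
import Cfsg.Agent.Zass.Basic
import Cfsg.Agent.Solvable.FpfComplement
import Cfsg.Agent.Perm.SharplyThreeSetup
import Mathlib

set_option autoImplicit false

namespace CfsgLib.Zass

open MulAction

variable {G Ω : Type*} [Group G] [MulAction G Ω]

/-- A non-trivial element fixing `a` and `b` fixes nothing else. -/
theorem eq_or_eq (hZ : Cfsg.IsZassenhausGroup G Ω) {a b w : Ω} (hab : a ≠ b) {g : G} (hg : g ≠ 1)
    (ha : g • a = a) (hb : g • b = b) (hw : g • w = w) : w = a ∨ w = b := by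
  by_contra h
  push Not at h
  exact hg (hZ.2.2.1 g a b w hab h.2.symm h.1.symm ha hb hw)

/-- Conjugation carries one two-point stabiliser to another. -/
theorem card_pair (hZ : Cfsg.IsZassenhausGroup G Ω) {a b x y : Ω} (hab : a ≠ b) (hxy : x ≠ y) :
    Nat.card ↥(stabilizer G x ⊓ stabilizer G y) = Nat.card ↥(stabilizer G a ⊓ stabilizer G b) := by
  obtain ⟨g, hga, hgb⟩ := two_trans hZ hab hxy
  have h1 : ∀ h ∈ stabilizer G a ⊓ stabilizer G b, g * h * g⁻¹ ∈ stabilizer G x ⊓ stabilizer G y := by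
    intro h hh
    refine ⟨?_, ?_⟩
    · show (g * h * g⁻¹) • x = x
      rw [← hga, mul_smul, mul_smul, inv_smul_smul, show h • a = a from hh.1]
    · show (g * h * g⁻¹) • y = y
      rw [← hgb, mul_smul, mul_smul, inv_smul_smul, show h • b = b from hh.2]
  have h2 : ∀ h ∈ stabilizer G x ⊓ stabilizer G y, g⁻¹ * h * g ∈ stabilizer G a ⊓ stabilizer G b := by
    intro h hh
    refine ⟨?_, ?_⟩
    · show (g⁻¹ * h * g) • a = a
      rw [mul_smul, mul_smul, hga, show h • x = x from hh.1, inv_smul_eq_iff, hga]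
    · show (g⁻¹ * h * g) • b = b
      rw [mul_smul, mul_smul, hgb, show h • y = y from hh.2, inv_smul_eq_iff, hgb]
  exact (Nat.card_congr
    { toFun := fun h => ⟨g * (h : G) * g⁻¹, h1 _ h.2⟩
      invFun := fun h => ⟨g⁻¹ * (h : G) * g, h2 _ h.2⟩
      left_inv := fun h => Subtype.ext (show g⁻¹ * (g * (h : G) * g⁻¹) * g = h by group)
      right_inv := fun h => Subtype.ext (show g * (g⁻¹ * (h : G) * g) * g⁻¹ = h by group) }).symm

/-- The two-point stabiliser acts without fixed points on the kernel. -/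
theorem exists_fpf_action [Finite Ω] (hZ : Cfsg.IsZassenhausGroup G Ω) {a b : Ω} (hab : a ≠ b) :
    ∃ (K : Subgroup G) (φ : ↥(stabilizer G a ⊓ stabilizer G b) →* MulAut K),
      CfsgLib.Frobenius.IsFpf φ ∧ Nontrivial K := by
  classical
  obtain ⟨K, hKa, hKmem, hKn, hKtr⟩ := exists_kernel hZ a
  let H : Subgroup G := stabilizer G a ⊓ stabilizer G b
  let c : H → MulAut K := fun h =>
    { toFun := fun k => ⟨h * k * (h : G)⁻¹, hKn _ h.2.1 _ k.2⟩
      invFun := fun k => ⟨(h : G)⁻¹ * k * h, by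
        have := hKn ((h : G)⁻¹) (inv_mem h.2.1 : (h : G)⁻¹ ∈ stabilizer G a) _ k.2
        rwa [inv_inv] at this⟩
      left_inv := fun k => Subtype.ext (by simp [mul_assoc])
      right_inv := fun k => Subtype.ext (by simp [mul_assoc])
      map_mul' := fun x y => Subtype.ext (by
        show (h : G) * ((x : G) * y) * (h : G)⁻¹ = h * x * (h : G)⁻¹ * (h * y * (h : G)⁻¹)
        group) }
  let φ : H →* MulAut K := MonoidHom.mk' c fun x y => MulEquiv.ext fun k => Subtype.ext (by
    show ((x : G) * y) * k * ((x : G) * y)⁻¹ = x * (y * k * (y : G)⁻¹) * (x : G)⁻¹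
    group)
  refine ⟨K, φ, fun h h1 k hk => ?_, ?_⟩
  · have e : (h : G) * k = k * h := mul_inv_eq_iff_eq_mul.mp (congrArg Subtype.val hk)
    have hfix : (h : G) • ((k : G) • b) = (k : G) • b := by
      rw [smul_smul, e, mul_smul, show (h : G) • b = b from h.2.2]
    by_contra hk1
    have hkb : (k : G) • b ≠ b := fun hb => by
      rcases (hKmem k).mp k.2 with e | ⟨-, e⟩
      · exact hk1 (Subtype.ext e)
      · exact hab (e b hb).symm
    rcases eq_or_eq hZ hab (fun e => h1 (Subtype.ext e)) h.2.1 h.2.2 hfix with e | e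
    · exact hab ((smul_left_cancel (k : G) (e.trans (hKa k.2).symm)).symm)
    · exact hkb e
  · obtain ⟨g, hg1, p, q, hpq, hp, hq⟩ := hZ.2.2.2.1
    obtain ⟨y, hya, hyb⟩ : ∃ y, y ≠ a ∧ y ≠ b := by
      by_contra h
      push Not at h
      have hab' : ∀ w, w = a ∨ w = b := fun w => or_iff_not_imp_left.mpr (h w)
      refine hg1 (hZ.1.eq_of_smul_eq_smul fun w => ?_)
      rw [one_smul]
      rcases hab' w with e | e <;> rcases hab' p with e1 | e1 <;> rcases hab' q with e2 | e2 <;>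
        first | exact absurd (e1.trans e2.symm) hpq | (rw [e, ← e1]; exact hp) |
          (rw [e, ← e2]; exact hq)
    obtain ⟨k, hk, hkb⟩ := hKtr b y (Ne.symm hab) hya
    exact ⟨⟨⟨k, hk⟩, 1, fun e => hyb (by
      rw [← hkb, show k = 1 from congrArg Subtype.val e]; exact one_smul G b)⟩⟩

/-- A two-point stabiliser contains at most one involution. -/
theorem involution_unique [Finite Ω] (hZ : Cfsg.IsZassenhausGroup G Ω) {a b : Ω} (hab : a ≠ b)
    {u v : G} (hu : u * u = 1) (hu1 : u ≠ 1) (hua : u • a = a) (hub : u • b = b) (hv : v * v = 1)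
    (hv1 : v ≠ 1) (hva : v • a = a) (hvb : v • b = b) : u = v := by
  haveI := finite_of_isZassenhaus hZ
  obtain ⟨K, φ, hφ, hK⟩ := exists_fpf_action hZ hab
  haveI := hK
  have ho : ∀ w : G, w * w = 1 → w ≠ 1 → orderOf w = 2 := fun w hw hw1 => by
    haveI : Fact (Nat.Prime 2) := ⟨Nat.prime_two⟩
    exact orderOf_eq_prime (by rw [sq, hw]) hw1
  exact congrArg Subtype.val (hφ.unique_involution
    (s := (⟨u, hua, hub⟩ : ↥(stabilizer G a ⊓ stabilizer G b))) (t := ⟨v, hva, hvb⟩)
    (by rw [← Subgroup.orderOf_coe]; exact ho u hu hu1)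
    (by rw [← Subgroup.orderOf_coe]; exact ho v hv hv1))

/-- If the two-point stabilisers have even order `d`, then `n - 1 ≤ 2 d`. -/
theorem two_mul_card_of_even [Fintype Ω] [Finite G] (hZ : Cfsg.IsZassenhausGroup G Ω) {a b : Ω}
    (hab : a ≠ b) (heven : Even (Nat.card ↥(stabilizer G a ⊓ stabilizer G b))) :
    Fintype.card Ω - 2 ≤ 2 * Nat.card ↥(stabilizer G a ⊓ stabilizer G b) := by
  classical
  haveI := Fintype.ofFinite G
  haveI : Fact (Nat.Prime 2) := ⟨Nat.prime_two⟩
  obtain ⟨z, hz⟩ := exists_prime_orderOf_dvd_card' (G := ↥(stabilizer G a ⊓ stabilizer G b)) 2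
    heven.two_dvd
  rw [← Subgroup.orderOf_coe] at hz
  have hz1 : (z : G) ≠ 1 := fun e => by rw [e, orderOf_one] at hz; norm_num at hz
  have hzz : (z : G) * z = 1 := by rw [← sq, ← hz, pow_orderOf_eq_one]
  -- the involution attached to a pair
  have hI : ∀ p q : Ω, p ≠ q → ∃ i : G, i * i = 1 ∧ i ≠ 1 ∧ i • p = p ∧ i • q = q := by
    intro p q hpq
    obtain ⟨g, hga, hgb⟩ := two_trans hZ hab hpq
    refine ⟨g * z * g⁻¹, ?_, fun e => hz1 (by simpa using e), ?_, ?_⟩
    · rw [show g * z * g⁻¹ * (g * z * g⁻¹) = g * ((z : G) * z) * g⁻¹ by group, hzz, mul_one,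
        mul_inv_cancel]
    · rw [← hga, mul_smul, mul_smul, inv_smul_smul, show (z : G) • a = a from z.2.1]
    · rw [← hgb, mul_smul, mul_smul, inv_smul_smul, show (z : G) • b = b from z.2.2]
  choose I hI1 hI2 hI3 hI4 using hI
  let f : Ω × Ω × Ω → Ω × Ω := fun e =>
    if h : e.1 ≠ e.2.1 then (e.2.2, I e.1 e.2.1 h • e.2.2) else (e.1, e.1)
  let T : Finset (Ω × Ω × Ω) :=
    Finset.univ.filter fun e => e.1 ≠ e.2.1 ∧ e.2.2 ≠ e.1 ∧ e.2.2 ≠ e.2.1
  let P : Finset (Ω × Ω) := Finset.univ.filter fun e => e.1 ≠ e.2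
  have hmove : ∀ p q x, ∀ h : p ≠ q, x ≠ p → x ≠ q → I p q h • x ≠ x := fun p q x h h1 h2 e => by
    rcases eq_or_eq hZ h (hI2 p q h) (hI3 p q h) (hI4 p q h) e with e | e
    · exact h1 e
    · exact h2 e
  have hmaps : ∀ e ∈ T, f e ∈ P := by
    rintro ⟨p, q, x⟩ he
    obtain ⟨h1, h2, h3⟩ := (Finset.mem_filter.mp he).2
    refine Finset.mem_filter.mpr ⟨Finset.mem_univ _, ?_⟩
    simp only [f, dif_pos h1]
    exact (hmove p q x h1 h2 h3).symm
  have hfib : ∀ w ∈ P, (T.filter fun e => f e = w).card ≤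
      2 * Nat.card ↥(stabilizer G a ⊓ stabilizer G b) := by
    rintro ⟨x, y⟩ hw
    have hxy : x ≠ y := (Finset.mem_filter.mp hw).2
    let S : Finset G := Finset.univ.filter fun g => g • x = y ∧ g • y = x ∧ g ≠ 1
    let g' : Ω × Ω × Ω → G := fun e => if h : e.1 ≠ e.2.1 then I e.1 e.2.1 h else 1
    have hS : S.card ≤ Nat.card ↥(stabilizer G a ⊓ stabilizer G b) := by
      rcases S.eq_empty_or_nonempty with e | ⟨g₀, hg₀⟩
      · rw [e]; simp
      obtain ⟨u1, u2, -⟩ := (Finset.mem_filter.mp hg₀).2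
      rw [← card_pair hZ hab hxy, ← Fintype.card_coe S, ← Nat.card_eq_fintype_card]
      refine Nat.card_le_card_of_injective (fun g : S => (⟨g₀⁻¹ * g.1, ?_, ?_⟩ :
        ↥(stabilizer G x ⊓ stabilizer G y))) fun g h e => Subtype.ext (by
          simpa using congrArg Subtype.val e)
      · show (g₀⁻¹ * g.1) • x = x
        rw [mul_smul, (Finset.mem_filter.mp g.2).2.1, inv_smul_eq_iff, u1]
      · show (g₀⁻¹ * g.1) • y = y
        rw [mul_smul, (Finset.mem_filter.mp g.2).2.2.1, inv_smul_eq_iff, u2]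
    refine le_trans ?_ (Nat.mul_le_mul_left 2 hS)
    refine Finset.card_le_mul_card_image_of_maps_to (f := g') ?_ 2 ?_
    · rintro ⟨p, q, t⟩ he
      obtain ⟨he, hfe⟩ := Finset.mem_filter.mp he
      obtain ⟨h1, h2, h3⟩ := (Finset.mem_filter.mp he).2
      simp only [f, dif_pos h1, Prod.mk.injEq] at hfe
      obtain ⟨rfl, rfl⟩ := hfe
      simp only [g', dif_pos h1]
      refine Finset.mem_filter.mpr ⟨Finset.mem_univ _, rfl, ?_, hI2 p q h1⟩
      rw [smul_smul, hI1, one_smul]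
    · intro g _
      rcases ((T.filter fun e => f e = (x, y)).filter fun e => g' e = g).eq_empty_or_nonempty
        with e | ⟨⟨p₀, q₀, t₀⟩, he₀⟩
      · rw [e]; simp
      refine le_trans (Finset.card_le_card (t := {(p₀, q₀, t₀), (q₀, p₀, t₀)}) ?_) Finset.card_le_two
      rintro ⟨p, q, t⟩ he
      obtain ⟨he, hge⟩ := Finset.mem_filter.mp he
      obtain ⟨he0, hge0⟩ := Finset.mem_filter.mp he₀
      obtain ⟨he, hfe⟩ := Finset.mem_filter.mp he
      obtain ⟨he0, hfe0⟩ := Finset.mem_filter.mp he0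
      have h1 := (Finset.mem_filter.mp he).2.1
      have h01 := (Finset.mem_filter.mp he0).2.1
      simp only at h1 h01
      simp only [f, dif_pos h1, dif_pos h01, Prod.mk.injEq] at hfe hfe0
      simp only [g', dif_pos h1, dif_pos h01] at hge hge0
      obtain rfl : t = t₀ := hfe.1.trans hfe0.1.symm
      have e : I p q h1 = I p₀ q₀ h01 := hge.trans hge0.symm
      have hp := eq_or_eq hZ h01 (hI2 p₀ q₀ h01) (hI3 p₀ q₀ h01) (hI4 p₀ q₀ h01)
        (w := p) (by rw [← e]; exact hI3 p q h1)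
      have hq := eq_or_eq hZ h01 (hI2 p₀ q₀ h01) (hI3 p₀ q₀ h01) (hI4 p₀ q₀ h01)
        (w := q) (by rw [← e]; exact hI4 p q h1)
      rcases hp with rfl | rfl <;> rcases hq with rfl | rfl <;> simp at h1 ⊢
  have hle := Finset.card_le_mul_card_image_of_maps_to hmaps _ hfib
  have hT : T.card = P.card * (Fintype.card Ω - 2) := by
    let R : Finset (Σ _ : Ω × Ω, Ω) := P.sigma fun e => ({e.1, e.2} : Finset Ω)ᶜ
    have e1 : T.card = R.card := by
      refine Finset.card_nbij' (fun e => ⟨(e.1, e.2.1), e.2.2⟩) (fun e => (e.1.1, e.1.2, e.2))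
        ?_ ?_ ?_ ?_
      · intro e he
        obtain ⟨h1, h2, h3⟩ := (Finset.mem_filter.mp he).2
        exact Finset.mem_sigma.mpr ⟨Finset.mem_filter.mpr ⟨Finset.mem_univ _, h1⟩, by simp [h2, h3]⟩
      · intro e he
        obtain ⟨h1, h2⟩ := Finset.mem_sigma.mp he
        simp only [Finset.mem_compl, Finset.mem_insert, Finset.mem_singleton, not_or] at h2
        exact Finset.mem_filter.mpr ⟨Finset.mem_univ _, (Finset.mem_filter.mp h1).2, h2.1, h2.2⟩
      · intro e _; rfl
      · intro e _; rfl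
    rw [e1, Finset.card_sigma, Finset.sum_congr rfl (g := fun _ => Fintype.card Ω - 2) fun e he => by
      rw [Finset.card_compl, Finset.card_pair (Finset.mem_filter.mp he).2],
      Finset.sum_const, smul_eq_mul]
  rw [hT, mul_comm] at hle
  refine Nat.le_of_mul_le_mul_right hle ?_
  exact Finset.card_pos.mpr ⟨(a, b), Finset.mem_filter.mpr ⟨Finset.mem_univ _, hab⟩⟩

end CfsgLib.Zass
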