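/-
Zassenhaus groups with two-point stabilisers of odd order and no normal complements.
-/
import Cfsg.Agent.Zass.PairStabilizer
import Cfsg.Agent.Char.Zassenhaus
import Mathlib

set_option autoImplicit false

namespace CfsgLib.Zass

open MulAction

variable {G Ω : Type*} [Group G] [MulAction G Ω]

/-- An automorphism of a cyclic group of odd prime power order whose square is trivial is trivial or
inverts. -/
theorem eq_or_inv_of_sq {q k : ℕ} (hq : q.Prime) (hq2 : q ≠ 2) {g x : G} (hx : orderOf x = q ^ k)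
    {r : ℤ} (hr : g * x * g⁻¹ = x ^ r) (h2 : g * g * x = x * (g * g)) :
    g * x * g⁻¹ = x ∨ g * x * g⁻¹ = x⁻¹ := by
  have e : x ^ (r * r) = x := by
    rw [zpow_mul, ← hr, conj_zpow, ← hr]
    calc g * (g * x * g⁻¹) * g⁻¹ = g * g * x * (g * g)⁻¹ := by group
      _ = x := by rw [h2, mul_inv_cancel_right]
  have hd : ((q ^ k : ℕ) : ℤ) ∣ (r - 1) * (r + 1) := by
    rw [← hx, orderOf_dvd_iff_zpow_eq_one, show (r - 1) * (r + 1) = r * r + (-1) by ring, zpow_add, e,
      zpow_neg, zpow_one, mul_inv_cancel]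
  push_cast at hd
  have hqi : Prime (q : ℤ) := Nat.prime_iff_prime_int.mp hq
  by_cases h : (q : ℤ) ∣ r - 1
  · have h' : ¬ (q : ℤ) ∣ r + 1 := fun h' => by
      have h3 := Int.le_of_dvd (by norm_num) (show (q : ℤ) ∣ 2 from by
        have := dvd_sub h' h; rwa [show r + 1 - (r - 1) = 2 by ring] at this)
      have := hq.two_le
      omega
    refine Or.inl ?_
    have hdd : ((q ^ k : ℕ) : ℤ) ∣ r - 1 := by
      push_cast
      exact (hqi.coprime_iff_not_dvd.mpr h').pow_left.dvd_of_dvd_mul_right hd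
    rw [← hx, orderOf_dvd_iff_zpow_eq_one, zpow_sub, zpow_one, mul_inv_eq_one] at hdd
    rw [hr, hdd]
  · refine Or.inr ?_
    have hdd : ((q ^ k : ℕ) : ℤ) ∣ r + 1 := by
      push_cast
      exact (hqi.coprime_iff_not_dvd.mpr h).pow_left.dvd_of_dvd_mul_left hd
    rw [← hx, orderOf_dvd_iff_zpow_eq_one, zpow_add, zpow_one, mul_eq_one_iff_eq_inv] at hdd
    rw [hr, hdd]

/-- The index of a two-point stabiliser. -/
theorem index_pair [Fintype Ω] (hZ : Cfsg.IsZassenhausGroup G Ω) {a b : Ω} (hab : a ≠ b) :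
    (stabilizer G a ⊓ stabilizer G b).index = Fintype.card Ω * (Fintype.card Ω - 1) := by
  classical
  have hst : stabilizer G (a, b) = stabilizer G a ⊓ stabilizer G b := by
    ext g
    simp [mem_stabilizer_iff, Prod.ext_iff, Subgroup.mem_inf]
  have horb : orbit G (a, b) = {e : Ω × Ω | e.1 ≠ e.2} := by
    ext ⟨x, y⟩
    constructor
    · rintro ⟨g, hg⟩
      simp only [Prod.smul_mk, Prod.mk.injEq] at hg
      show x ≠ y
      rw [← hg.1, ← hg.2]
      exact fun h => hab (smul_left_cancel g h)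
    · intro hxy
      obtain ⟨g, hga, hgb⟩ := two_trans hZ hab hxy
      exact ⟨g, Prod.ext hga hgb⟩
  rw [← hst, index_stabilizer, horb, ← Nat.card_coe_set_eq, Nat.card_eq_fintype_card]
  rw [show Fintype.card {e : Ω × Ω | e.1 ≠ e.2} = (Finset.univ : Finset Ω).offDiag.card by
    rw [← Set.toFinset_card]; congr 1; ext e; simp [Finset.mem_offDiag]]
  rw [Finset.offDiag_card, Finset.card_univ, Nat.mul_sub, mul_one]

/-- A prime dividing the order of a two-point stabiliser divides the degree minus two. -/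
theorem dvd_sub_two [Fintype Ω] [Finite G] (hZ : Cfsg.IsZassenhausGroup G Ω) {a b : Ω} (hab : a ≠ b)
    {q : ℕ} (hq : q.Prime) (hd : q ∣ Nat.card ↥(stabilizer G a ⊓ stabilizer G b)) :
    q ∣ Fintype.card Ω - 2 := by
  classical
  haveI : Fact q.Prime := ⟨hq⟩
  obtain ⟨x, hx⟩ := exists_prime_orderOf_dvd_card' (G := ↥(stabilizer G a ⊓ stabilizer G b)) q hd
  rw [← Subgroup.orderOf_coe] at hx
  have hx1 : (x : G) ≠ 1 := fun e => by rw [e, orderOf_one] at hx; exact hq.one_lt.ne hx
  have hp : IsPGroup q (Subgroup.zpowers (x : G)) :=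
    IsPGroup.of_card (n := 1) (by rw [Nat.card_zpowers, hx, pow_one])
  have hset : MulAction.fixedPoints (Subgroup.zpowers (x : G)) Ω = {a, b} := by
    ext w
    rw [mem_fixedPoints]
    constructor
    · intro h
      rcases eq_or_eq hZ hab hx1 x.2.1 x.2.2 (h ⟨x, Subgroup.mem_zpowers _⟩) with e | e
      · exact Or.inl e
      · exact Or.inr e
    · rintro hw ⟨t, i, rfl⟩
      have hxw : (x : G) ∈ stabilizer G w := by
        rcases hw with rfl | rfl
        · exact x.2.1
        · exact x.2.2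
      exact (mem_stabilizer_iff.mp (zpow_mem hxw i) :)
  have h := hp.card_modEq_card_fixedPoints Ω
  rw [hset, Nat.card_coe_set_eq, Set.ncard_pair hab, Nat.card_eq_fintype_card] at h
  have h3 := CfsgLib.Char.zassenhaus_three_le hZ
  exact (Nat.modEq_iff_dvd' (by omega)).mp h.symm

theorem odd_pair [Fintype Ω] [Finite G] (hZ : Cfsg.IsZassenhausGroup G Ω) {a b : Ω} (hab : a ≠ b)
    (hodd : Odd (Nat.card ↥(stabilizer G a ⊓ stabilizer G b)))
    (hnil : ∀ q : ℕ, q.Prime → q ∣ Nat.card ↥(stabilizer G a ⊓ stabilizer G b) →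
      ¬ ∃ N : Subgroup G, N.Normal ∧ N.index = q ^ (Nat.card G).factorization q) :
    IsCyclic ↥(stabilizer G a ⊓ stabilizer G b) ∧
      Subgroup.centralizer ((stabilizer G a ⊓ stabilizer G b : Subgroup G) : Set G) =
        stabilizer G a ⊓ stabilizer G b ∧
      ∀ s : G, s • a = b → s • b = a → ∀ h ∈ stabilizer G a ⊓ stabilizer G b, s * h * s⁻¹ = h⁻¹ := by
  classical
  obtain ⟨K, φ, hφ, hKnt⟩ := exists_fpf_action hZ hab
  haveI := hKnt
  let H : Subgroup G := stabilizer G a ⊓ stabilizer G b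
  have hH1 : ∃ x ∈ H, x ≠ (1 : G) := by
    obtain ⟨g, hg1, p, r, hpr, hp, hr⟩ := hZ.2.2.2.1
    obtain ⟨k, hka, hkb⟩ := two_trans hZ hpr hab
    refine ⟨k * g * k⁻¹, ⟨?_, ?_⟩, fun e => hg1 (by simpa using e)⟩
    · show (k * g * k⁻¹) • a = a
      rw [← hka, mul_smul, mul_smul, inv_smul_smul, hp]
    · show (k * g * k⁻¹) • b = b
      rw [← hkb, mul_smul, mul_smul, inv_smul_smul, hr]
  have hpres : ∀ g : G, g • a = b → g • b = a → ∀ h ∈ H, g * h * g⁻¹ ∈ H := by
    intro g hga hgb h hh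
    refine ⟨?_, ?_⟩
    · show (g * h * g⁻¹) • a = a
      rw [mul_smul, mul_smul, inv_smul_eq_iff.mpr hgb.symm, show h • b = b from hh.2, hgb]
    · show (g * h * g⁻¹) • b = b
      rw [mul_smul, mul_smul, inv_smul_eq_iff.mpr hga.symm, show h • a = a from hh.1, hga]
  -- normalisers of non-trivial subgroups of `H` preserve `{a, b}`
  have hN : ∀ g : G, ∀ x ∈ H, x ≠ 1 → g * x * g⁻¹ ∈ H →
      g ∈ H ∨ (g • a = b ∧ g • b = a) := by
    intro g x hx hx1 hgx
    have hne : g * x * g⁻¹ ≠ 1 := fun h => hx1 (by simpa using h)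
    have h1 : ∀ w : Ω, x • w = w → g • w = a ∨ g • w = b := fun w hw =>
      eq_or_eq hZ hab hne hgx.1 hgx.2 (by rw [← mul_smul, inv_mul_cancel_right, mul_smul, hw])
    rcases h1 a hx.1 with h | h <;> rcases h1 b hx.2 with h' | h'
    · exact absurd (smul_left_cancel g (h.trans h'.symm)) hab
    · exact Or.inl ⟨h, h'⟩
    · exact Or.inr ⟨h, h'⟩
    · exact absurd (smul_left_cancel g (h.trans h'.symm)) hab
  have hHpos : 0 < Nat.card H := Nat.card_pos
  -- every Sylow subgroup of `H` is inverted by a swap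
  have hkey : ∀ q : ℕ, ∀ hq : q.Prime, q ∣ Nat.card H → ∀ Q : Sylow q H,
      (∀ h : H, (∀ x ∈ (Q : Subgroup H), h * x * h⁻¹ ∈ (Q : Subgroup H)) →
        ∀ x ∈ (Q : Subgroup H), h * x = x * h) →
      ∃ g : G, g • a = b ∧ g • b = a ∧ ∀ x ∈ (Q : Subgroup H), g * (x : G) * g⁻¹ = (x : G)⁻¹ := by
    intro q hq hdvd Q hcent
    haveI : Fact q.Prime := ⟨hq⟩
    have hq2 : q ≠ 2 := fun e => by
      subst e
      exact Nat.not_even_iff_odd.mpr hodd (even_iff_two_dvd.mpr hdvd)
    have hfac : (Nat.card G).factorization q = (Nat.card H).factorization q := by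
      rw [← Subgroup.card_mul_index H, index_pair hZ hab, Nat.factorization_mul hHpos.ne' ?_]
      · have h2 := dvd_sub_two hZ hab hq hdvd
        have h3 := CfsgLib.Char.zassenhaus_three_le hZ
        have hnd : ¬ q ∣ Fintype.card Ω * (Fintype.card Ω - 1) := by
          intro h
          rcases hq.dvd_mul.mp h with h | h
          · have := Nat.le_of_dvd (by norm_num) (show q ∣ 2 from by
              have := Nat.dvd_sub h h2
              rwa [show Fintype.card Ω - (Fintype.card Ω - 2) = 2 by omega] at this)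
            have := hq.two_le
            omega
          · have := Nat.dvd_sub h h2
            rw [show Fintype.card Ω - 1 - (Fintype.card Ω - 2) = 1 by omega, Nat.dvd_one] at this
            exact hq.one_lt.ne' this
        simp [Nat.factorization_eq_zero_of_not_dvd hnd]
      · have h3 := CfsgLib.Char.zassenhaus_three_le hZ
        exact Nat.mul_ne_zero (by omega) (by omega)
    let Qm : Subgroup G := (Q : Subgroup H).map H.subtype
    have hQcard : Nat.card Qm = q ^ (Nat.card H).factorization q := by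
      rw [Subgroup.card_map_of_injective H.subtype_injective, Q.card_eq_multiplicity]
    let P : Sylow q G := Sylow.ofCard Qm (by rw [hfac]; exact hQcard)
    have hPQ : (P : Subgroup G) = Qm := rfl
    haveI hQcyc : IsCyclic Q := by
      rcases CfsgLib.FpfComplement.sylow_cyclic_or_quaternion hφ q Q with h | ⟨h, -⟩
      · exact h
      · exact absurd h hq2
    haveI hQmc : IsMulCommutative Qm := inferInstance
    have hnc : ¬ Subgroup.normalizer ((P : Subgroup G) : Set G) ≤
        Subgroup.centralizer ((P : Subgroup G) : Set G) := by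
      intro h
      refine hnil q hq hdvd ⟨(MonoidHom.transferSylow P h).ker, inferInstance, ?_⟩
      rw [(MonoidHom.ker_transferSylow_isComplement' P h).symm.index_eq_card, hPQ, hQcard, hfac]
    obtain ⟨g, hg, hgc⟩ := Set.not_subset.mp hnc
    rw [SetLike.mem_coe, Subgroup.mem_centralizer_iff] at hgc
    push Not at hgc
    obtain ⟨y, hy, hgy⟩ := hgc
    rw [hPQ] at hg hy
    have hy1 : y ≠ 1 := fun e => hgy (by rw [e, one_mul, mul_one])
    have hQmH : ∀ {z : G}, z ∈ Qm → z ∈ H := fun {z} hz => Subgroup.map_subtype_le _ hz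
    have hnorm : ∀ z ∈ Qm, g * z * g⁻¹ ∈ Qm := fun z hz => (Subgroup.mem_normalizer_iff.mp hg z).mp hz
    have hcomm : ∀ h ∈ H, (∀ z ∈ Qm, h * z * h⁻¹ ∈ Qm) → ∀ z ∈ Qm, h * z = z * h := by
      rintro h hh hn z ⟨z', hz', rfl⟩
      refine congrArg Subtype.val (hcent ⟨h, hh⟩ (fun x hx => ?_) z' hz')
      obtain ⟨w, hw, e⟩ := hn x ⟨x, hx, rfl⟩
      have e' : w = (⟨h, hh⟩ : H) * x * (⟨h, hh⟩ : H)⁻¹ := Subtype.ext e
      exact e' ▸ hw
    rcases hN g y (hQmH hy) hy1 (hQmH (hnorm y hy)) with hgH | ⟨hga, hgb⟩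
    · exact absurd (hcomm g hgH hnorm y hy) (fun e => hgy e.symm)
    refine ⟨g, hga, hgb, ?_⟩
    obtain ⟨⟨x₀, hx₀⟩, hgen⟩ := hQcyc.exists_generator (α := Q)
    have hx₀m : (x₀ : G) ∈ Qm := ⟨x₀, hx₀, rfl⟩
    obtain ⟨k, hk⟩ := IsPGroup.iff_orderOf.mp Q.2 ⟨x₀, hx₀⟩
    rw [← Subgroup.orderOf_coe, ← Subgroup.orderOf_coe] at hk
    have hall : ∀ z ∈ Qm, ∃ i : ℤ, (x₀ : G) ^ i = z := by
      rintro z ⟨z', hz', rfl⟩
      obtain ⟨i, hi⟩ := hgen ⟨z', hz'⟩
      exact ⟨i, by simpa using congrArg (fun t : Q => ((t : H) : G)) hi⟩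
    obtain ⟨r, hr⟩ := hall _ (hnorm _ hx₀m)
    have hggH : g * g ∈ H := ⟨show (g * g) • a = a by rw [mul_smul, hga, hgb],
      show (g * g) • b = b by rw [mul_smul, hgb, hga]⟩
    have h2 : g * g * (x₀ : G) = x₀ * (g * g) := hcomm _ hggH (fun z hz => by
      have := hnorm _ (hnorm z hz)
      rwa [show g * (g * z * g⁻¹) * g⁻¹ = g * g * z * (g * g)⁻¹ by group] at this) _ hx₀m
    rcases eq_or_inv_of_sq hq hq2 hk hr.symm h2 with e | e
    · exfalso
      obtain ⟨i, rfl⟩ := hall y hy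
      exact hgy ((Commute.zpow_right (mul_inv_eq_iff_eq_mul.mp e : Commute g (x₀ : G)) i).eq.symm)
    · intro x hx
      obtain ⟨i, hi⟩ := hall _ ⟨x, hx, rfl⟩
      simp only [Subgroup.coe_subtype] at hi
      rw [← hi, ← conj_zpow, e, inv_zpow]
  -- a fixed swap
  obtain ⟨s₀, hs₀a, hs₀b⟩ := two_trans hZ hab hab.symm
  let σ : H →* H := MonoidHom.mk' (fun h => ⟨s₀ * h * s₀⁻¹, hpres s₀ hs₀a hs₀b _ h.2⟩)
    (fun x y => Subtype.ext (by
      show s₀ * ((x : G) * y) * s₀⁻¹ = s₀ * x * s₀⁻¹ * (s₀ * y * s₀⁻¹)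
      group))
  have hσbij : Function.Bijective σ := Finite.injective_iff_bijective.mp fun x y e => by
    refine Subtype.ext ?_
    have e' : s₀ * (x : G) * s₀⁻¹ = s₀ * (y : G) * s₀⁻¹ := congrArg Subtype.val e
    exact mul_left_cancel (mul_right_cancel e')
  have hrel : ∀ g : G, g • a = b → g • b = a → s₀ * g⁻¹ ∈ H := by
    intro g hga hgb
    exact ⟨show (s₀ * g⁻¹) • a = a by rw [mul_smul, inv_smul_eq_iff.mpr hgb.symm, hs₀b],
      show (s₀ * g⁻¹) • b = b by rw [mul_smul, inv_smul_eq_iff.mpr hga.symm, hs₀a]⟩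
  haveI hZG : IsZGroup H := ⟨fun q hq Q => by
    haveI : Fact q.Prime := ⟨hq⟩
    rcases CfsgLib.FpfComplement.sylow_cyclic_or_quaternion hφ q Q with h | ⟨h, n, hn, ⟨e⟩⟩
    · exact h
    · exfalso
      subst h
      have hd := Subgroup.card_subgroup_dvd_card (Q : Subgroup H)
      have hc : Nat.card Q = Nat.card (QuaternionGroup (2 ^ n)) := Nat.card_congr e.toEquiv
      haveI : NeZero (2 ^ n) := ⟨by positivity⟩
      rw [hc, Nat.card_eq_fintype_card, QuaternionGroup.card] at hd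
      exact Nat.not_even_iff_odd.mpr hodd (even_iff_two_dvd.mpr ((dvd_mul_right 2 2).trans ((dvd_mul_right 4 _).trans hd)))⟩
  let A : Subgroup H := commutator H
  haveI hAcyc : IsCyclic A := IsZGroup.isCyclic_commutator H
  have hcop : (Nat.card A).Coprime A.index := IsZGroup.coprime_commutator_index H
  let π : H →* Abelianization H := Abelianization.of
  have hπA : ∀ {h : H}, h ∈ A → π h = 1 := fun {h} hh => by
    have : h ∈ π.ker := by rw [Abelianization.ker_of]; exact hh
    exact this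
  have hπA' : ∀ {h : H}, π h = 1 → h ∈ A := fun {h} hh => by
    have : h ∈ π.ker := hh
    rwa [Abelianization.ker_of] at this
  let f : H →* Abelianization H := (π.comp σ) * π
  have hftriv : ∀ h : H, π (σ h) * π h = 1 := by
    have hAker : A ≤ f.ker := fun h hh => by
      show π (σ h) * π h = 1
      have : σ h ∈ A := by
        have := Subgroup.mem_map_of_mem σ hh
        rw [show A = ⁅(⊤ : Subgroup H), ⊤⁆ from commutator_def H, Subgroup.map_commutator] at this
        exact Subgroup.commutator_mono le_top le_top this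
      rw [hπA this, hπA hh, one_mul]
    suffices f.ker = ⊤ from fun h => (this ▸ Subgroup.mem_top h : h ∈ f.ker)
    rw [← Subgroup.index_eq_one]
    by_contra hne
    obtain ⟨q, hq, hqd⟩ := Nat.exists_prime_and_dvd hne
    haveI : Fact q.Prime := ⟨hq⟩
    have hqA : q ∣ A.index := hqd.trans (Subgroup.index_dvd_of_le hAker)
    obtain ⟨Q⟩ := (inferInstance : Nonempty (Sylow q H))
    have hQA : ∀ z ∈ (Q : Subgroup H), z ∈ A → z = 1 := fun z hz hzA => by
      obtain ⟨k, hk⟩ := IsPGroup.iff_orderOf.mp Q.2 ⟨z, hz⟩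
      rw [← Subgroup.orderOf_coe] at hk
      rw [← orderOf_eq_one_iff]
      refine Nat.eq_one_of_dvd_coprimes (Nat.Coprime.pow_left k (hq.coprime_iff_not_dvd.mpr ?_))
        (dvd_of_eq hk) (Subgroup.orderOf_dvd_natCard _ hzA)
      exact fun hd => hq.one_lt.ne' (Nat.eq_one_of_dvd_coprimes hcop hd hqA)
    have hqH : q ∣ Nat.card H := hqA.trans (Subgroup.index_dvd_card _)
    obtain ⟨g, hga, hgb, hginv⟩ := hkey q hq hqH Q fun h hn x hx => by
      have h1 : h * x * h⁻¹ * x⁻¹ = 1 := hQA _ (mul_mem (hn x hx) (inv_mem hx))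
        (hπA' (by simp [mul_comm]))
      exact mul_inv_eq_iff_eq_mul.mp (mul_inv_eq_one.mp h1)
    have hQker : (Q : Subgroup H) ≤ f.ker := fun x hx => by
      show π (σ x) * π x = 1
      let c : H := ⟨s₀ * g⁻¹, hrel g hga hgb⟩
      have e : σ x = c * x⁻¹ * c⁻¹ := Subtype.ext (by
        show s₀ * (x : G) * s₀⁻¹ = s₀ * g⁻¹ * (x : G)⁻¹ * (s₀ * g⁻¹)⁻¹
        rw [← hginv x hx]; group)
      rw [e, map_mul, map_mul, map_inv, map_inv, mul_comm (π c), mul_inv_cancel_right, inv_mul_cancel]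
    exact Q.not_dvd_index (hqd.trans (Subgroup.index_dvd_of_le hQker))
  have hAcent : A ≤ Subgroup.center H := by
    intro a' ha'
    obtain ⟨⟨a₀, ha₀⟩, hgen⟩ := hAcyc.exists_generator (α := A)
    have hall : ∀ z ∈ A, ∃ i : ℤ, a₀ ^ i = z := fun z hz => by
      obtain ⟨i, hi⟩ := hgen ⟨z, hz⟩
      exact ⟨i, by simpa using congrArg Subtype.val hi⟩
    have hσA : ∀ z ∈ A, σ z ∈ A := fun z hz => by
      have := Subgroup.mem_map_of_mem σ hz
      rw [show A = ⁅(⊤ : Subgroup H), ⊤⁆ from commutator_def H, Subgroup.map_commutator] at this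
      exact Subgroup.commutator_mono le_top le_top this
    obtain ⟨t, ht⟩ := hall _ (hσA a₀ ha₀)
    have hAn : A.Normal := inferInstance
    have hcm : ∀ h : H, Commute (h * h) (σ a₀) := by
      intro h
      obtain ⟨r, hr⟩ := hall _ (hAn.conj_mem a₀ ha₀ h)
      have e1 : σ h * σ a₀ * (σ h)⁻¹ = h * σ a₀ * h⁻¹ := by
        rw [← map_inv, ← map_mul, ← map_mul, ← hr, map_zpow, ← ht, ← conj_zpow, ← hr, ← zpow_mul,
          ← zpow_mul, mul_comm]
      obtain ⟨m, hm, em⟩ : ∃ m ∈ A, σ h = h⁻¹ * m :=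
        ⟨h * σ h, hπA' (by rw [map_mul, mul_comm, hftriv]), by group⟩
      rw [em] at e1
      have e2 : h⁻¹ * σ a₀ * h = h * σ a₀ * h⁻¹ := by
        rw [← e1]
        have : m * σ a₀ = σ a₀ * m := setLike_mul_comm hm (hσA a₀ ha₀)
        calc h⁻¹ * σ a₀ * h = h⁻¹ * (σ a₀ * m) * m⁻¹ * h := by group
          _ = h⁻¹ * (m * σ a₀) * m⁻¹ * h := by rw [this]
          _ = h⁻¹ * m * σ a₀ * (h⁻¹ * m)⁻¹ := by group
      show h * h * σ a₀ = σ a₀ * (h * h)
      calc h * h * σ a₀ = h * (h * σ a₀ * h⁻¹) * h := by group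
        _ = h * (h⁻¹ * σ a₀ * h) * h := by rw [e2]
        _ = σ a₀ * (h * h) := by group
    have hcm' : ∀ h : H, Commute h (σ a₀) := by
      intro h
      have ho : Odd (orderOf h) := hodd.of_dvd_nat (orderOf_dvd_natCard h)
      obtain ⟨e, he⟩ := exists_pow_eq_self_of_coprime (x := h) (n := 2) ho.coprime_two_left
      rw [← he, sq]
      exact (hcm h).pow_left e
    -- `σ` is surjective on `A`
    have hσsurj : ∃ z ∈ A, σ z = a' := by
      have hfin : Function.Surjective (fun z : A => (⟨σ z, hσA z z.2⟩ : A)) :=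
        (Finite.injective_iff_bijective.mp fun x y e =>
          Subtype.ext (hσbij.1 (congrArg Subtype.val e))).2
      obtain ⟨z, hz⟩ := hfin ⟨a', ha'⟩
      exact ⟨z, z.2, congrArg Subtype.val hz⟩
    obtain ⟨z, hz, rfl⟩ := hσsurj
    obtain ⟨i, rfl⟩ := hall z hz
    rw [map_zpow]
    exact Subgroup.mem_center_iff.mpr fun h => ((hcm' h).zpow_right i).eq
  have habel : ∀ x y : H, x * y = y * x := fun x y =>
    haveI : IsCyclic (Abelianization H) := inferInstance
    commutative_of_cyclic_center_quotient π (by rw [Abelianization.ker_of]; exact hAcent) x y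
  refine ⟨hφ.isCyclic_of_comm habel, ?_⟩
  have hinv : ∀ s : G, s • a = b → s • b = a → ∀ h ∈ H, s * h * s⁻¹ = h⁻¹ := by
    intro s hsa hsb
    let S : Subgroup H :=
      { carrier := {h | s * (h : G) * s⁻¹ = (h : G)⁻¹}
        one_mem' := by simp
        mul_mem' := by
          intro x y hx hy
          simp only [Set.mem_setOf_eq, Subgroup.coe_mul] at *
          rw [show s * ((x : G) * y) * s⁻¹ = s * x * s⁻¹ * (s * y * s⁻¹) by group, hx, hy, ← mul_inv_rev]
          exact congrArg (fun t : H => (t : G)⁻¹) (habel y x)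
        inv_mem' := by
          intro x hx
          simp only [Set.mem_setOf_eq, Subgroup.coe_inv] at *
          rw [← conj_inv, hx] }
    suffices S = ⊤ from fun h hh => (this ▸ Subgroup.mem_top _ : (⟨h, hh⟩ : H) ∈ S)
    rw [← Subgroup.index_eq_one]
    by_contra hne
    obtain ⟨q, hq, hqd⟩ := Nat.exists_prime_and_dvd hne
    haveI : Fact q.Prime := ⟨hq⟩
    obtain ⟨Q⟩ := (inferInstance : Nonempty (Sylow q H))
    obtain ⟨g, hga, hgb, hginv⟩ := hkey q hq (hqd.trans (Subgroup.index_dvd_card _)) Q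
      fun h _ x _ => habel h x
    have hQS : (Q : Subgroup H) ≤ S := fun x hx => by
      show s * (x : G) * s⁻¹ = (x : G)⁻¹
      have hc : g⁻¹ * s ∈ H := ⟨show (g⁻¹ * s) • a = a by rw [mul_smul, hsa, inv_smul_eq_iff, hga],
        show (g⁻¹ * s) • b = b by rw [mul_smul, hsb, inv_smul_eq_iff, hgb]⟩
      have hcx : g⁻¹ * s * (x : G) = x * (g⁻¹ * s) := congrArg Subtype.val (habel ⟨_, hc⟩ x)
      calc s * (x : G) * s⁻¹ = g * (g⁻¹ * s * x) * s⁻¹ := by group
        _ = g * (x * (g⁻¹ * s)) * s⁻¹ := by rw [hcx]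
        _ = g * x * g⁻¹ := by group
        _ = _ := hginv x hx
    exact Q.not_dvd_index (hqd.trans (Subgroup.index_dvd_of_le hQS))
  refine ⟨le_antisymm (fun c hc => ?_) (fun c hc => ?_), hinv⟩
  · obtain ⟨x, hx, hx1⟩ := hH1
    have hcx := Subgroup.mem_centralizer_iff.mp hc x hx
    rcases hN c x hx hx1 (by rw [← hcx, mul_inv_cancel_right]; exact hx) with h | ⟨h1, h2⟩
    · exact h
    · exfalso
      have e := hinv c h1 h2 x hx
      rw [← hcx, mul_inv_cancel_right] at e
      have hxx : orderOf x ∣ 2 := orderOf_dvd_of_pow_eq_one (by rw [sq]; exact mul_eq_one_iff_eq_inv.mpr e)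
      have hxH : orderOf x ∣ Nat.card H := Subgroup.orderOf_dvd_natCard _ hx
      exact hx1 (orderOf_eq_one_iff.mp (Nat.eq_one_of_dvd_coprimes hodd.coprime_two_left hxx hxH))
  · rw [Subgroup.mem_centralizer_iff]
    exact fun y hy => congrArg Subtype.val (habel ⟨y, hy⟩ ⟨c, hc⟩)

end CfsgLib.Zass
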