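import Cfsg.Agent.Zass.PairStabilizer
import Cfsg.Agent.Char.ZassenhausCount
import Mathlib

/-!
Zassenhaus groups: the two-point stabiliser is semiregular on the other points.
-/

set_option autoImplicit false
set_option linter.style.haveILetI false

namespace CfsgLib.Zass

open MulAction

variable {G Ω : Type*} [Group G] [Finite G] [MulAction G Ω] [Fintype Ω]

theorem card_pair_dvd_sub_two (hZ : Cfsg.IsZassenhausGroup G Ω) {a b : Ω} (hab : a ≠ b) :
    Nat.card ↥(stabilizer G a ⊓ stabilizer G b) ∣ Fintype.card Ω - 2 := by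
  classical
  let E : Subgroup G := stabilizer G a ⊓ stabilizer G b
  letI := Fintype.ofFinite E
  let W := {w : Ω // w ≠ a ∧ w ≠ b}
  letI : MulAction E W :=
    { smul := fun h w => ⟨(h : G) • w.1,
        fun e => w.2.1 (smul_left_cancel (h : G) (e.trans (h.2.1 : (h : G) • a = a).symm)),
        fun e => w.2.2 (smul_left_cancel (h : G) (e.trans (h.2.2 : (h : G) • b = b).symm))⟩
      one_smul := fun w => Subtype.ext (one_smul G w.1)
      mul_smul := fun h k w => Subtype.ext (mul_smul (h : G) k w.1) }
  have hstab : ∀ w : W, stabilizer E w = ⊥ := fun w => by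
    refine (Subgroup.eq_bot_iff_forall _).2 fun h hh => ?_
    have e : (h : G) • w.1 = w.1 := congrArg Subtype.val hh
    by_contra h1
    rcases eq_or_eq hZ hab (fun h' => h1 (Subtype.ext h')) h.2.1 h.2.2 e with e' | e'
    · exact w.2.1 e'
    · exact w.2.2 e'
  have hW : Fintype.card W = Fintype.card Ω - 2 := by
    rw [Fintype.card_subtype, show (Finset.univ.filter fun w : Ω => w ≠ a ∧ w ≠ b) = {a, b}ᶜ by
      ext w; simp, Finset.card_compl, Finset.card_pair hab]
  have h := card_eq_sum_card_group_div_card_stabilizer (α := E) (β := W)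
  have h1 : ∀ w : W, Fintype.card (stabilizer E w) = 1 := fun w => by
    rw [← Nat.card_eq_fintype_card, hstab w, Subgroup.card_bot]
  simp only [h1, Nat.div_one, Finset.sum_const, Finset.card_univ, smul_eq_mul] at h
  rw [← hW, h, Nat.card_eq_fintype_card]
  exact dvd_mul_left _ _

/-- With two-point stabilisers of the largest possible order the group is sharply 3-transitive. -/
theorem sharply_of_full (hZ : Cfsg.IsZassenhausGroup G Ω) {a b : Ω} (hab : a ≠ b)
    (hfull : Fintype.card Ω - 2 = Nat.card ↥(stabilizer G a ⊓ stabilizer G b)) :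
    IsMultiplyPretransitive G Ω 3 ∧ ∀ t : Fin 3 ↪ Ω, stabilizer G t = ⊥ := by
  classical
  have hsharp : ∀ t : Fin 3 ↪ Ω, stabilizer G t = ⊥ := fun t => by
    refine (Subgroup.eq_bot_iff_forall _).2 fun g hg => ?_
    have h : ∀ i, g • t i = t i := fun i => congrArg (fun e : Fin 3 ↪ Ω => e i) hg
    exact hZ.2.2.1 g (t 0) (t 1) (t 2) (t.injective.ne (by decide)) (t.injective.ne (by decide))
      (t.injective.ne (by decide)) (h 0) (h 1) (h 2)
  haveI := Fintype.ofFinite G
  refine ⟨⟨fun u v => ?_⟩, hsharp⟩
  have hinj : Function.Injective fun g : G => g • u := fun g g' e => by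
    have : g'⁻¹ * g ∈ stabilizer G u := by
      show (g'⁻¹ * g) • u = u
      rw [mul_smul, inv_smul_eq_iff]
      exact e
    rw [hsharp, Subgroup.mem_bot, inv_mul_eq_one] at this
    exact this.symm
  have hcard : Fintype.card G = Fintype.card (Fin 3 ↪ Ω) := by
    rw [Fintype.card_embedding_eq, Fintype.card_fin, ← Nat.card_eq_fintype_card (α := G),
      CfsgLib.Char.zass_card_group hZ hab, ← hfull]
    simp only [Nat.descFactorial_succ, Nat.descFactorial_zero, Nat.sub_zero]
    ring
  exact ((Fintype.bijective_iff_injective_and_card _).2 ⟨hinj, hcard⟩).2 v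

end CfsgLib.Zass
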