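import Cfsg.Agent.Zass.HalfField
import Cfsg.Agent.Classical.PSLTwo
import Cfsg.Agent.RootSubgroups.SL2Pair
import Mathlib

/-!
Zassenhaus groups of degree `2 d + 2` with abelian kernel are `PSL(2, q)`.
-/

set_option autoImplicit false
set_option linter.style.haveILetI false

namespace CfsgLib.Zass

open MulAction Finset OnePoint CfsgLib.Dickson

variable {G Ω : Type*} [Group G] [Finite G] [MulAction G Ω] [Fintype Ω]

/-- In a field of odd order `q ≡ 1 mod 4` some non-square is followed by a square. -/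
theorem exists_nonsquare_succ {K : Type*} [Field K] [Fintype K] (hchar : ringChar K ≠ 2) :
    ∃ r : K, ¬ IsSquare r ∧ IsSquare (r + 1) := by
  classical
  by_contra hno
  push Not at hno
  set N : Finset K := univ.filter fun x => ¬ IsSquare x with hN
  obtain ⟨ν, hν⟩ := FiniteField.exists_nonsquare hchar
  have hν0 : ν ≠ 0 := fun e => hν (e ▸ IsSquare.zero)
  have hmul : ∀ x : K, x ≠ 0 → (¬ IsSquare (ν * x) ↔ IsSquare x) := fun x hx => by
    constructor
    · intro h
      by_contra h'
      exact h ((FiniteField.isSquare_iff hchar (mul_ne_zero hν0 hx)).2 (by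
        rw [mul_pow, (FiniteField.pow_dichotomy hchar hν0).resolve_left
            (fun e => hν ((FiniteField.isSquare_iff hchar hν0).2 e)),
          (FiniteField.pow_dichotomy hchar hx).resolve_left
            (fun e => h' ((FiniteField.isSquare_iff hchar hx).2 e)), neg_one_mul, neg_neg]))
    · intro h h'
      refine hν ?_
      have := h'.mul h.inv
      rwa [mul_assoc, mul_inv_cancel₀ hx, mul_one] at this
  have hcard : (N.card : K) * 2 = -1 + 1 - 1 := by
    have h1 : (univ.filter fun x : K => x ≠ 0 ∧ IsSquare x).card = N.card := by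
      refine Finset.card_nbij' (fun x => ν * x) (fun x => ν⁻¹ * x) ?_ ?_ ?_ ?_
      · intro x hx
        simp only [hN, mem_coe, mem_filter, mem_univ, true_and] at hx ⊢
        exact (hmul x hx.1).2 hx.2
      · intro x hx
        simp only [hN, mem_coe, mem_filter, mem_univ, true_and] at hx ⊢
        have hx0 : x ≠ 0 := fun e => hx (e ▸ IsSquare.zero)
        have h0 : ν⁻¹ * x ≠ 0 := mul_ne_zero (inv_ne_zero hν0) hx0
        refine ⟨h0, (hmul _ h0).1 ?_⟩
        rwa [← mul_assoc, mul_inv_cancel₀ hν0, one_mul]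
      · intro x _; simp [hν0]
      · intro x _; simp [hν0]
    have h2 : (univ.filter fun x : K => x ≠ 0 ∧ IsSquare x).card + N.card + 1 = Fintype.card K := by
      rw [← card_union_of_disjoint, ← card_univ, ← card_insert_of_notMem (a := (0 : K))]
      · congr 1
        ext x
        simp only [hN, mem_insert, mem_union, mem_filter, mem_univ, true_and, iff_true]
        tauto
      · simp [hN, IsSquare.zero]
      · rw [Finset.disjoint_left]
        intro x hx hx'
        exact (mem_filter.1 hx').2 (mem_filter.1 hx).2.2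
    have h3 := congrArg (fun k : ℕ => (k : K)) h2
    simp only [h1, Nat.cast_add, Nat.cast_one, FiniteField.cast_card_eq_zero] at h3
    linear_combination h3
  -- translation by one permutes the non-squares
  have hmaps : ∀ x ∈ N, x + 1 ∈ N := fun x hx =>
    mem_filter.2 ⟨mem_univ _, hno x (mem_filter.1 hx).2⟩
  have himg : N.image (fun x => x + 1) = N :=
    eq_of_subset_of_card_le (image_subset_iff.2 hmaps)
      (by rw [card_image_of_injective _ (add_left_injective 1)])
  have hsum : ∑ x ∈ N, x + (N.card : K) = ∑ x ∈ N, x := by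
    conv_rhs => rw [← himg, sum_image fun x _ y _ h => add_left_injective 1 h]
    rw [sum_add_distrib, sum_const, nsmul_one]
  rw [add_eq_left] at hsum
  rw [hsum] at hcard
  norm_num at hcard

/-- The recognition theorem for degree `2 d + 2`. -/
theorem half_psl (hZ : Cfsg.IsZassenhausGroup G Ω) {a b : Ω} (hab : a ≠ b)
    (F : Subgroup G) (hFa : F ≤ stabilizer G a) (hFcard : Nat.card F + 1 = Fintype.card Ω)
    (hFfix : ∀ u ∈ F, u ≠ 1 → ∀ c : Ω, u • c = c → c = a) (hFcomm : IsMulCommutative F)
    (hhalf : 2 * Nat.card ↥(stabilizer G a ⊓ stabilizer G b) + 2 = Fintype.card Ω) :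
    ∃ (K : Type) (_ : Field K) (_ : Fintype K), ringChar K ≠ 2 ∧
      Fintype.card K + 1 = Fintype.card Ω ∧ 3 < Fintype.card K ∧
      Nonempty (G ≃* Matrix.ProjectiveSpecialLinearGroup (Fin 2) K) := by
  classical
  haveI := hZ.1
  haveI := Fintype.ofFinite G
  set d := Nat.card ↥(stabilizer G a ⊓ stabilizer G b) with hd
  let E : Subgroup G := stabilizer G a ⊓ stabilizer G b
  have hsq : ∀ s : G, s • a = b → s • b = a → s * s = 1 := fun s h1 h2 =>
    swap_sq_of_half hZ hab F hFa hFcard hFfix hFcomm hhalf h1 h2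
  obtain ⟨t, hta, htb⟩ := two_trans hZ hab hab.symm
  have htt := hsq t hta htb
  have hinv : ∀ h ∈ E, t * h * t⁻¹ = h⁻¹ := by
    intro h hh
    have e := hsq (t * h) (by rw [mul_smul, show h • a = a from hh.1, hta])
      (by rw [mul_smul, show h • b = b from hh.2, htb])
    rw [inv_eq_of_mul_eq_one_right htt, eq_inv_iff_mul_eq_one]
    rwa [← mul_assoc] at e
  have hEcomm : ∀ x ∈ E, ∀ y ∈ E, x * y = y * x := by
    intro x hx y hy
    have e1 := hinv _ (mul_mem hx hy)
    have e2 : (x * y)⁻¹ = x⁻¹ * y⁻¹ := by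
      rw [← hinv x hx, ← hinv y hy, ← e1]
      group
    simpa using congrArg (fun t => t⁻¹) e2
  obtain ⟨K, hKf, hKfin, hKdec, e, c, hchar, hKcard, ebij, einf, e0, htr, hsc, hcimg⟩ :=
    exists_half_coords hZ hab F hFa hFcard hFfix hFcomm hEcomm hhalf
  have hd1 : 1 < d := CfsgLib.Char.zass_one_lt_card_pair hZ hab
  have hh2 : (2 : K) ≠ 0 := Ring.two_ne_zero hchar
  -- the map induced by the swap on the non-zero points
  have hf : ∀ x : K, x ≠ 0 → ∃ y : K, y ≠ 0 ∧ t • e (x : OnePoint K) = e (y : OnePoint K) := by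
    intro x hx
    obtain ⟨z, hz⟩ := ebij.2 (t • e (x : OnePoint K))
    cases z with
    | infty =>
      rw [einf, ← htb] at hz
      exact absurd (coe_injective (ebij.1 (e0.trans (smul_left_cancel t hz)))).symm hx
    | coe y =>
      refine ⟨y, fun hy => ?_, hz.symm⟩
      rw [hy, e0, ← hta] at hz
      exact coe_ne_infty x (ebij.1 ((smul_left_cancel t hz).symm.trans einf.symm))
  choose! f hf0 hfe using hf
  have hff : ∀ x : K, x ≠ 0 → f (f x) = x := fun x hx => by
    refine coe_injective (ebij.1 ?_)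
    rw [← hfe _ (hf0 x hx), ← hfe x hx, smul_smul, htt, one_smul]
  have hfs : ∀ (u : Kˣ), IsSquare (u : K) → ∀ x : K, x ≠ 0 → f ((u : K) * x) = (u : K)⁻¹ * f x := by
    intro u hu x hx
    obtain ⟨h, rfl⟩ := (hcimg u).1 hu
    refine coe_injective (ebij.1 ?_)
    rw [← hfe _ (mul_ne_zero (Units.ne_zero _) hx)]
    have e1 : e ((((c h : Kˣ) : K) * x : K) : OnePoint K) = (h : G) • e (x : OnePoint K) := by
      rw [hsc, aff_smul_coe, add_zero]
    rw [e1, smul_smul, mul_inv_eq_iff_eq_mul.1 (hinv h h.2), mul_smul, hfe x hx, inv_smul_eq_iff,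
      hsc, aff_smul_coe, add_zero, mul_inv_cancel_left₀ (Units.ne_zero _)]
  have hfsq : ∀ s x : K, s ≠ 0 → IsSquare s → x ≠ 0 → f (s * x) = s⁻¹ * f x := fun s x hs hss hx =>
    hfs (Units.mk0 s hs) hss x hx
  obtain ⟨ν, hν⟩ := FiniteField.exists_nonsquare hchar
  have hν0 : ν ≠ 0 := fun h => hν (h ▸ IsSquare.zero)
  set k := f 1 with hk
  set k' := ν * f ν with hk'
  have hclass : ∀ x : K, x ≠ 0 → ¬ IsSquare x → IsSquare (x * ν⁻¹) := fun x hx hxs =>
    (FiniteField.isSquare_iff hchar (mul_ne_zero hx (inv_ne_zero hν0))).2 (by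
      rw [mul_pow, inv_pow, (FiniteField.pow_dichotomy hchar hx).resolve_left
          (fun e => hxs ((FiniteField.isSquare_iff hchar hx).2 e)),
        (FiniteField.pow_dichotomy hchar hν0).resolve_left
          (fun e => hν ((FiniteField.isSquare_iff hchar hν0).2 e))]
      norm_num)
  have hval1 : ∀ x : K, x ≠ 0 → IsSquare x → f x = k / x := fun x hx hxs => by
    have h := hfsq x 1 hx hxs one_ne_zero
    rw [mul_one] at h
    rw [h, div_eq_inv_mul]
  have hval2 : ∀ x : K, x ≠ 0 → ¬ IsSquare x → f x = k' / x := fun x hx hxs => by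
    have h := hfsq (x * ν⁻¹) ν (mul_ne_zero hx (inv_ne_zero hν0)) (hclass x hx hxs) hν0
    rw [mul_assoc, inv_mul_cancel₀ hν0, mul_one] at h
    rw [h, hk']
    field_simp
  -- the two constants agree
  have hkk : k' = k := by
    by_cases hks : IsSquare k
    · have hk0 : k ≠ 0 := hf0 1 one_ne_zero
      -- an involution interchanging the two points fixes a point, so `-1` is a square
      have hneg : IsSquare (-1 : K) := by
        obtain ⟨h, hh⟩ := (hcimg (Units.mk0 k hk0)⁻¹).1 (by simpa using hks.inv)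
        set t' := (h : G) * t with ht'
        have h1 : t' • a = b := by rw [mul_smul, hta]; exact h.2.2
        have h2 : t' • b = a := by rw [mul_smul, htb]; exact h.2.1
        have hfix : t' • e ((1 : K) : OnePoint K) = e ((1 : K) : OnePoint K) := by
          rw [mul_smul, hfe 1 one_ne_zero, hsc, aff_smul_coe, hh, ← hk, add_zero, Units.val_inv_eq_inv_val,
            Units.val_mk0, inv_mul_cancel₀ hk0]
        have heven := even_of_involution_fix hZ hab hhalf (hsq t' h1 h2)
          (fun h' => hab (by rw [← h1, h', one_smul])) hfix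
        rw [FiniteField.isSquare_iff hchar (neg_ne_zero.2 one_ne_zero), hKcard,
          show (2 * d + 1) / 2 = d by omega]
        exact heven.neg_one_pow
      have hnegm : ∀ x : K, x ≠ 0 → f (-x) = -f x := fun x hx => by
        have h := hfsq (-1) x (neg_ne_zero.2 one_ne_zero) hneg hx
        rwa [neg_one_mul, inv_neg, inv_one, neg_one_mul] at h
      obtain ⟨r, hr, hr1⟩ := exists_nonsquare_succ hchar
      have hr0 : r ≠ 0 := fun h => hr (h ▸ IsSquare.zero)
      have hr10 : r + 1 ≠ 0 := fun h => hr (by rwa [eq_neg_of_add_eq_zero_left h])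
      -- conjugate the translation by one
      obtain ⟨τ, hτ⟩ := htr 1
      obtain ⟨σ, hσ⟩ := htr (f 1)
      obtain ⟨π, hπ⟩ := htr (f (-1))
      set w := t * σ⁻¹ * (t * τ * t) * π with hw
      have htinf : t • e ∞ = e ((0 : K) : OnePoint K) := by rw [einf, hta, e0]
      have ht0 : t • e ((0 : K) : OnePoint K) = e ∞ := by rw [e0, htb, einf]
      have hτi : τ • e ∞ = e ∞ := by rw [hτ, aff_smul_infty]
      have hτc : ∀ x : K, τ • e (x : OnePoint K) = e ((x + 1 : K) : OnePoint K) := fun x => by
        rw [hτ, aff_smul_coe, Units.val_one, one_mul]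
      have hπi : π • e ∞ = e ∞ := by rw [hπ, aff_smul_infty]
      have hπc : ∀ x : K, π • e (x : OnePoint K) = e ((x + f (-1) : K) : OnePoint K) := fun x => by
        rw [hπ, aff_smul_coe, Units.val_one, one_mul]
      have hσi : σ⁻¹ • e ∞ = e ∞ := by rw [inv_smul_eq_iff, hσ, aff_smul_infty]
      have hσc : ∀ x : K, σ⁻¹ • e (x : OnePoint K) = e ((x - f 1 : K) : OnePoint K) := fun x => by
        rw [inv_smul_eq_iff, hσ, aff_smul_coe, Units.val_one, one_mul, sub_add_cancel]
      have hneg1 : (-1 : K) ≠ 0 := neg_ne_zero.2 one_ne_zero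
      have hwa : w • a = a := by
        rw [← einf]
        simp only [hw, mul_smul]
        rw [hπi, htinf, hτc, zero_add, hfe 1 one_ne_zero, hσc, sub_self, ht0]
      have hwb : w • b = b := by
        rw [← e0]
        simp only [hw, mul_smul]
        rw [hπc, zero_add, hfe _ (hf0 _ hneg1), hff _ hneg1, hτc, neg_add_cancel, ht0, hσi, htinf]
      set u := (c ⟨w, hwa, hwb⟩ : K) with hu
      have hu0 : u ≠ 0 := Units.ne_zero _
      have hus : IsSquare u := (hcimg _).2 ⟨_, rfl⟩
      have hfm1 : f (-1) = -k := by rw [hnegm 1 one_ne_zero]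
      have hid : ∀ z : K, (t * τ * t) • e (z : OnePoint K) =
          σ • t • w • π⁻¹ • e (z : OnePoint K) := fun z => by
        simp only [← mul_smul, hw]
        congr 1
        rw [show σ * (t * (t * σ⁻¹ * (t * τ * t) * π * π⁻¹)) =
          σ * (t * t) * σ⁻¹ * (t * τ * t) by group, htt, mul_one, mul_inv_cancel, one_mul]
      have hπinv : ∀ z : K, π⁻¹ • e (z : OnePoint K) = e ((z + k : K) : OnePoint K) := fun z => by
        rw [inv_smul_eq_iff, hπc, hfm1, add_neg_cancel_right]
      have hwc : ∀ y : K, w • e (y : OnePoint K) = e ((u * y : K) : OnePoint K) := fun y => by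
        have := hsc ⟨w, hwa, hwb⟩ (y : OnePoint K)
        rw [aff_smul_coe, add_zero] at this
        exact this
      have hux : ∀ y : K, y ≠ 0 → f (u * y) = u⁻¹ * f y := fun y hy => hfsq u y hu0 hus hy
      -- at zero
      have huk : u⁻¹ = -k := by
        have h := hid 0
        rw [hπinv, zero_add, hwc, mul_smul, mul_smul, ht0, hτi, htinf,
          hfe _ (mul_ne_zero hu0 hk0), hσ, aff_smul_coe] at h
        have h' := coe_injective (ebij.1 h)
        rw [Units.val_one, one_mul, hux k hk0, show f k = 1 from hff 1 one_ne_zero, ← hk,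
          mul_one] at h'
        linear_combination -h'
      -- at `f r`
      have hfr0 : f r ≠ 0 := hf0 r hr0
      have hs0 : f r + k ≠ 0 := fun h => by
        have h1 : f r = f (-1) := by rw [hfm1]; exact eq_neg_of_add_eq_zero_left h
        have h2 := congrArg f h1
        rw [hff r hr0, hff (-1) hneg1] at h2
        exact hr (h2 ▸ hneg)
      have h := hid (f r)
      rw [hπinv, hwc, mul_smul, mul_smul, hfe _ hfr0, hff r hr0, hτc, hfe _ hr10,
        hfe _ (mul_ne_zero hu0 hs0), hσ, aff_smul_coe] at h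
      have h' := coe_injective (ebij.1 h)
      rw [Units.val_one, one_mul, hux _ hs0, huk, ← hk, hval1 _ hr10 hr1] at h'
      have hs : f r + k = (k' + k * r) / r := by
        rw [hval2 r hr0 hr]
        field_simp
      have hnum : k' + k * r ≠ 0 := fun h0 => hs0 (by rw [hs, h0, zero_div])
      by_cases hcl : IsSquare (f r + k)
      · rw [hval1 _ hs0 hcl, hs] at h'
        field_simp at h'
        refine mul_left_cancel₀ hr0 ?_
        linear_combination -h'
      · rw [hval2 _ hs0 hcl, hs] at h'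
        field_simp at h'
        refine mul_left_cancel₀ (pow_ne_zero 2 hr0) ?_
        linear_combination h'
    · have h := hff 1 one_ne_zero
      rw [← hk, hval2 k (hf0 1 one_ne_zero) hks] at h
      exact (div_eq_one_iff_eq (hf0 1 one_ne_zero)).1 h
  have hk0 : k ≠ 0 := hf0 1 one_ne_zero
  have hfval : ∀ x : K, x ≠ 0 → f x = k / x := fun x hx => by
    by_cases hxs : IsSquare x
    · exact hval1 x hx hxs
    · rw [hval2 x hx hxs, hkk]
  -- the group acts by fractional linear maps
  let S : Subgroup G :=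
    { carrier := {g | ∃ m : PGL2 K, ∀ x, e (m • x) = g • e x}
      mul_mem' := by
        rintro g g' ⟨m, hm⟩ ⟨m', hm'⟩
        exact ⟨m * m', fun x => by rw [mul_smul, mul_smul, hm, hm']⟩
      one_mem' := ⟨1, fun x => by rw [one_smul, one_smul]⟩
      inv_mem' := by
        rintro g ⟨m, hm⟩
        refine ⟨m⁻¹, fun x => ?_⟩
        rw [eq_inv_smul_iff, ← hm, smul_inv_smul] }
  let J : PGL2 K := mob 0 k 1 0 (by simpa using hk0)
  have hJ : ∀ x, e (J • x) = t • e x := fun x => by
    cases x with
    | infty => rw [mob_smul_infty, if_neg one_ne_zero, zero_div, einf, hta, e0]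
    | coe x =>
      rw [mob_smul_coe, zero_mul, zero_add, one_mul, add_zero]
      by_cases hx : x = 0
      · rw [if_pos hx, hx, e0, htb, einf]
      · rw [if_neg hx, hfe x hx, hfval x hx]
  have hStop : ∀ g : G, g ∈ S := by
    have hfixa : ∀ g : G, g • a = a → g ∈ S := by
      intro g hg
      obtain ⟨z, hz⟩ := ebij.2 (g • b)
      cases z with
      | infty => exact absurd (smul_left_cancel g (hg.trans (einf.symm.trans hz))) hab
      | coe x =>
        obtain ⟨τ, hτ⟩ := htr x
        have hτa : τ • a = a := by rw [← einf, hτ, aff_smul_infty]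
        have hτb : τ • b = g • b := by rw [← hz, ← e0, hτ, aff_smul_coe]; simp
        have h1 : τ⁻¹ * g ∈ E :=
          ⟨show (τ⁻¹ * g) • a = a by rw [mul_smul, hg, inv_smul_eq_iff, hτa],
            show (τ⁻¹ * g) • b = b by rw [mul_smul, inv_smul_eq_iff, hτb]⟩
        have hτS : τ ∈ S := ⟨_, fun y => (hτ y).symm⟩
        have h2S : τ⁻¹ * g ∈ S := ⟨_, fun y => (hsc ⟨_, h1⟩ y).symm⟩
        simpa using mul_mem hτS h2S
    intro g
    by_cases hg : g • a = a
    · exact hfixa g hg
    · obtain ⟨z, hz⟩ := ebij.2 (g • a)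
      cases z with
      | infty => exact absurd (hz.symm.trans einf) hg
      | coe x =>
        obtain ⟨τ, hτ⟩ := htr x
        have hτb : τ • b = g • a := by rw [← hz, ← e0, hτ, aff_smul_coe]; simp
        have hτS : τ ∈ S := ⟨_, fun y => (hτ y).symm⟩
        have htS : t ∈ S := ⟨J, hJ⟩
        have h2 : (τ * t)⁻¹ * g ∈ S := by
          refine hfixa _ ?_
          rw [mul_smul, inv_smul_eq_iff, mul_smul, hta, hτb]
        have := mul_mem (mul_mem hτS htS) h2
        rw [mul_inv_cancel_left] at this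
        exact this
  let Φ₀ : G → PGL2 K := fun g => (hStop g).choose
  have hΦ : ∀ g x, e (Φ₀ g • x) = g • e x := fun g => (hStop g).choose_spec
  have hΦu : ∀ g (m : PGL2 K), (∀ x, e (m • x) = g • e x) → Φ₀ g = m := fun g m hm =>
    eq_of_eq3 (ebij.1 (by rw [hΦ, hm])) (ebij.1 (by rw [hΦ, hm])) (ebij.1 (by rw [hΦ, hm]))
  let Φ : G →* PGL2 K := MonoidHom.mk' Φ₀ fun g g' => hΦu _ _ fun x => by
    rw [mul_smul, mul_smul, hΦ, hΦ]
  have hΦinj : Function.Injective Φ := fun g g' h => by
    refine eq_of_smul_eq_smul fun z : Ω => ?_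
    obtain ⟨x, rfl⟩ := ebij.2 z
    rw [← hΦ, ← hΦ]
    exact congrArg (fun m : PGL2 K => e (m • x)) h
  -- the image contains `PSL(2, q)`
  have haff : ∀ x : K, aff (1 : Kˣ) x ∈ Φ.range := fun x => by
    obtain ⟨τ, hτ⟩ := htr x
    exact ⟨τ, hΦu τ _ fun y => (hτ y).symm⟩
  have hJr : J ∈ Φ.range := ⟨t, hΦu t J hJ⟩
  let toP : Matrix.SpecialLinearGroup (Fin 2) K →* PGL2 K :=
    (Matrix.ProjectiveSpecialLinearGroup.toPGL (n := Fin 2) (R := K)).comp (QuotientGroup.mk' _)
  have htop : Φ.range.comap toP = ⊤ := by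
    rw [eq_top_iff, ← CfsgLib.SL2Pair.sup_eq_top (k := K), sup_le_iff]
    refine ⟨fun g hg => ?_, fun g hg => ?_⟩
    · obtain ⟨x, rfl⟩ := CfsgLib.SL2Pair.mem_lower.1 hg
      show toP _ ∈ Φ.range
      have e1 : toP (CfsgLib.SL2Pair.low x) = J * aff 1 (k * x) * J⁻¹ := by
        rw [eq_mul_inv_iff_mul_eq]
        show Matrix.ProjectiveSpecialLinearGroup.toPGL (QuotientGroup.mk _) * J = J * _
        rw [← CfsgLib.Linear.PSLTwo.pslHom_id, pslHom_mk]
        simp only [J, aff, mob, MonoidHom.comp_apply]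
        erw [← map_mul, ← map_mul]
        congr 1
        ext i j
        fin_cases i <;> fin_cases j <;>
          simp [CfsgLib.SL2Pair.low_coe, Matrix.mul_apply, Fin.sum_univ_two,
            Matrix.GeneralLinearGroup.mkOfDetNeZero, mul_comm]
      rw [e1]
      exact mul_mem (mul_mem hJr (haff _)) (inv_mem hJr)
    · obtain ⟨x, rfl⟩ := CfsgLib.SL2Pair.mem_upper.1 hg
      show toP _ ∈ Φ.range
      have e1 : toP (CfsgLib.SL2Pair.up x) = aff 1 x := by
        show Matrix.ProjectiveSpecialLinearGroup.toPGL (QuotientGroup.mk _) = _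
        rw [← CfsgLib.Linear.PSLTwo.pslHom_id, pslHom_up]
        rfl
      rw [e1]
      exact haff x
  have hle : (Matrix.ProjectiveSpecialLinearGroup.toPGL (n := Fin 2) (R := K)).range ≤ Φ.range := by
    rintro _ ⟨x, rfl⟩
    obtain ⟨A, rfl⟩ := QuotientGroup.mk_surjective x
    exact (htop ▸ Subgroup.mem_top A : A ∈ Φ.range.comap toP)
  have hKn : Nat.card K = 2 * d + 1 := by rw [Nat.card_eq_fintype_card, hKcard]
  have hcard : Nat.card (PSL2 K) = Nat.card G := by
    rw [CfsgLib.Linear.PSLTwo.card_eq, CfsgLib.Linear.PSLTwo.gcd_eq_two ⟨d, hKn⟩, hKn,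
      CfsgLib.Char.zass_card_group hZ hab, ← hhalf, show (2 * d + 1 - 1) / 2 = d by omega,
      show 2 * d + 2 - 1 = 2 * d + 1 by omega]
  have hinjP : Function.Injective (Matrix.ProjectiveSpecialLinearGroup.toPGL (n := Fin 2) (R := K)) :=
    Matrix.ProjectiveSpecialLinearGroup.toPGL_injective
  have heq : (Matrix.ProjectiveSpecialLinearGroup.toPGL (n := Fin 2) (R := K)).range = Φ.range := by
    refine Subgroup.eq_of_le_of_card_ge hle ?_
    rw [← Nat.card_congr (MonoidHom.ofInjective hΦinj).toEquiv,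
      ← Nat.card_congr (MonoidHom.ofInjective hinjP).toEquiv, hcard]
  refine ⟨K, hKf, hKfin, hchar, ?_, by omega,
    ⟨(MonoidHom.ofInjective hΦinj).trans ((MulEquiv.subgroupCongr heq.symm).trans
      (MonoidHom.ofInjective hinjP).symm)⟩⟩
  omega

end CfsgLib.Zass
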