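/-
A group with a fixed-point-free group of automorphisms of order at least half of it.
-/
import Cfsg.Agent.Frobenius.Fpf
import Cfsg.Agent.FGSA.ThompsonNil
import Cfsg.Agent.Zass.PairStabilizer
import Cfsg.Agent.Char.Zassenhaus
import Mathlib

set_option autoImplicit false

namespace CfsgLib.Zass

open CfsgLib.Frobenius

variable {E K : Type*} [Group E] [Group K]

theorem card_le_card_of_invariant [Finite E] [Finite K] {φ : E →* MulAut K} (h : IsFpf φ)
    (S : Finset K) {x : K} (hx : x ∈ S) (hx1 : x ≠ 1) (hS : ∀ e : E, ∀ y ∈ S, φ e y ∈ S) :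
    Nat.card E ≤ S.card := by
  rw [← Nat.card_eq_finsetCard]
  refine Nat.card_le_card_of_injective (fun e => (⟨φ e x, hS e x hx⟩ : S)) fun e f hef => ?_
  have e1 : φ e x = φ f x := congrArg Subtype.val hef
  by_contra hne
  refine hx1 (h (f⁻¹ * e) (fun he => hne (inv_mul_eq_one.mp he).symm) x ?_)
  rw [map_mul, MulAut.mul_apply, e1, map_inv, MulAut.inv_apply_self]

theorem elementary_of_large_fpf [Finite E] [Finite K] [Nontrivial E] [Nontrivial K]
    {φ : E →* MulAut K} (h : IsFpf φ) (hle : Nat.card K - 1 ≤ 2 * Nat.card E) :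
    IsMulCommutative K ∧ ∃ p f : ℕ, p.Prime ∧ (∀ u : K, u ^ p = 1) ∧ Nat.card K = p ^ f := by
  classical
  haveI := Fintype.ofFinite K
  have hEpos : 2 ≤ Nat.card E := Finite.one_lt_card
  have hKpos : 1 < Nat.card K := Finite.one_lt_card
  -- proper invariant subgroups are trivial
  have hsub : ∀ A : Subgroup K, (∀ e, ∀ a ∈ A, φ e a ∈ A) → A ≠ ⊥ → A = ⊤ := by
    intro A hA hA1
    by_contra hA2
    obtain ⟨x, hx, hx1⟩ := A.bot_or_exists_ne_one.resolve_left hA1
    have hd : Nat.card E + 1 ≤ Nat.card A := by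
      have := card_le_card_of_invariant h ((Finset.univ.filter fun y => y ∈ A).erase 1)
        (x := x) (by simp [hx, hx1]) hx1 (fun e y hy => by
          simp only [Finset.mem_erase, Finset.mem_filter, Finset.mem_univ, true_and] at hy ⊢
          exact ⟨(map_ne_one_iff _ (φ e).injective).mpr hy.1, hA e y hy.2⟩)
      rw [Finset.card_erase_of_mem (by simp [one_mem]), ← Fintype.card_subtype,
        ← Nat.card_eq_fintype_card] at this
      have := Nat.card_pos (α := A)
      omega
    have hidx : 2 ≤ A.index := by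
      have h0 : A.index ≠ 0 := Subgroup.index_ne_zero_of_finite
      have h1 : A.index ≠ 1 := fun e => hA2 (Subgroup.index_eq_one.mp e)
      omega
    have hmul := A.card_mul_index
    have : Nat.card A * 2 ≤ Nat.card A * A.index := Nat.mul_le_mul_left _ hidx
    omega
  -- a prime order automorphism gives nilpotency
  obtain ⟨r, hr, hrd⟩ := Nat.exists_prime_and_dvd (show Nat.card E ≠ 1 by omega)
  haveI : Fact r.Prime := ⟨hr⟩
  obtain ⟨e₀, he₀⟩ := exists_prime_orderOf_dvd_card' (G := E) r hrd
  haveI hnil : Group.IsNilpotent K := CfsgLib.ThompsonNil.isNilpotent hr (φ e₀)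
    (by rw [← map_pow, ← he₀, pow_orderOf_eq_one, map_one])
    fun g hg => h e₀ (fun e => by rw [e, orderOf_one] at he₀; exact hr.one_lt.ne he₀) g hg
  obtain ⟨p, hp, hpd⟩ := Nat.exists_prime_and_dvd (show Nat.card K ≠ 1 by omega)
  haveI : Fact p.Prime := ⟨hp⟩
  have hpg : IsPGroup p K := by
    by_contra hnot
    obtain ⟨u, hu⟩ := exists_prime_orderOf_dvd_card' (G := K) p hpd
    obtain ⟨q, hq, hqd, hqp⟩ : ∃ q, q.Prime ∧ q ∣ Nat.card K ∧ q ≠ p := by
      by_contra hh
      push Not at hh
      refine hnot (IsPGroup.of_card (n := (Nat.card K).primeFactorsList.length) ?_)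
      exact Nat.eq_prime_pow_of_unique_prime_dvd (by omega) fun {d} hd hdd => hh d hd hdd
    haveI : Fact q.Prime := ⟨hq⟩
    obtain ⟨v, hv⟩ := exists_prime_orderOf_dvd_card' (G := K) q hqd
    obtain ⟨P, hP⟩ := (IsPGroup.of_card (n := 1) (G := Subgroup.zpowers u)
      (by rw [Nat.card_zpowers, hu, pow_one])).exists_le_sylow
    obtain ⟨Q, hQ⟩ := (IsPGroup.of_card (n := 1) (G := Subgroup.zpowers v)
      (by rw [Nat.card_zpowers, hv, pow_one])).exists_le_sylow
    have hPn : (P : Subgroup K).Normal := P.normal_of_normalizerCondition Group.normalizerCondition_of_isNilpotent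
    have hQn : (Q : Subgroup K).Normal := Q.normal_of_normalizerCondition Group.normalizerCondition_of_isNilpotent
    have hcomm : Commute u v := by
      refine Subgroup.commute_of_normal_of_disjoint _ _ hPn hQn ?_ u v (hP (Subgroup.mem_zpowers u))
        (hQ (Subgroup.mem_zpowers v))
      exact IsPGroup.disjoint_of_ne p q hqp.symm _ _ P.2 Q.2
    have huv : orderOf (u * v) = p * q := by
      rw [hcomm.orderOf_mul_eq_mul_orderOf_of_coprime
        (by rw [hu, hv]; exact (Nat.coprime_primes hp hq).mpr hqp.symm), hu, hv]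
    let S : ℕ → Finset K := fun k => Finset.univ.filter fun y => orderOf y = k
    have hSi : ∀ k, ∀ y : K, orderOf y = k → k ≠ 1 → Nat.card E ≤ (S k).card := fun k y hy hk =>
      card_le_card_of_invariant h (S k) (x := y) (by simp [S, hy])
        (fun e => hk (by rw [← hy, e, orderOf_one])) fun e z hz => by
          simp only [S, Finset.mem_filter, Finset.mem_univ, true_and] at hz ⊢
          rw [MulEquiv.orderOf_eq, hz]
    have h1 := hSi p u hu hp.one_lt.ne'
    have h2 := hSi q v hv hq.one_lt.ne'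
    have hpq1 : p * q ≠ 1 := fun e => hp.one_lt.ne' (Nat.eq_one_of_mul_eq_one_right e)
    have h3 := hSi (p * q) (u * v) huv hpq1
    have hsum : (S p).card + (S q).card + (S (p * q)).card + (S 1).card ≤ Nat.card K := by
      have hne1 : p * q ≠ p := by
        intro e; have := hq.two_le; have := hp.pos; nlinarith
      have hne2 : p * q ≠ q := by
        intro e; have := hp.two_le; have := hq.pos; nlinarith
      rw [← Finset.card_union_of_disjoint, ← Finset.card_union_of_disjoint,
        ← Finset.card_union_of_disjoint, Nat.card_eq_fintype_card]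
      · exact Finset.card_le_univ _
      all_goals
        rw [Finset.disjoint_left]
        intro y hy hy'
        simp only [S, Finset.mem_union, Finset.mem_filter, Finset.mem_univ, true_and] at hy hy'
      · rcases hy with (e | e) | e <;> rw [e] at hy'
        · exact hp.one_lt.ne' hy'
        · exact hq.one_lt.ne' hy'
        · exact hpq1 hy'
      · rcases hy with e | e <;> rw [e] at hy'
        · exact hne1 hy'.symm
        · exact hne2 hy'.symm
      · rw [hy] at hy'
        exact hqp hy'.symm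
    have h4 : 0 < (S 1).card := Finset.card_pos.mpr ⟨1, by simp [S]⟩
    omega
  haveI := hpg.center_nontrivial
  have hcenter : Subgroup.center K = ⊤ := hsub _ (fun e a ha => by
      rw [Subgroup.mem_center_iff] at ha ⊢
      intro g
      obtain ⟨g', rfl⟩ := (φ e).surjective g
      rw [← map_mul, ha, map_mul])
    ((Subgroup.nontrivial_iff_ne_bot _).mp inferInstance)
  have hc : ∀ x y : K, x * y = y * x := fun x y =>
    (Subgroup.mem_center_iff.mp (hcenter ▸ Subgroup.mem_top y) x)
  obtain ⟨f, hf⟩ := IsPGroup.iff_card.mp hpg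
  refine ⟨⟨⟨hc⟩⟩, p, f, hp, ?_, hf⟩
  let A : Subgroup K :=
    { carrier := {u | u ^ p = 1}
      one_mem' := one_pow p
      mul_mem' := fun {x y} (hx : x ^ p = 1) (hy : y ^ p = 1) => by
        show (x * y) ^ p = 1
        rw [(show Commute x y from hc x y).mul_pow, hx, hy, one_mul]
      inv_mem' := fun {x} (hx : x ^ p = 1) => by
        show x⁻¹ ^ p = 1
        rw [inv_pow, hx, inv_one] }
  have hA : A = ⊤ := hsub A (fun e a (ha : a ^ p = 1) => show (φ e a) ^ p = 1 by
      rw [← map_pow, ha, map_one]) fun hA => by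
    obtain ⟨u, hu⟩ := exists_prime_orderOf_dvd_card' (G := K) p hpd
    have : u ∈ A := show u ^ p = 1 by rw [← hu, pow_orderOf_eq_one]
    rw [hA, Subgroup.mem_bot] at this
    rw [this, orderOf_one] at hu
    exact hp.one_lt.ne hu
  intro u
  exact (hA ▸ Subgroup.mem_top u : u ∈ A)

variable {G Ω : Type*} [Group G] [MulAction G Ω]

open MulAction in
theorem kernel_elementary [Fintype Ω] [Finite G] (hZ : Cfsg.IsZassenhausGroup G Ω) {a b : Ω}
    (hab : a ≠ b)
    (hd : Fintype.card Ω - 2 ≤ 2 * Nat.card ↥(stabilizer G a ⊓ stabilizer G b)) (F : Subgroup G)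
    (hFle : F ≤ stabilizer G a) (hFn : (F.subgroupOf (stabilizer G a)).Normal)
    (hreg : ∀ y z : Ω, y ≠ a → z ≠ a → ∃! u : F, (u : G) • y = z) :
    IsMulCommutative F ∧ ∃ p f : ℕ, p.Prime ∧ (∀ u ∈ F, u ^ p = 1) ∧ Fintype.card Ω = p ^ f + 1 := by
  classical
  let H : Subgroup G := stabilizer G a ⊓ stabilizer G b
  have hFc : ∀ g : G, g • a = a → ∀ u ∈ F, g * u * g⁻¹ ∈ F := fun g hg u hu =>
    hFn.conj_mem ⟨u, hFle hu⟩ hu ⟨g, hg⟩
  let c : H → MulAut F := fun h =>
    { toFun := fun k => ⟨h * k * (h : G)⁻¹, hFc _ h.2.1 _ k.2⟩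
      invFun := fun k => ⟨(h : G)⁻¹ * k * h, by
        have := hFc ((h : G)⁻¹) (inv_mem h.2.1 : (h : G)⁻¹ ∈ stabilizer G a) _ k.2
        rwa [inv_inv] at this⟩
      left_inv := fun k => Subtype.ext (by simp [mul_assoc])
      right_inv := fun k => Subtype.ext (by simp [mul_assoc])
      map_mul' := fun x y => Subtype.ext (by
        show (h : G) * ((x : G) * y) * (h : G)⁻¹ = h * x * (h : G)⁻¹ * (h * y * (h : G)⁻¹)
        group) }
  let φ : H →* MulAut F := MonoidHom.mk' c fun x y => MulEquiv.ext fun k => Subtype.ext (by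
    show ((x : G) * y) * k * ((x : G) * y)⁻¹ = x * (y * k * (y : G)⁻¹) * (x : G)⁻¹
    group)
  have hφ : IsFpf φ := by
    intro h h1 k hk
    have e : (h : G) * k = k * h := mul_inv_eq_iff_eq_mul.mp (congrArg Subtype.val hk)
    have hfix : (h : G) • ((k : G) • b) = (k : G) • b := by
      rw [smul_smul, e, mul_smul, show (h : G) • b = b from h.2.2]
    rcases eq_or_eq hZ hab (fun e => h1 (Subtype.ext e)) h.2.1 h.2.2 hfix with e | e
    · exact absurd (smul_left_cancel (k : G) (e.trans (hFle k.2).symm)).symm hab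
    · exact (hreg b b hab.symm hab.symm).unique e (one_smul G b)
  have hcard : Nat.card F + 1 = Fintype.card Ω := by
    have e : F ≃ {y : Ω // y ≠ a} := Equiv.ofBijective
      (fun u => ⟨(u : G) • b, fun h => hab
        (smul_left_cancel (u : G) ((mem_stabilizer_iff.mp (hFle u.2)).trans h.symm))⟩)
      ⟨fun u v h => (hreg b ((v : G) • b) hab.symm (fun h' => hab
          (smul_left_cancel (v : G) ((mem_stabilizer_iff.mp (hFle v.2)).trans h'.symm)))).unique
          (congrArg Subtype.val h) rfl,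
        fun y => by
          obtain ⟨u, hu, -⟩ := hreg b y.1 hab.symm y.2
          exact ⟨u, Subtype.ext hu⟩⟩
    rw [Nat.card_congr e, Nat.card_eq_fintype_card, Fintype.card_subtype_compl,
      Fintype.card_subtype_eq]
    have := CfsgLib.Char.zassenhaus_three_le hZ
    omega
  have h3 := CfsgLib.Char.zassenhaus_three_le hZ
  haveI : Nontrivial F := Finite.one_lt_card_iff_nontrivial.mp (by omega)
  haveI : Nontrivial H := by
    obtain ⟨g, hg1, p, r, hpr, hp, hr⟩ := hZ.2.2.2.1
    obtain ⟨k, hka, hkb⟩ := two_trans hZ hpr hab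
    refine ⟨⟨⟨k * g * k⁻¹, ⟨?_, ?_⟩⟩, 1, fun e => hg1 ?_⟩⟩
    · show (k * g * k⁻¹) • a = a
      rw [← hka, mul_smul, mul_smul, inv_smul_smul, hp]
    · show (k * g * k⁻¹) • b = b
      rw [← hkb, mul_smul, mul_smul, inv_smul_smul, hr]
    · have e' : k * g * k⁻¹ = 1 := congrArg Subtype.val e
      simpa using e'
  obtain ⟨h1, p, f, hp, hexp, hf⟩ := elementary_of_large_fpf hφ (by
    have hd' : Fintype.card Ω - 2 ≤ 2 * Nat.card H := hd
    omega)
  exact ⟨h1, p, f, hp, fun u hu => congrArg Subtype.val (hexp ⟨u, hu⟩), by omega⟩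

end CfsgLib.Zass
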