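import Cfsg.Agent.Zass.EvenPair
import Cfsg.Agent.Char.ZassenhausFeit

/-!
The kernel of a point stabiliser of a simple Zassenhaus group is a `p`-group.
-/

set_option autoImplicit false
set_option linter.style.haveILetI false

namespace CfsgLib.Zass

open MulAction

variable {G Ω : Type*} [Group G] [Finite G] [MulAction G Ω] [Fintype Ω]

theorem exists_kernel_data (hZ : Cfsg.IsZassenhausGroup G Ω) {a b : Ω} (hab : a ≠ b) :
    ∃ (F : Subgroup G) (_ : F ≤ stabilizer G a), Nat.card F + 1 = Fintype.card Ω ∧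
      (∀ u ∈ F, u ≠ 1 → ∀ c : Ω, u • c = c → c = a) ∧ (F.subgroupOf (stabilizer G a)).Normal ∧
      ∀ y z : Ω, y ≠ a → z ≠ a → ∃! u : F, (u : G) • y = z := by
  obtain ⟨F, hFa, hmem, hnorm, htr⟩ := exists_kernel hZ a
  have hfix : ∀ u ∈ F, u ≠ 1 → ∀ c : Ω, u • c = c → c = a := fun u hu hu1 c hc =>
    (((hmem u).1 hu).resolve_left hu1).2 c hc
  have hreg : ∀ y z : Ω, y ≠ a → z ≠ a → ∃! u : F, (u : G) • y = z := by
    intro y z hy hz
    obtain ⟨k, hk, hky⟩ := htr y z hy hz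
    refine ⟨⟨k, hk⟩, hky, fun w hw => ?_⟩
    by_contra hne
    refine hy (hfix _ (mul_mem (inv_mem hk) w.2)
      (fun h => hne (Subtype.ext (inv_mul_eq_one.1 h).symm)) y ?_)
    have hw' : (w : G) • y = z := hw
    rw [mul_smul, hw', ← hky, inv_smul_smul]
  exact ⟨F, hFa, (kernel_of_regular hFa hreg hab.symm).1, hfix,
    ⟨fun x hx g => hnorm g g.2 x hx⟩, hreg⟩

theorem isPrimePow_degree [IsSimpleGroup G] (hZ : Cfsg.IsZassenhausGroup G Ω) :
    IsPrimePow (Fintype.card Ω - 1) := by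
  classical
  haveI := Fintype.ofFinite G
  obtain ⟨g, -, a, b, hab, -, -⟩ := hZ.2.2.2.1
  have h3 := CfsgLib.Char.zassenhaus_three_le hZ
  obtain ⟨F, hFa, hcard, hfix, hn, hreg⟩ := exists_kernel_data hZ hab
  have key : ∀ q f : ℕ, q.Prime → Fintype.card Ω = q ^ f + 1 → IsPrimePow (Fintype.card Ω - 1) := by
    intro q f hq he
    refine ⟨q, f, hq.prime, ?_, by omega⟩
    rcases Nat.eq_zero_or_pos f with rfl | h
    · rw [pow_zero] at he; omega
    · exact h
  rcases Nat.even_or_odd (Nat.card ↥(stabilizer G a ⊓ stabilizer G b)) with he | ho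
  · obtain ⟨-, -, -, -, -, q, f, hq, hqf⟩ := exists_abelian_kernel_of_even hZ hab he
    exact key q f hq hqf
  · rcases lt_or_ge (2 * Nat.card ↥(stabilizer G a ⊓ stabilizer G b) + 1) (Nat.card F) with hlt | hle
    · haveI : Fact (Nat.Prime 2) := ⟨Nat.prime_two⟩
      obtain ⟨f, hf⟩ := IsPGroup.iff_card.1
        (CfsgLib.Char.zass_feit_simple hZ hab ho F hFa hcard hfix hlt).1
      exact key 2 f Nat.prime_two (by rw [← hcard, hf])
    · obtain ⟨-, q, f, hq, -, hqf⟩ := kernel_elementary hZ hab (by omega) F hFa hn hreg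
      exact key q f hq hqf

end CfsgLib.Zass
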