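import Cfsg.Agent.Zass.Sharp
import Cfsg.Agent.Perm.SharplyThreeMain
import Cfsg.Agent.Perm.SharplyThreeSetup
import Mathlib

/-!
A sharply 3-transitive group with two-point stabilisers of even order is not simple: the transfer to
the quotient of order two of the stabiliser of an unordered pair is non-trivial.
-/

set_option autoImplicit false
set_option linter.style.haveILetI false

namespace CfsgLib.Zass

open MulAction

private theorem sign_mul {P Q R : Prop} [Decidable P] [Decidable Q] [Decidable R] (h : R ↔ (P ↔ Q)) :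
    (if R then (1 : ℤˣ) else -1) = (if P then 1 else -1) * (if Q then 1 else -1) := by
  by_cases hP : P <;> by_cases hQ : Q <;>
    simp only [hP, hQ, iff_true, iff_false, not_true_eq_false] at h <;>
    simp [hP, hQ, h]

variable {G Ω : Type*} [Group G] [Finite G] [MulAction G Ω] [Fintype Ω]

theorem not_simple_of_full (hZ : Cfsg.IsZassenhausGroup G Ω) {a b : Ω} (hab : a ≠ b)
    (heven : Even (Nat.card ↥(stabilizer G a ⊓ stabilizer G b)))
    (hfull : Fintype.card Ω - 2 = Nat.card ↥(stabilizer G a ⊓ stabilizer G b)) :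
    ¬ IsSimpleGroup G := by
  classical
  intro hsimple
  haveI := Fintype.ofFinite G
  have hn := CfsgLib.Char.zassenhaus_three_le hZ
  have hd1 := CfsgLib.Char.zass_one_lt_card_pair hZ hab
  obtain ⟨h3, hsharp⟩ := sharply_of_full hZ hab hfull
  set E : Subgroup G := stabilizer G a ⊓ stabilizer G b with hE
  obtain ⟨c, hc⟩ : ∃ c, c ∉ ({a, b} : Finset Ω) := by
    by_contra h
    push Not at h
    have := (Finset.card_le_card (fun x _ => h x : (Finset.univ : Finset Ω) ⊆ _)).trans
      (Finset.card_le_two (a := a) (b := b))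
    rw [Finset.card_univ] at this
    omega
  simp only [Finset.mem_insert, Finset.mem_singleton, not_or] at hc
  obtain ⟨hca, hcb⟩ := hc
  obtain ⟨s, hsa, hsb, hsc⟩ := CfsgLib.SharplyThree.exists_swap h3 hab (Ne.symm hca) (Ne.symm hcb)
  have hss := CfsgLib.SharplyThree.swap_sq hsharp hab (Ne.symm hca) (Ne.symm hcb) hsa hsb hsc
  have hsinv : s⁻¹ = s := inv_eq_of_mul_eq_one_right hss
  -- a subgroup of index two in the two-point stabiliser, invariant under the swap
  obtain ⟨N, hNE, hNidx, hNinv⟩ : ∃ N : Subgroup G, N ≤ E ∧ N.relIndex E = 2 ∧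
      ∀ x ∈ N, s * x * s⁻¹ ∈ N := by
    obtain ⟨k, hk⟩ := heven
    by_cases h4 : k = 1
    · refine ⟨⊥, bot_le, ?_, fun x hx => by
        rw [Subgroup.mem_bot] at hx ⊢; rw [hx, mul_one, mul_inv_cancel]⟩
      rw [Subgroup.relIndex_bot_left]
      omega
    · obtain ⟨N, h1, -, h2, h3'⟩ := CfsgLib.SharplyThree.main (G := G) (α := Ω)
        ⟨k + 1, by omega⟩ (by omega) h3 hsharp hab (Ne.symm hca) (Ne.symm hcb) s hsa hsb hsc
      exact ⟨N, h1, h2, h3'⟩
  have hinvN : ∀ x, s * x * s ∈ N ↔ x ∈ N := fun x => by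
    refine ⟨fun h => ?_, fun h => ?_⟩
    · have := hNinv _ h
      rwa [hsinv, show s * (s * x * s) * s = s * s * x * (s * s) by group, hss, one_mul,
        mul_one] at this
    · have := hNinv _ h
      rwa [hsinv] at this
  have hEs : ∀ x ∈ E, s * x * s ∈ E := fun x hx => by
    have := CfsgLib.SharplyThree.conj_mem_pair hsa hsb hss hx
    rwa [hsinv] at this
  have hN2 : ∀ x y, x ∈ E → y ∈ E → (x * y ∈ N ↔ (x ∈ N ↔ y ∈ N)) := fun x y hx hy =>
    Subgroup.mul_mem_iff_of_index_two (H := N.subgroupOf E) hNidx (a := ⟨x, hx⟩) (b := ⟨y, hy⟩)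
  have hxs : ∀ x ∈ E, x * s ∉ E := fun x hx hxs => hab (by
    have e : (x * s) • a = a := hxs.1
    rwa [mul_smul, hsa, show x • b = b from hx.2, eq_comm] at e)
  -- the stabiliser of the unordered pair
  let H₂ : Subgroup G :=
    { carrier := {x | x ∈ E ∨ x * s ∈ E}
      one_mem' := Or.inl (one_mem _)
      mul_mem' := by
        rintro x y (hx | hx) (hy | hy)
        · exact Or.inl (mul_mem hx hy)
        · exact Or.inr (by rw [mul_assoc]; exact mul_mem hx hy)
        · right
          rw [show x * y * s = x * s * (s * y * s) by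
            rw [show x * s * (s * y * s) = x * (s * s) * y * s by group, hss, mul_one]]
          exact mul_mem hx (hEs y hy)
        · left
          rw [show x * y = x * s * (s * (y * s) * s) by
            rw [show x * s * (s * (y * s) * s) = x * (s * s) * y * (s * s) by group, hss, mul_one,
              mul_one]]
          exact mul_mem hx (hEs _ hy)
      inv_mem' := by
        rintro x (hx | hx)
        · exact Or.inl (inv_mem hx)
        · right
          have := hEs _ (inv_mem hx)
          rwa [mul_inv_rev, hsinv, ← mul_assoc, hss, one_mul] at this }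
  have hH₂ : ∀ x : G, (x • a = a ∧ x • b = b) ∨ (x • a = b ∧ x • b = a) → x ∈ H₂ := by
    rintro x (⟨h1, h2⟩ | ⟨h1, h2⟩)
    · exact Or.inl ⟨h1, h2⟩
    · exact Or.inr ⟨show (x * s) • a = a by rw [mul_smul, hsa, h2],
        show (x * s) • b = b by rw [mul_smul, hsb, h1]⟩
  have hH₂' : ∀ x ∈ H₂, (x • a = a ∧ x • b = b) ∨ (x • a = b ∧ x • b = a) := by
    rintro x (hx | hx)
    · exact Or.inl hx
    · have e1 : (x * s) • a = a := hx.1
      have e2 : (x * s) • b = b := hx.2
      rw [mul_smul, hsa] at e1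
      rw [mul_smul, hsb] at e2
      exact Or.inr ⟨e2, e1⟩
  -- the character of order two
  let χ : G → ℤˣ := fun x => if x ∈ N ∨ x * s ∈ N then 1 else -1
  have hχE : ∀ x ∈ E, χ x = if x ∈ N then 1 else -1 := fun x hx => by
    exact if_congr (or_iff_left_of_imp fun h => absurd (hNE h) (hxs x hx)) rfl rfl
  have hχs : ∀ x, x * s ∈ E → χ x = if x * s ∈ N then 1 else -1 := fun x hx => by
    exact if_congr (or_iff_right_of_imp fun h => absurd hx (hxs x (hNE h))) rfl rfl
  let ψ : H₂ →* ℤˣ := MonoidHom.mk' (fun x => χ x) (by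
    rintro ⟨x, hx⟩ ⟨y, hy⟩
    show χ (x * y) = χ x * χ y
    rcases hx with hx | hx <;> rcases hy with hy | hy
    · rw [hχE _ hx, hχE _ hy, hχE _ (mul_mem hx hy)]
      have := hN2 x y hx hy
      exact sign_mul this
    · rw [hχE _ hx, hχs _ hy, hχs _ (by rw [mul_assoc]; exact mul_mem hx hy)]
      have := hN2 x (y * s) hx hy
      rw [← mul_assoc] at this
      exact sign_mul this
    · have e : x * y * s = x * s * (s * y * s) := by
        rw [show x * s * (s * y * s) = x * (s * s) * y * s by group, hss, mul_one]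
      rw [hχs _ hx, hχE _ hy, hχs _ (by rw [e]; exact mul_mem hx (hEs y hy))]
      have := hN2 (x * s) (s * y * s) hx (hEs y hy)
      rw [← e, hinvN] at this
      exact sign_mul this
    · have e : x * y = x * s * (s * (y * s) * s) := by
        rw [show x * s * (s * (y * s) * s) = x * (s * s) * y * (s * s) by group, hss, mul_one,
          mul_one]
      rw [hχs _ hx, hχs _ hy, hχE _ (by rw [e]; exact mul_mem hx (hEs _ hy))]
      have := hN2 (x * s) (s * (y * s) * s) hx (hEs _ hy)
      rw [← e, hinvN] at this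
      exact sign_mul this)
  have hfix : ∀ x ∈ H₂, x ∉ E → x * x = 1 → ∀ w : Ω, x • w = w → χ x = 1 := by
    intro x hx hxE hxx w hw
    have hswap : x • a = b ∧ x • b = a := (hH₂' x hx).resolve_left fun h => hxE h
    have hwa : w ≠ a := fun h => hab (by rw [← h, ← hswap.1, ← h, hw])
    have hwb : w ≠ b := fun h => hab (by rw [← h, ← hswap.2, ← h, hw])
    obtain ⟨k, hka, hkb, hkc⟩ := CfsgLib.SharplyThree.exists_map h3 hab (Ne.symm hca) (Ne.symm hcb)
      hab hwa.symm hwb.symm
    have hk : k ∈ E := ⟨hka, hkb⟩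
    have e : x = k * s * k⁻¹ := by
      refine CfsgLib.SharplyThree.eq_of_three hsharp hab hwa.symm hwb.symm ?_ ?_ ?_
      · rw [hswap.1, mul_smul, mul_smul, inv_smul_eq_iff.2 hka.symm, hsa, hkb]
      · rw [hswap.2, mul_smul, mul_smul, inv_smul_eq_iff.2 hkb.symm, hsb, hka]
      · rw [hw, mul_smul, mul_smul, inv_smul_eq_iff.2 hkc.symm, hsc, hkc]
    have hxs' : x * s = k * (s * k⁻¹ * s) := by rw [e]; group
    rw [hχs x (hxs' ▸ mul_mem hk (hEs _ (inv_mem hk))), if_pos]
    rw [hxs', hN2 _ _ hk (hEs _ (inv_mem hk)), hinvN, inv_mem_iff]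
  obtain ⟨h, hh, hhN⟩ : ∃ h ∈ E, h ∉ N := by
    by_contra hcon
    push Not at hcon
    rw [Subgroup.relIndex_eq_one.2 hcon] at hNidx
    omega
  have hhH : h ∈ H₂ := Or.inl hh
  haveI : H₂.FiniteIndex := Subgroup.finiteIndex_of_finite_quotient
  haveI := Fintype.ofFinite (Quotient (orbitRel (Subgroup.zpowers h) (G ⧸ H₂)))
  have hVh : MonoidHom.transfer ψ h = -1 := by
    rw [MonoidHom.transfer_eq_prod_quotient_orbitRel_zpowers_quot]
    let q₀ : Quotient (orbitRel (Subgroup.zpowers h) (G ⧸ H₂)) := Quotient.mk'' ((1 : G) : G ⧸ H₂)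
    have hfx : ∀ g : Subgroup.zpowers h, g • ((1 : G) : G ⧸ H₂) = ((1 : G) : G ⧸ H₂) := by
      rintro ⟨g, hg⟩
      show ((g * 1 : G) : G ⧸ H₂) = _
      rw [mul_one, QuotientGroup.eq, mul_one]
      exact inv_mem (Subgroup.zpowers_le.2 hhH hg)
    rw [Fintype.prod_eq_single q₀]
    · have hout : q₀.out = ((1 : G) : G ⧸ H₂) := by
        obtain ⟨g, hg⟩ := Quotient.exact' (Quotient.out_eq' q₀)
        rw [← hg]
        exact hfx g
      have hy : q₀.out.out ∈ H₂ := by
        have := Quotient.out_eq' q₀.out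
        rw [hout] at this ⊢
        have h' := QuotientGroup.eq.1 this
        rwa [mul_one, inv_mem_iff] at h'
      have hper : Function.minimalPeriod (h • ·) q₀.out = 1 :=
        Function.minimalPeriod_eq_one_iff_isFixedPt.2 (by
          rw [hout]
          exact hfx ⟨h, Subgroup.mem_zpowers h⟩)
      have e : (⟨q₀.out.out⁻¹ * h ^ Function.minimalPeriod (h • ·) q₀.out * q₀.out.out,
          QuotientGroup.out_conj_pow_minimalPeriod_mem H₂ h q₀.out⟩ : H₂) =
          (⟨q₀.out.out, hy⟩ : H₂)⁻¹ * ⟨h, hhH⟩ * ⟨q₀.out.out, hy⟩ :=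
        Subtype.ext (show q₀.out.out⁻¹ * h ^ Function.minimalPeriod (h • ·) q₀.out * q₀.out.out =
          q₀.out.out⁻¹ * h * q₀.out.out by rw [hper, pow_one])
      rw [e, map_mul, map_mul, map_inv, mul_comm (ψ _)⁻¹, mul_assoc, inv_mul_cancel, mul_one]
      show χ h = -1
      rw [hχE h hh, if_neg hhN]
    · intro q hq
      set y := q.out.out with hy
      set m := Function.minimalPeriod (h • ·) q.out
      have hmem : y⁻¹ * h ^ m * y ∈ H₂ := QuotientGroup.out_conj_pow_minimalPeriod_mem H₂ h q.out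
      have hyH : y ∉ H₂ := fun hy' => hq (by
        rw [← Quotient.out_eq' q]
        refine congrArg Quotient.mk'' ?_
        rw [← Quotient.out_eq' q.out]
        refine QuotientGroup.eq.2 ?_
        rw [mul_one]
        exact inv_mem hy')
      show χ (y⁻¹ * h ^ m * y) = 1
      have hhm : h ^ m ∈ E := pow_mem hh m
      have e1 : ∀ p : Ω, ∀ p', (y⁻¹ * h ^ m * y) • p = p' → (h ^ m) • (y • p) = y • p' := by
        intro p p' e
        rw [mul_smul, mul_smul, inv_smul_eq_iff] at e
        exact e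
      have hya : ¬ ((y • a = a ∧ y • b = b) ∨ (y • a = b ∧ y • b = a)) := fun hc' => hyH (hH₂ y hc')
      rcases hH₂' _ hmem with ⟨h1, h2⟩ | ⟨h1, h2⟩
      · have hone : h ^ m = 1 := by
          by_contra hne
          rcases eq_or_eq hZ hab hne hhm.1 hhm.2 (e1 a a h1) with u1 | u1 <;>
            rcases eq_or_eq hZ hab hne hhm.1 hhm.2 (e1 b b h2) with u2 | u2
          · exact hab (smul_left_cancel y (u1.trans u2.symm))
          · exact hya (Or.inl ⟨u1, u2⟩)
          · exact hya (Or.inr ⟨u1, u2⟩)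
          · exact hab (smul_left_cancel y (u1.trans u2.symm))
        rw [hone, mul_one, inv_mul_cancel, hχE 1 (one_mem _), if_pos (one_mem _)]
      · have hnE : y⁻¹ * h ^ m * y ∉ E := fun hcon => hab
          ((show (y⁻¹ * h ^ m * y) • a = a from hcon.1).symm.trans h1)
        have hsq : h ^ m * h ^ m = 1 := by
          by_contra hne
          have f1 : (h ^ m * h ^ m) • (y • a) = y • a := by rw [mul_smul, e1 a b h1, e1 b a h2]
          have f2 : (h ^ m * h ^ m) • (y • b) = y • b := by rw [mul_smul, e1 b a h2, e1 a b h1]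
          have hm2 : h ^ m * h ^ m ∈ E := mul_mem hhm hhm
          rcases eq_or_eq hZ hab hne hm2.1 hm2.2 f1 with u1 | u1 <;>
            rcases eq_or_eq hZ hab hne hm2.1 hm2.2 f2 with u2 | u2
          · exact hab (smul_left_cancel y (u1.trans u2.symm))
          · exact hya (Or.inl ⟨u1, u2⟩)
          · exact hya (Or.inr ⟨u1, u2⟩)
          · exact hab (smul_left_cancel y (u1.trans u2.symm))
        refine hfix _ hmem hnE ?_ (y⁻¹ • a) ?_
        · rw [show y⁻¹ * h ^ m * y * (y⁻¹ * h ^ m * y) = y⁻¹ * (h ^ m * h ^ m) * y by group, hsq,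
            mul_one, inv_mul_cancel]
        · rw [mul_smul, smul_inv_smul, mul_smul, show (h ^ m) • a = a from hhm.1]
  rcases (MonoidHom.normal_ker (MonoidHom.transfer ψ)).eq_bot_or_eq_top with hk | hk
  · have hinj : Function.Injective (MonoidHom.transfer ψ) :=
      (MonoidHom.ker_eq_bot_iff _).1 hk
    have := Nat.card_le_card_of_injective _ hinj
    rw [Nat.card_eq_fintype_card (α := ℤˣ), Fintype.card_units_int,
      CfsgLib.Char.zass_card_group hZ hab] at this
    have h9 : 3 * (1 * 1) ≤ Fintype.card Ω * ((Fintype.card Ω - 1) * Nat.card E) :=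
      Nat.mul_le_mul hn (Nat.mul_le_mul (by omega) (by omega))
    rw [← hE] at this
    omega
  · have : MonoidHom.transfer ψ h = 1 := by
      rw [← MonoidHom.mem_ker, hk]; trivial
    rw [hVh] at this
    exact absurd this (by decide)

end CfsgLib.Zass
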