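import Cfsg.Agent.Zass.EvenPair
import Cfsg.Agent.Zass.SharpNotSimple
import Mathlib

/-!
Two-point stabilisers of simple Zassenhaus groups.
-/

set_option autoImplicit false
set_option linter.style.haveILetI false

namespace CfsgLib.Zass

open MulAction

variable {G Ω : Type*} [Group G] [Finite G] [MulAction G Ω] [Fintype Ω] [IsSimpleGroup G]

theorem half_of_simple_even (hZ : Cfsg.IsZassenhausGroup G Ω) {a b : Ω} (hab : a ≠ b)
    (heven : Even (Nat.card ↥(stabilizer G a ⊓ stabilizer G b))) :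
    2 * Nat.card ↥(stabilizer G a ⊓ stabilizer G b) + 2 = Fintype.card Ω := by
  have hlarge := two_mul_card_of_even hZ hab heven
  have hn := CfsgLib.Char.zassenhaus_three_le hZ
  obtain ⟨k, hk⟩ := card_pair_dvd_sub_two hZ hab
  set d := Nat.card ↥(stabilizer G a ⊓ stabilizer G b) with hd
  have hd1 : 1 < d := CfsgLib.Char.zass_one_lt_card_pair hZ hab
  have hk2 : k ≤ 2 := by
    by_contra h
    have : d * 3 ≤ d * k := Nat.mul_le_mul_left _ (by omega)
    omega
  interval_cases k
  · omega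
  · exact absurd ‹IsSimpleGroup G› (not_simple_of_full hZ hab heven (by omega))
  · omega

theorem simple_pair_cyclic (hZ : Cfsg.IsZassenhausGroup G Ω) {a b : Ω} (hab : a ≠ b) :
    IsCyclic ↥(stabilizer G a ⊓ stabilizer G b) ∧
      ∃ v : G, orderOf v = 2 ∧ v • a = b ∧ v • b = a ∧
        ∀ h ∈ stabilizer G a ⊓ stabilizer G b, v * h * v⁻¹ = h⁻¹ := by
  haveI : Fact (Nat.Prime 2) := ⟨Nat.prime_two⟩
  obtain ⟨t, hta, htb⟩ := two_trans hZ hab hab.symm
  rcases Nat.even_or_odd (Nat.card ↥(stabilizer G a ⊓ stabilizer G b)) with he | ho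
  · have hhalf := half_of_simple_even hZ hab he
    have hsq : ∀ s : G, s • a = b → s • b = a → s * s = 1 := fun s h1 h2 =>
      swap_sq_of_even hZ hab he hhalf h1 h2
    have htt := hsq t hta htb
    have hinv : ∀ h ∈ stabilizer G a ⊓ stabilizer G b, t * h * t⁻¹ = h⁻¹ := by
      intro h hh
      have e := hsq (t * h) (by rw [mul_smul, show h • a = a from hh.1, hta])
        (by rw [mul_smul, show h • b = b from hh.2, htb])
      rw [inv_eq_of_mul_eq_one_right htt, eq_inv_iff_mul_eq_one]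
      rwa [← mul_assoc] at e
    obtain ⟨K, φ, hφ, hK⟩ := exists_fpf_action hZ hab
    haveI := hK
    haveI : Finite K := inferInstance
    refine ⟨hφ.isCyclic_of_comm fun x y => Subtype.ext ?_, t,
      orderOf_eq_prime (by rw [sq, htt]) (fun h => hab (by rw [← hta, h, one_smul])), hta, htb, hinv⟩
    have e1 := hinv _ (mul_mem x.2 y.2)
    have e2 : ((x : G) * y)⁻¹ = (x : G)⁻¹ * (y : G)⁻¹ := by
      rw [← hinv _ x.2, ← hinv _ y.2, ← e1]
      group
    show (x : G) * y = y * x
    simpa using congrArg (fun t => t⁻¹) e2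
  · obtain ⟨hc, -, hinv⟩ := CfsgLib.Char.zass_simple_pair hZ hab ho
    exact ⟨hc, t, CfsgLib.Char.zass_swap_orderOf hZ hab ho hta htb, hta, htb, hinv t hta htb⟩

end CfsgLib.Zass
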