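import Mathlib

/-!
A fixed-point-free abelian group of odd order on an elementary abelian 2-group, normalised by an
operator of prime order with two fixed points: the 2-group has prime rank.
-/

set_option autoImplicit false
set_option linter.style.haveILetI false

namespace CfsgLib.Zass

open scoped Classical

private theorem end_sum_apply {M ι : Type*} [AddCommMonoid M] (t : Finset ι) (f : ι → AddMonoid.End M) (m : M) :
    (∑ i ∈ t, f i) m = ∑ i ∈ t, f i m := by
  induction t using Finset.cons_induction with
  | empty => rfl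
  | cons a t ha ih =>
    rw [Finset.sum_cons, Finset.sum_cons, ← ih]
    rfl

private theorem end_mul_apply {M : Type*} [AddCommMonoid M] (f g : AddMonoid.End M) (m : M) :
    (f * g) m = f (g m) := rfl

private theorem end_one_apply {M : Type*} [AddCommMonoid M] (m : M) : (1 : AddMonoid.End M) m = m := rfl

/-- A finite commutative ring of odd-order roots with only two fixed points under a ring automorphism
of prime order has `2^s` elements. -/
theorem natCard_eq_two_pow {A : Type*} [CommRing A] [Finite A] [Nontrivial A]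
    {s : ℕ} (hs : s.Prime) (σ : A ≃+* A) (hσ : σ ^ s = 1)
    (hfix : ∀ a, σ a = a → a = 0 ∨ a = 1) {k : ℕ} (hk : 2 ≤ k) (hred : ∀ a : A, a ^ k = a)
    (hx : ∃ x : A, IsUnit x ∧ x ≠ 1) : Nat.card A = 2 ^ s := by
  have hidem_pow : ∀ (i : ℕ) (e : A), e * e = e → (σ ^ i) e * (σ ^ i) e = (σ ^ i) e := fun i e he => by
    rw [← map_mul, he]
  have hper : ∀ (i : ℕ) (a : A), (σ ^ (i + s)) a = (σ ^ i) a := fun i a => by
    rw [pow_add, hσ, mul_one]
  -- no nontrivial idempotents
  have hidem : ∀ f : A, f * f = f → f = 0 ∨ f = 1 := by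
    intro f hf
    by_contra hc
    push Not at hc
    obtain ⟨e, ⟨he, he0⟩, hmin⟩ := Set.exists_min_image {e : A | e * e = e ∧ e ≠ 0}
      (fun e => Nat.card (Set.range fun a : A => e * a)) (Set.toFinite _) ⟨f, hf, hc.1⟩
    have hatom : ∀ g : A, g * g = g → e * g = 0 ∨ e * g = e := by
      intro g hg
      by_contra hc'
      push Not at hc'
      have heg : e * g * (e * g) = e * g := by
        rw [mul_mul_mul_comm, he, hg]
      have hle := hmin (e * g) ⟨heg, hc'.1⟩
      rw [Nat.card_coe_set_eq, Nat.card_coe_set_eq] at hle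
      have hsub : (Set.range fun a : A => e * g * a) ⊂ Set.range fun a : A => e * a := by
        refine ⟨?_, fun h => ?_⟩
        · rintro _ ⟨a, rfl⟩
          exact ⟨g * a, (mul_assoc e g a).symm⟩
        · obtain ⟨a, ha⟩ := h ⟨1, mul_one e⟩
          simp only at ha
          exact hc'.2 (by
            calc e * g = g * e := mul_comm _ _
              _ = g * (e * g * a) := by rw [ha]
              _ = e * (g * g) * a := by ring
              _ = e := by rw [hg, ha])
      exact absurd hle (not_le.2 (Set.ncard_lt_ncard hsub))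
    by_cases hσe : σ e = e
    · rcases hfix e hσe with h | h
      · exact he0 h
      · subst h
        rcases hatom f hf with h | h
        · exact hc.1 (by simpa using h)
        · exact hc.2 (by simpa using h)
    · have horth : ∀ i, 0 < i → i < s → (σ ^ i) e * e = 0 := by
        intro i hi his
        rcases hatom _ (hidem_pow i e he) with h | h
        · rwa [mul_comm]
        · exfalso
          set e' := (σ ^ i) e with he'
          -- the orbit is injective, so `e ≤ σ^i e` forces equality
          have key : ∀ j, (σ ^ (i * j)) e * e = e := by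
            intro j
            induction j with
            | zero => simpa using he
            | succ j ih =>
              have h1 : (σ ^ i) ((σ ^ (i * j)) e) * e' = e' := by rw [he', ← map_mul, ih]
              rw [← RingAut.mul_apply, ← pow_add, show i + i * j = i * (j + 1) by ring] at h1
              calc (σ ^ (i * (j + 1))) e * e = (σ ^ (i * (j + 1))) e * (e * e') := by rw [h]
                _ = e * ((σ ^ (i * (j + 1))) e * e') := by ring
                _ = e := by rw [h1, h]
          obtain ⟨j, hj⟩ : ∃ j, i * j % s = 1 := by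
            obtain ⟨j, -, hj⟩ := Nat.exists_mul_mod_eq_one_of_coprime
              ((Nat.coprime_comm.1 (hs.coprime_iff_not_dvd.2 (Nat.not_dvd_of_pos_of_lt hi his)))) hs.one_lt
            exact ⟨j, hj⟩
          have h1 := key j
          rw [← Nat.mod_add_div (i * j) s, hj, pow_add, pow_mul, hσ, one_pow, mul_one, pow_one] at h1
          -- `σ e ≥ e`, and iterating gives equality
          have key2 : ∀ n, (σ ^ n) e * e = e := by
            intro n
            induction n with
            | zero => simpa using he
            | succ n ih =>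
              have h2 : σ ((σ ^ n) e) * σ e = σ e := by rw [← map_mul, ih]
              rw [← RingAut.mul_apply, ← pow_succ'] at h2
              calc (σ ^ (n + 1)) e * e = (σ ^ (n + 1)) e * (σ e * e) := by rw [h1]
                _ = ((σ ^ (n + 1)) e * σ e) * e := by ring
                _ = e := by rw [h2, h1]
          have h3 := key2 (s - 1)
          have h4 : σ ((σ ^ (s - 1)) e) * σ e = σ e := by rw [← map_mul, h3]
          rw [← RingAut.mul_apply, ← pow_succ', Nat.sub_add_cancel hs.one_lt.le, hσ] at h4
          exact hσe (by rw [← h4, RingAut.one_apply, mul_comm, h1])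
      have htr : ∀ a, e * a = 0 ∨ e * a = e := by
        intro a
        set t := ∑ i ∈ Finset.range s, (σ ^ i) (e * a) with ht
        have hst : σ t = t := by
          rw [ht, map_sum]
          simp only [← RingAut.mul_apply, ← pow_succ']
          have h1 := Finset.sum_range_succ' (fun i => (σ ^ i) (e * a)) s
          rw [Finset.sum_range_succ, hσ] at h1
          simpa using h1.symm
        have het : e * t = e * a := by
          rw [ht, Finset.mul_sum, Finset.sum_eq_single 0]
          · simp [← mul_assoc, he]
          · intro i hi hi0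
            rw [map_mul, ← mul_assoc, mul_comm e, horth i (by omega) (Finset.mem_range.1 hi), zero_mul]
          · intro h
            exact absurd (Finset.mem_range.2 hs.pos) h
        rcases hfix t hst with h | h
        · exact Or.inl (by rw [← het, h, mul_zero])
        · exact Or.inr (by rw [← het, h, mul_one])
      set t := ∑ i ∈ Finset.range s, (σ ^ i) e with ht
      have het : e * t = e := by
        rw [ht, Finset.mul_sum, Finset.sum_eq_single 0]
        · simpa using he
        · intro i hi hi0
          rw [mul_comm, horth i (by omega) (Finset.mem_range.1 hi)]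
        · intro h
          exact absurd (Finset.mem_range.2 hs.pos) h
      have hst : σ t = t := by
        rw [ht, map_sum]
        simp only [← RingAut.mul_apply, ← pow_succ']
        have h1 := Finset.sum_range_succ' (fun i => (σ ^ i) e) s
        rw [Finset.sum_range_succ, hσ] at h1
        simpa using h1.symm
      have ht1 : t = 1 := (hfix t hst).resolve_left fun h => he0 (by rw [← het, h, mul_zero])
      obtain ⟨x, hxu, hx1⟩ := hx
      have hsq : x * x = x := by
        have hcomp : ∀ i, (σ ^ i) e * (x * x) = (σ ^ i) e * x := by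
          intro i
          have hsurj := (σ ^ i).surjective x
          obtain ⟨a, rfl⟩ := hsurj
          rw [← map_mul, ← map_mul, ← map_mul]
          congr 1
          rcases htr a with h | h
          · rw [← mul_assoc, h, zero_mul]
          · rw [← mul_assoc, h, h]
        calc x * x = t * (x * x) := by rw [ht1, one_mul]
          _ = t * x := by
            rw [ht, Finset.sum_mul, Finset.sum_mul]
            exact Finset.sum_congr rfl fun i _ => hcomp i
          _ = x := by rw [ht1, one_mul]
      exact hx1 (hxu.mul_left_cancel (hsq.trans (mul_one x).symm))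
  have hF : IsField A := by
    refine ⟨⟨0, 1, zero_ne_one⟩, mul_comm, fun {a} ha => ⟨a ^ (k - 2), ?_⟩⟩
    have he : a ^ (k - 1) * a ^ (k - 1) = a ^ (k - 1) := by
      rw [← pow_add, show k - 1 + (k - 1) = k + (k - 2) by omega, pow_add, hred, ← pow_succ',
        show k - 2 + 1 = k - 1 by omega]
    rcases hidem _ he with h | h
    · exfalso
      apply ha
      rw [← hred a, show k = k - 1 + 1 by omega, pow_succ, h, zero_mul]
    · rw [← pow_succ', show k - 2 + 1 = k - 1 by omega, h]
  letI : Field A := hF.toField
  let Γ : Subgroup (RingAut A) := Subgroup.zpowers σ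
  haveI : Finite (RingAut A) := Finite.of_injective (fun f : RingAut A => (f : A → A)) DFunLike.coe_injective
  haveI : Fintype Γ := Fintype.ofFinite _
  haveI : Fact s.Prime := ⟨hs⟩
  have hord : orderOf σ = s := by
    refine orderOf_eq_prime hσ fun h1 => ?_
    obtain ⟨x, hxu, hx1⟩ := hx
    rcases hfix x (by rw [h1]; rfl) with h | h
    · exact hxu.ne_zero h
    · exact hx1 h
  have hrank := FixedPoints.finrank_eq_card Γ A
  rw [← Nat.card_eq_fintype_card, Nat.card_zpowers, hord] at hrank
  have hcard : Nat.card (FixedPoints.subfield Γ A) = 2 := by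
    refine Nat.card_eq_two_iff.2 ⟨0, 1, zero_ne_one, Set.eq_univ_of_forall fun ⟨z, hz⟩ => ?_⟩
    rcases hfix z (hz ⟨σ, Subgroup.mem_zpowers σ⟩) with h | h
    · exact Or.inl (Subtype.ext h)
    · exact Or.inr (Subtype.ext h)
  rw [Module.natCard_eq_pow_finrank (K := FixedPoints.subfield Γ A), hcard, hrank]

/-- The elementary abelian 2-group with a fixed-point-free abelian group normalised by an operator
of prime order with two fixed points has order `2^s`. -/
theorem natCard_module {M : Type*} [AddCommGroup M] [Finite M] (h2 : ∀ m : M, m + m = 0)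
    {K : Type*} [CommGroup K] [Finite K] [Nontrivial K] (ρ : K →* AddMonoid.End M)
    (hρ : ∀ k : K, k ≠ 1 → ∀ m, ρ k m = m → m = 0)
    {s : ℕ} (hs : s.Prime) (h : M ≃+ M) (hh : ∀ m, (⇑h)^[s] m = m)
    (σ : K ≃* K) (hσs : σ ^ s = 1) (hσfix : ∀ k, σ k = k → k = 1)
    (hcomm : ∀ k m, h (ρ k m) = ρ (σ k) (h m))
    {c : M} (hc : c ≠ 0) (hfix : ∀ m, h m = m ↔ m = 0 ∨ m = c) : Nat.card M = 2 ^ s := by
  haveI : Fintype K := Fintype.ofFinite K
  haveI : Fact s.Prime := ⟨hs⟩
  -- odd order
  have hodd : Odd (Fintype.card K) := by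
    rw [← Nat.not_even_iff_odd]
    intro he
    obtain ⟨k, hk⟩ := exists_prime_orderOf_dvd_card' (G := K) 2
      (by rw [Nat.card_eq_fintype_card]; exact he.two_dvd)
    have hk1 : k ≠ 1 := fun e => by rw [e, orderOf_one] at hk; omega
    have hkk : k * k = 1 := by rw [← pow_two, ← hk, pow_orderOf_eq_one]
    have h1 : ρ k (c + ρ k c) = c + ρ k c := by
      rw [map_add, ← end_mul_apply, ← map_mul, hkk, map_one, end_one_apply, add_comm]
    have h2' := hρ k hk1 _ h1
    have h3 : ρ k c = c := add_left_cancel (h2'.trans (h2 c).symm)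
    exact hc (hρ k hk1 c h3)
  have hpow : ∀ (i : ℕ) (k : K) (m : M), (⇑h)^[i] (ρ k m) = ρ ((σ ^ i) k) ((⇑h)^[i] m) := by
    intro i
    induction i with
    | zero => simp
    | succ i ih =>
      intro k m
      rw [Function.iterate_succ_apply', ih, hcomm, Function.iterate_succ_apply', pow_succ',
        MulAut.mul_apply]
  have hσi : ∀ i, ¬ s ∣ i → ∀ k, (σ ^ i) k = k → k = 1 := by
    intro i hi k hk
    obtain ⟨j, -, hj⟩ := Nat.exists_mul_mod_eq_one_of_coprime
      (Nat.coprime_comm.1 (hs.coprime_iff_not_dvd.2 hi)) hs.one_lt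
    have hstab : σ ^ i ∈ MulAction.stabilizer (MulAut K) k := hk
    have h1 := pow_mem hstab j
    rw [← pow_mul, ← Nat.mod_add_div (i * j) s, hj, pow_add, pow_mul, hσs, one_pow, mul_one, pow_one] at h1
    exact hσfix k h1
  have hsum0 : ∀ m, ∑ k : K, ρ k m = 0 := by
    intro m
    obtain ⟨k, hk⟩ := exists_ne (1 : K)
    refine hρ k hk _ ?_
    rw [map_sum]
    simp only [← end_mul_apply, ← map_mul]
    exact Fintype.sum_equiv (Equiv.mulLeft k) _ _ fun _ => rfl
  let T : M → M := fun m => ∑ i ∈ Finset.range s, (⇑h)^[i] m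
  have hT : ∀ m, T m = 0 ∨ T m = c := by
    intro m
    rw [← hfix]
    simp only [T, map_sum]
    have h1 := Finset.sum_range_succ' (fun i => (⇑h)^[i] m) s
    rw [Finset.sum_range_succ, hh] at h1
    simp only [Function.iterate_zero, id_eq, add_left_inj] at h1
    rw [h1]
    exact Finset.sum_congr rfl fun i _ => (Function.iterate_succ_apply' _ _ _).symm
  have hid : ∀ m, ∑ k : K, ρ k (T (ρ k⁻¹ m)) = m := by
    intro m
    simp only [T, map_sum]
    rw [Finset.sum_comm, Finset.sum_eq_single 0]
    · simp only [Function.iterate_zero, id_eq, ← end_mul_apply, ← map_mul, mul_inv_cancel,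
        map_one, end_one_apply, Finset.sum_const, Finset.card_univ]
      obtain ⟨j, hj⟩ := hodd
      rw [hj, add_nsmul, mul_nsmul, two_nsmul, one_nsmul, h2 m, nsmul_zero, zero_add]
    · intro i hi hi0
      simp only [hpow, ← end_mul_apply, ← map_mul]
      have hinj : Function.Injective fun k : K => k * (σ ^ i) k⁻¹ := by
        intro a b hab
        simp only [map_inv] at hab
        have h1 := hσi i (Nat.not_dvd_of_pos_of_lt (by omega) (Finset.mem_range.1 hi)) (a⁻¹ * b) (by
          rw [map_mul, map_inv]
          have h' : a * ((σ ^ i) a)⁻¹ = b * ((σ ^ i) b)⁻¹ := hab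
          calc ((σ ^ i) a)⁻¹ * (σ ^ i) b = a⁻¹ * (a * ((σ ^ i) a)⁻¹) * (σ ^ i) b := by group
            _ = a⁻¹ * b := by rw [h']; group)
        exact inv_mul_eq_one.1 h1
      exact (Fintype.sum_equiv (Equiv.ofBijective _ (Finite.injective_iff_bijective.1 hinj))
        (fun k => ρ (k * (σ ^ i) k⁻¹) ((⇑h)^[i] m)) (fun k => ρ k ((⇑h)^[i] m)) fun _ => rfl).trans
        (hsum0 _)
    · intro h'
      exact absurd (Finset.mem_range.2 hs.pos) h'
  let R : Subring (AddMonoid.End M) := Subring.closure (Set.range ρ)
  letI : CommRing R := Subring.closureCommRingOfComm (by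
    rintro _ ⟨a, rfl⟩ _ ⟨b, rfl⟩
    rw [← map_mul, ← map_mul, mul_comm])
  have hR : ∀ k, ρ k ∈ R := fun k => Subring.subset_closure ⟨k, rfl⟩
  have hsurj : ∀ m, ∃ a : R, (a : AddMonoid.End M) c = m := by
    intro m
    refine ⟨⟨∑ k ∈ Finset.univ.filter (fun k => T (ρ k⁻¹ m) = c), ρ k, sum_mem fun k _ => hR k⟩, ?_⟩
    conv_rhs => rw [← hid m]
    show (∑ k ∈ Finset.univ.filter (fun k => T (ρ k⁻¹ m) = c), ρ k) c = _
    rw [end_sum_apply, Finset.sum_filter]
    refine Finset.sum_congr rfl fun k _ => ?_
    split_ifs with hk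
    · rw [hk]
    · rw [(hT _).resolve_right hk, map_zero]
  have hinj : Function.Injective fun a : R => (a : AddMonoid.End M) c := by
    intro a b hab
    apply Subtype.ext
    ext m
    obtain ⟨d, rfl⟩ := hsurj m
    have e1 : ((a : AddMonoid.End M) * d) c = ((d : AddMonoid.End M) * a) c :=
      congrArg (fun f : R => (f : AddMonoid.End M) c) (mul_comm a d)
    have e2 : ((b : AddMonoid.End M) * d) c = ((d : AddMonoid.End M) * b) c :=
      congrArg (fun f : R => (f : AddMonoid.End M) c) (mul_comm b d)
    simp only [end_mul_apply] at e1 e2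
    rw [e1, e2]
    exact congrArg _ hab
  haveI : Finite R := Finite.of_injective _ hinj
  haveI : Nontrivial R := ⟨1, 0, fun e => hc (congrArg (fun f : R => (f : AddMonoid.End M) c) e)⟩
  have hcard : Nat.card R = Nat.card M := Nat.card_congr (Equiv.ofBijective _ ⟨hinj, hsurj⟩)
  rw [← hcard]
  -- conjugation by `h`
  let φ : AddMonoid.End M ≃+* AddMonoid.End M :=
    { toFun := fun f => (h : M →+ M).comp (f.comp (h.symm : M →+ M))
      invFun := fun f => (h.symm : M →+ M).comp (f.comp (h : M →+ M))
      left_inv := fun f => DFunLike.ext _ _ fun m => by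
        show h.symm (h (f (h.symm (h m)))) = f m
        rw [h.symm_apply_apply, h.symm_apply_apply]
      right_inv := fun f => DFunLike.ext _ _ fun m => by
        show h (h.symm (f (h (h.symm m)))) = f m
        rw [h.apply_symm_apply, h.apply_symm_apply]
      map_mul' := fun f g => DFunLike.ext _ _ fun m => by
        show h (f (g (h.symm m))) = h (f (h.symm (h (g (h.symm m)))))
        rw [h.symm_apply_apply]
      map_add' := fun f g => DFunLike.ext _ _ fun m => map_add h (f (h.symm m)) (g (h.symm m)) }
  have hφρ : ∀ k, φ (ρ k) = ρ (σ k) := fun k => by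
    refine DFunLike.ext _ _ fun m => ?_
    show h (ρ k (h.symm m)) = _
    rw [hcomm, h.apply_symm_apply]
  have hmap : R.map φ.toRingHom = R := by
    show (Subring.closure (Set.range ρ)).map φ.toRingHom = Subring.closure (Set.range ρ)
    rw [RingHom.map_closure]
    congr 1
    ext f
    constructor
    · rintro ⟨_, ⟨k, rfl⟩, rfl⟩
      exact ⟨σ k, (hφρ k).symm⟩
    · rintro ⟨k, rfl⟩
      exact ⟨ρ (σ.symm k), ⟨_, rfl⟩, by rw [RingEquiv.toRingHom_eq_coe, RingEquiv.coe_toRingHom, hφρ, MulEquiv.apply_symm_apply]⟩
  let ψ : R ≃+* R := (R.equivMapOfInjective φ.toRingHom φ.injective).trans (RingEquiv.subringCongr hmap)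
  have hψ : ∀ (a : R) (m : M), (ψ a : AddMonoid.End M) m = h ((a : AddMonoid.End M) (h.symm m)) :=
    fun a m => rfl
  have hψc : ∀ a : R, (ψ a : AddMonoid.End M) c = h ((a : AddMonoid.End M) c) := fun a => by
    rw [hψ, show h.symm c = c from h.symm_apply_eq.2 ((hfix c).2 (Or.inr rfl)).symm]
  refine natCard_eq_two_pow hs ψ ?_ ?_ (k := 2 ^ (Nat.totient (Fintype.card K))) ?_ ?_ ?_
  · have : ∀ (i : ℕ) (a : R), ((ψ ^ i) a : AddMonoid.End M) c = (⇑h)^[i] ((a : AddMonoid.End M) c) := by
      intro i
      induction i with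
      | zero => simp
      | succ i ih =>
        intro a
        rw [pow_succ', RingAut.mul_apply, hψc, ih, Function.iterate_succ_apply']
    ext a : 1
    exact hinj (by simp only [this, hh]; rfl)
  · intro a ha
    have := congrArg (fun f : R => (f : AddMonoid.End M) c) ha
    simp only [hψc] at this
    rcases (hfix _).1 this with h' | h'
    · exact Or.inl (hinj h')
    · exact Or.inr (hinj h')
  · exact Nat.le_self_pow (Nat.totient_pos.2 Fintype.card_pos).ne' 2
  · intro a
    haveI : CharP R 2 := CharTwo.of_one_ne_zero_of_two_eq_zero one_ne_zero (by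
      rw [← one_add_one_eq_two]
      exact Subtype.ext (DFunLike.ext _ _ fun m => h2 m))
    haveI : ExpChar R 2 := ExpChar.prime Nat.prime_two
    obtain ⟨a, ha⟩ := a
    induction ha using Subring.closure_induction with
    | mem x hx =>
      obtain ⟨k, rfl⟩ := hx
      apply Subtype.ext
      rw [SubmonoidClass.coe_pow]
      show ρ k ^ _ = ρ k
      rw [← map_pow]
      congr 1
      have hco : Nat.Coprime 2 (Fintype.card K) := Nat.coprime_two_left.2 hodd
      have h1 := Nat.ModEq.pow_totient hco
      have h2' : orderOf k ∣ Fintype.card K := orderOf_dvd_card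
      conv_rhs => rw [← pow_one k]
      exact pow_eq_pow_iff_modEq.2 (h1.of_dvd h2')
    | zero => exact zero_pow (pow_ne_zero _ two_ne_zero)
    | one => exact one_pow _
    | add x y hx hy ihx ihy =>
      show (⟨x, hx⟩ + ⟨y, hy⟩ : R) ^ _ = ⟨x, hx⟩ + ⟨y, hy⟩
      rw [add_pow_char_pow, ihx, ihy]
    | neg x hx ih =>
      show (-⟨x, hx⟩ : R) ^ _ = -⟨x, hx⟩
      rw [CharTwo.neg_eq, ih]
    | mul x y hx hy ihx ihy =>
      show (⟨x, hx⟩ * ⟨y, hy⟩ : R) ^ _ = ⟨x, hx⟩ * ⟨y, hy⟩
      rw [mul_pow, ihx, ihy]
  · obtain ⟨k, hk⟩ := exists_ne (1 : K)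
    refine ⟨⟨ρ k, hR k⟩, IsUnit.of_mul_eq_one ⟨ρ k⁻¹, hR _⟩ (Subtype.ext ?_), fun e => ?_⟩
    · show ρ k * ρ k⁻¹ = 1
      rw [← map_mul, mul_inv_cancel, map_one]
    · exact hc (hρ k hk c (congrArg (fun f : R => (f : AddMonoid.End M) c) e))

end CfsgLib.Zass
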