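import Cfsg.Agent.Zass.HalfPSL
import Mathlib

/-!
Zassenhaus groups with two-point stabilisers of even order.
-/

set_option autoImplicit false
set_option linter.style.haveILetI false

namespace CfsgLib.Zass

open MulAction

variable {G Ω : Type*} [Group G] [Finite G] [MulAction G Ω] [Fintype Ω]

theorem exists_abelian_kernel_of_even (hZ : Cfsg.IsZassenhausGroup G Ω) {a b : Ω} (hab : a ≠ b)
    (heven : Even (Nat.card ↥(stabilizer G a ⊓ stabilizer G b))) :
    ∃ (F : Subgroup G) (_ : F ≤ stabilizer G a), Nat.card F + 1 = Fintype.card Ω ∧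
      (∀ u ∈ F, u ≠ 1 → ∀ c : Ω, u • c = c → c = a) ∧ IsMulCommutative F ∧
      ∃ p f : ℕ, p.Prime ∧ Fintype.card Ω = p ^ f + 1 := by
  obtain ⟨F, hFa, hmem, hnorm, htr⟩ := exists_kernel hZ a
  have hfix : ∀ u ∈ F, u ≠ 1 → ∀ c : Ω, u • c = c → c = a := fun u hu hu1 c hc =>
    (((hmem u).1 hu).resolve_left hu1).2 c hc
  have hreg : ∀ y z : Ω, y ≠ a → z ≠ a → ∃! u : F, (u : G) • y = z := by
    intro y z hy hz
    obtain ⟨k, hk, hky⟩ := htr y z hy hz
    refine ⟨⟨k, hk⟩, hky, fun w hw => ?_⟩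
    by_contra hne
    refine hy (hfix _ (mul_mem (inv_mem hk) w.2)
      (fun h => hne (Subtype.ext (inv_mul_eq_one.1 h).symm)) y ?_)
    have hw' : (w : G) • y = z := hw
    rw [mul_smul, hw', ← hky, inv_smul_smul]
  have hn : (F.subgroupOf (stabilizer G a)).Normal := ⟨fun x hx g => hnorm g g.2 x hx⟩
  obtain ⟨hc, p, f, hp, -, hpf⟩ := kernel_elementary hZ hab
    (two_mul_card_of_even hZ hab heven) F hFa hn hreg
  exact ⟨F, hFa, (kernel_of_regular hFa hreg hab.symm).1, hfix, hc, p, f, hp, hpf⟩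

end CfsgLib.Zass
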