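import Mathlib

/-!
Sums of orbits of a fixed-point-free group of automorphisms of an abelian group: the orbit sums
cannot all cover the group nearly uniformly unless there are at most two orbits.
-/

set_option autoImplicit false

namespace CfsgLib.Zass

open Finset

variable {E A : Type*} [Group E] [Fintype E] [CommGroup A] [Fintype A] [DecidableEq A]

/-- The number of ways to write `w` as a product of conjugates of `u` and `v`. -/
def orbitPairs (φ : E →* MulAut A) (u v w : A) : ℕ :=
  (univ.filter fun p : E × E => φ p.1 u * φ p.2 v = w).card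

omit [Fintype A] in
theorem orbitPairs_smul (φ : E →* MulAut A) (g : E) (u v w : A) :
    orbitPairs φ u v (φ g w) = orbitPairs φ u v w := by
  classical
  refine card_nbij' (fun p => (g⁻¹ * p.1, g⁻¹ * p.2)) (fun p => (g * p.1, g * p.2)) ?_ ?_ ?_ ?_
  · intro p hp
    simp only [mem_coe, mem_filter, mem_univ, true_and] at hp ⊢
    rw [map_mul, map_mul, MulAut.mul_apply, MulAut.mul_apply, ← map_mul, hp, ← MulAut.mul_apply,
      ← map_mul, inv_mul_cancel, map_one, MulAut.one_apply]
  · intro p hp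
    simp only [mem_coe, mem_filter, mem_univ, true_and] at hp ⊢
    rw [map_mul, map_mul, MulAut.mul_apply, MulAut.mul_apply, ← map_mul, hp]
  · intro p _; simp
  · intro p _; simp

/-- The total number of pairs. -/
theorem sum_orbitPairs (φ : E →* MulAut A) (u v : A) :
    ∑ w : A, orbitPairs φ u v w = Fintype.card E * Fintype.card E := by
  classical
  simp only [orbitPairs]
  rw [← Finset.card_eq_sum_card_fiberwise (fun p _ => mem_univ (φ p.1 u * φ p.2 v)), card_univ,
    Fintype.card_prod]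

omit [Fintype A] in
/-- Pairs over the identity. -/
theorem orbitPairs_one (φ : E →* MulAut A) (u v : A) (h : ∀ g : E, φ g v ≠ u⁻¹) :
    orbitPairs φ u v 1 = 0 := by
  classical
  rw [orbitPairs, card_eq_zero, filter_eq_empty_iff]
  intro p _ hp
  refine h (p.1⁻¹ * p.2) ?_
  rw [map_mul, MulAut.mul_apply, eq_inv_of_mul_eq_one_right hp, ← map_inv, ← MulAut.mul_apply,
    ← map_mul, inv_mul_cancel, map_one, MulAut.one_apply]

theorem false_of_uniform (φ : E →* MulAut A) (hfpf : ∀ g : E, ∀ a : A, φ g a = a → g = 1 ∨ a = 1)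
    (hE : 2 ≤ Fintype.card E) (hbig : 2 * Fintype.card E + 1 < Fintype.card A)
    (hdvd : Fintype.card E ∣ Fintype.card A - 1)
    (hN : ∀ u v w : A, u ≠ 1 → v ≠ 1 → w ≠ 1 →
      Fintype.card E * (Fintype.card E - 1) * Fintype.card A ≤
        orbitPairs φ u v w * ((Fintype.card A - 1) * (Fintype.card A + 1))) : False := by
  classical
  set d := Fintype.card E with hd
  set n := Fintype.card A with hn
  obtain ⟨r, hr⟩ := hdvd
  -- the least number of pairs
  let T : Finset (A × A × A) := univ.filter fun t => t.1 ≠ 1 ∧ t.2.1 ≠ 1 ∧ t.2.2 ≠ 1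
  obtain ⟨u, hu⟩ : ∃ u : A, u ≠ 1 := Fintype.exists_ne_of_one_lt_card (by omega) 1
  have hinj : ∀ g k : E, φ g u = φ k u → g = k := fun g k e => by
    rcases hfpf (k⁻¹ * g) u (by rw [map_mul, MulAut.mul_apply, e, ← MulAut.mul_apply, ← map_mul,
      inv_mul_cancel, map_one, MulAut.one_apply]) with h | h
    · exact (inv_mul_eq_one.mp h).symm
    · exact absurd h hu
  obtain ⟨t₀, ht₀, hmin⟩ := T.exists_min_image (fun t => orbitPairs φ t.1 t.2.1 t.2.2)
    ⟨(u, u, u), mem_filter.mpr ⟨mem_univ _, hu, hu, hu⟩⟩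
  set m := orbitPairs φ t₀.1 t₀.2.1 t₀.2.2 with hm
  have hge : ∀ a b c : A, a ≠ 1 → b ≠ 1 → c ≠ 1 → m ≤ orbitPairs φ a b c := fun a b c ha hb hc =>
    hmin (a, b, c) (mem_filter.mpr ⟨mem_univ _, ha, hb, hc⟩)
  have hlow : d * (d - 1) * n ≤ m * ((n - 1) * (n + 1)) :=
    hN _ _ _ (mem_filter.mp ht₀).2.1 (mem_filter.mp ht₀).2.2.1 (mem_filter.mp ht₀).2.2.2
  have hu' : u⁻¹ ≠ 1 := inv_ne_one.mpr hu
  have h0 : orbitPairs φ u u⁻¹ 1 = d := by
    rw [orbitPairs, hd, ← card_univ]
    refine card_bij (fun p _ => p.1) (fun _ _ => mem_univ _) (fun p hp q hq e => ?_) fun g _ =>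
      ⟨(g, g), by simp, rfl⟩
    simp only [mem_filter, mem_univ, true_and, map_inv, mul_inv_eq_one] at hp hq
    exact Prod.ext e ((hinj _ _ hp).symm.trans (e.trans (hinj _ _ hq)))
  have hne : (univ.erase (1 : A)).card = n - 1 := by
    rw [card_erase_of_mem (mem_univ _), card_univ]
  have hsum0 : ∑ w ∈ univ.erase (1 : A), orbitPairs φ u u⁻¹ w = d * (d - 1) := by
    have := sum_orbitPairs φ u u⁻¹
    rw [← add_sum_erase _ _ (mem_univ (1 : A)), h0, ← hd] at this
    rw [Nat.mul_sub_one]
    omega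
  have hup : (n - 1) * m ≤ d * (d - 1) := by
    rw [← hsum0, ← hne, ← smul_eq_mul]
    exact card_nsmul_le_sum _ _ _ fun w hw => hge u u⁻¹ w hu hu' (ne_of_mem_erase hw)
  have hrm : r * m = d - 1 := by
    rw [hr] at hup hlow
    have e1 : r * m ≤ d - 1 := by
      refine Nat.le_of_mul_le_mul_left ?_ (by omega : 0 < d)
      rwa [← mul_assoc]
    have e2 : (d - 1) * n ≤ r * m * (n + 1) := by
      refine Nat.le_of_mul_le_mul_left ?_ (by omega : 0 < d)
      calc d * ((d - 1) * n) = d * (d - 1) * n := by ring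
        _ ≤ _ := hlow
        _ = _ := by ring
    by_contra hne'
    obtain ⟨k, hk⟩ : ∃ k, d - 1 = r * m + 1 + k := ⟨d - 1 - r * m - 1, by omega⟩
    rw [hk] at e2
    have hdn : d < n := by omega
    have e3 : (r * m + 1 + k) * n = r * m * n + n + k * n := by ring
    have e4 : r * m * (n + 1) = r * m * n + r * m := by ring
    omega
  have hm1 : 0 < m := by
    rcases Nat.eq_zero_or_pos m with h | h
    · rw [h] at hrm; omega
    · exact h
  have hmeq : d * (d - 1) = (n - 1) * m := by rw [hr, mul_assoc, hrm]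
  have hunif : ∀ w : A, w ≠ 1 → orbitPairs φ u u⁻¹ w = m := by
    intro w hw
    refine le_antisymm ?_ (hge u u⁻¹ w hu hu' hw)
    by_contra hlt
    push Not at hlt
    have := sum_lt_sum (s := univ.erase (1 : A)) (f := fun _ => m)
      (g := fun w => orbitPairs φ u u⁻¹ w) (fun x hx => hge u u⁻¹ x hu hu' (ne_of_mem_erase hx))
      ⟨w, mem_erase.mpr ⟨hw, mem_univ _⟩, hlt⟩
    rw [sum_const, hne, smul_eq_mul, hsum0, hmeq] at this
    exact lt_irrefl _ this
  -- three orbits
  let orb : A → Finset A := fun a => univ.image fun g : E => φ g a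
  have horb : ∀ a, (orb a).card ≤ d := fun a => card_image_le.trans (by rw [card_univ])
  obtain ⟨p, hp⟩ : ∃ p, p ∉ insert 1 (orb u⁻¹) := by
    by_contra h
    push Not at h
    have := (card_le_card (fun x _ => h x : (univ : Finset A) ⊆ _)).trans (card_insert_le _ _)
    rw [card_univ] at this
    have := horb u⁻¹
    omega
  obtain ⟨w, hw⟩ : ∃ w, w ∉ insert 1 (orb u⁻¹ ∪ orb p) := by
    by_contra h
    push Not at h
    have := (card_le_card (fun x _ => h x : (univ : Finset A) ⊆ _)).trans (card_insert_le _ _)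
    rw [card_univ] at this
    have := card_union_le (orb u⁻¹) (orb p)
    have := horb u⁻¹
    have := horb p
    omega
  simp only [mem_insert, mem_union, not_or, orb, mem_image, mem_univ, true_and, not_exists] at hp hw
  obtain ⟨hp1, hpu⟩ := hp
  obtain ⟨hw1, hwu, hwp⟩ := hw
  have hp0 : orbitPairs φ u p 1 = 0 := orbitPairs_one φ u p fun g hg => hpu g⁻¹ (by
    rw [← hg, ← MulAut.mul_apply, ← map_mul, inv_mul_cancel, map_one, MulAut.one_apply])
  obtain ⟨s₀, hs₀1, hs₀⟩ : ∃ s : A, s ≠ 1 ∧ m < orbitPairs φ u p s := by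
    by_contra h
    push Not at h
    have := sum_orbitPairs φ u p
    rw [← add_sum_erase _ _ (mem_univ (1 : A)), hp0, zero_add, ← hd] at this
    have h2 := sum_le_card_nsmul (univ.erase (1 : A)) (orbitPairs φ u p) m
      fun x hx => h x (ne_of_mem_erase hx)
    rw [this, smul_eq_mul, hne, ← hmeq] at h2
    have := Nat.le_of_mul_le_mul_left h2 (by omega)
    omega
  obtain ⟨⟨g, k₀⟩, hgk⟩ : (univ.filter fun q : E × E => φ q.1 s₀ * φ q.2 u⁻¹ = w).Nonempty := by
    rw [← card_pos]
    exact hm1.trans_le (hge s₀ u⁻¹ w hs₀1 hu' hw1)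
  simp only [mem_filter, mem_univ, true_and] at hgk
  -- triples, counted in two ways
  let S : Finset (E × E × E) :=
    univ.filter fun q => φ q.1 u * φ q.2.1 u⁻¹ * φ q.2.2 p = w
  have hS1 : S.card = d * m := by
    rw [card_eq_sum_card_fiberwise (f := fun q : E × E × E => q.2.2) (t := univ)
      (fun _ _ => mem_univ _), sum_congr rfl (g := fun _ => m), sum_const, card_univ, smul_eq_mul]
    intro l _
    rw [← hunif (w * (φ l p)⁻¹) (fun e => hwp l (mul_inv_eq_one.mp e).symm), orbitPairs]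
    refine card_nbij' (fun q => (q.1, q.2.1)) (fun q => (q.1, q.2, l)) ?_ ?_ ?_ ?_
    · rintro ⟨a, b, c⟩ hq
      simp only [S, mem_coe, mem_filter, mem_univ, true_and] at hq ⊢
      rw [← hq.1, hq.2, mul_inv_cancel_right]
    · rintro ⟨a, b⟩ hq
      simp only [S, mem_coe, mem_filter, mem_univ, true_and] at hq ⊢
      exact ⟨by rw [hq, inv_mul_cancel_right], trivial⟩
    · rintro ⟨a, b, c⟩ hq
      simp only [S, mem_coe, mem_filter, mem_univ, true_and] at hq
      simp [hq.2]
    · rintro ⟨a, b⟩ _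
      rfl
  have hS2 : d * m < S.card := by
    have hfib : ∀ k : E, (S.filter fun q => q.2.1 = k).card =
        orbitPairs φ u p (w * (φ k u⁻¹)⁻¹) := by
      intro k
      rw [orbitPairs]
      refine card_nbij' (fun q => (q.1, q.2.2)) (fun q => (q.1, k, q.2)) ?_ ?_ ?_ ?_
      · rintro ⟨a, b, c⟩ hq
        simp only [S, mem_coe, mem_filter, mem_univ, true_and] at hq ⊢
        rw [← hq.1, hq.2, mul_right_comm (φ a u), mul_inv_cancel_right]
      · rintro ⟨a, c⟩ hq
        simp only [S, mem_coe, mem_filter, mem_univ, true_and] at hq ⊢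
        exact ⟨by rw [mul_right_comm, hq, inv_mul_cancel_right], trivial⟩
      · rintro ⟨a, b, c⟩ hq
        simp only [S, mem_coe, mem_filter, mem_univ, true_and] at hq
        simp [hq.2]
      · rintro ⟨a, c⟩ _
        rfl
    rw [card_eq_sum_card_fiberwise (f := fun q : E × E × E => q.2.1) (t := univ)
      (fun _ _ => mem_univ _), hd, ← card_univ, ← smul_eq_mul, ← sum_const]
    refine sum_lt_sum (fun k _ => ?_) ⟨k₀, mem_univ _, ?_⟩
    · rw [hfib]
      exact hge u p _ hu hp1 fun e => hwu k (mul_inv_eq_one.mp e).symm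
    · rw [hfib, ← hgk, mul_inv_cancel_right, orbitPairs_smul]
      exact hs₀
  omega

end CfsgLib.Zass
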