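import Cfsg.Agent.Char.Linear
import Mathlib

/-!
Characters of a finite abelian group and Fourier inversion.
-/

set_option autoImplicit false
set_option linter.style.haveILetI false

namespace CfsgLib.Zass

open scoped ComplexConjugate
open Finset

variable {A : Type*} [Group A] [Fintype A]

theorem finite_hom (A : Type*) [Group A] [Finite A] : Finite (A →* ℂˣ) :=
  Nat.finite_of_card_ne_zero (by
    rw [CfsgLib.Char.card_hom_eq_index_commutator]
    exact Subgroup.index_ne_zero_of_finite)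

theorem conj_hom_apply (l : A →* ℂˣ) (x : A) : conj ((l x : ℂˣ) : ℂ) = ((l x⁻¹ : ℂˣ) : ℂ) := by
  rw [map_inv, Units.val_inv_eq_inv_val, Complex.inv_eq_conj]
  refine Complex.norm_eq_one_of_pow_eq_one (n := Fintype.card A) ?_ Fintype.card_ne_zero
  rw [← Units.val_pow_eq_pow_val, ← map_pow, pow_card_eq_one, map_one, Units.val_one]

variable (hcomm : ∀ x y : A, x * y = y * x)
include hcomm

theorem card_hom [Fintype (A →* ℂˣ)] : Fintype.card (A →* ℂˣ) = Fintype.card A := by
  rw [← Nat.card_eq_fintype_card, CfsgLib.Char.card_hom_eq_index_commutator,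
    show commutator A = ⊥ from (commutator_eq_bot_iff A).mpr ⟨⟨hcomm⟩⟩,
    Subgroup.index_bot, Nat.card_eq_fintype_card]

theorem sum_hom [Fintype (A →* ℂˣ)] (x : A) [Decidable (x = 1)] :
    ∑ l : A →* ℂˣ, ((l x : ℂˣ) : ℂ) = if x = 1 then (Fintype.card A : ℂ) else 0 := by
  by_cases h : x = 1
  · rw [if_pos h, h]
    simp [card_hom hcomm]
  · rw [if_neg h]
    obtain ⟨μ, hμ⟩ := CfsgLib.Char.exists_hom_ne_one (g := x) (by
      rw [show commutator A = ⊥ from (commutator_eq_bot_iff A).mpr ⟨⟨hcomm⟩⟩]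
      exact h)
    have e : ((μ x : ℂˣ) : ℂ) * ∑ l : A →* ℂˣ, ((l x : ℂˣ) : ℂ) =
        ∑ l : A →* ℂˣ, ((l x : ℂˣ) : ℂ) := by
      rw [mul_sum]
      exact Fintype.sum_equiv (Equiv.mulLeft μ) _ _ fun l => by simp
    by_contra h0
    exact hμ (Units.ext (mul_right_cancel₀ h0 (e.trans (one_mul _).symm)))

theorem sum_hom_ne_one [Fintype (A →* ℂˣ)] [DecidableEq (A →* ℂˣ)] (x : A) [Decidable (x = 1)] :
    ∑ l ∈ univ.erase (1 : A →* ℂˣ), ((l x : ℂˣ) : ℂ) =
      (if x = 1 then (Fintype.card A : ℂ) else 0) - 1 := by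
  rw [← sum_hom hcomm x, ← add_sum_erase _ _ (mem_univ (1 : A →* ℂˣ))]
  simp

/-- Fourier inversion. -/
theorem inversion [Fintype (A →* ℂˣ)] (f : A → ℂ) (x : A) :
    f x = ∑ l : A →* ℂˣ, Cfsg.classInner f (fun y => (l y : ℂ)) * (l x : ℂ) := by
  classical
  simp only [CfsgLib.Char.classInner_def, mul_assoc, sum_mul, mul_sum]
  rw [sum_comm]
  simp only [conj_hom_apply, ← Units.val_mul, ← map_mul, ← mul_sum, sum_hom hcomm,
    inv_mul_eq_one]
  simp
  field_simp

end CfsgLib.Zass
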