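import Cfsg.Agent.Char.ZassenhausInvolutions
import Cfsg.Agent.Char.NormTwo
import Cfsg.Agent.Char.FrobeniusChars
import Cfsg.Agent.Zass.AbelianDual
import Mathlib

/-!
Exceptional characters at an abelian kernel of a Zassenhaus group.
-/

set_option autoImplicit false
set_option linter.style.haveILetI false

namespace CfsgLib.Zass

open MulAction Finset
open scoped ComplexConjugate

variable {G Ω : Type*} [Group G] [MulAction G Ω] [Fintype Ω]

/-- The centraliser of a non-identity kernel element lies in an abelian kernel. -/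
theorem centralizer_le_kernel (hZ : Cfsg.IsZassenhausGroup G Ω) {a : Ω} (F : Subgroup G)
    (hFa : F ≤ stabilizer G a) (hFcard : Nat.card F + 1 = Fintype.card Ω)
    (hFfix : ∀ u ∈ F, u ≠ 1 → ∀ c : Ω, u • c = c → c = a) {u : G} (hu : u ∈ F) (hu1 : u ≠ 1)
    {g : G} (hg : g * u = u * g) : g ∈ F := by
  by_cases hg1 : g = 1
  · rw [hg1]; exact one_mem _
  have hga : g • a = a := hFfix u hu hu1 _ (by
    rw [smul_smul, ← hg, mul_smul, show u • a = a from hFa hu])
  refine CfsgLib.Char.zass_mem_kernel hZ F hFa hFcard hFfix hga fun c hc => ?_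
  by_contra hca
  have hfix : g • (u • c) = u • c := by rw [smul_smul, hg, mul_smul, hc]
  rcases eq_or_eq hZ (Ne.symm hca) hg1 hga hc hfix with h | h
  · exact hca (smul_left_cancel u (h.trans (hFa hu : u • a = a).symm))
  · exact hca (hFfix u hu hu1 c h)

/-- A point stabiliser is the product of the kernel and a two-point stabiliser. -/
theorem exists_mul_pair (hZ : Cfsg.IsZassenhausGroup G Ω) {a b : Ω} (hab : a ≠ b) (F : Subgroup G)
    (hFa : F ≤ stabilizer G a) (hFcard : Nat.card F + 1 = Fintype.card Ω)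
    (hFfix : ∀ u ∈ F, u ≠ 1 → ∀ c : Ω, u • c = c → c = a) {g : G} (hg : g • a = a) :
    ∃ u ∈ F, ∃ h ∈ stabilizer G a ⊓ stabilizer G b, g = u * h := by
  classical
  haveI := finite_of_isZassenhaus hZ
  obtain ⟨K, hKa, hKmem, -, hKt⟩ := exists_kernel hZ a
  have hgb : g • b ≠ a := fun h => hab (smul_left_cancel g (hg.trans h.symm))
  obtain ⟨u, hu, hub⟩ := hKt b (g • b) hab.symm hgb
  refine ⟨u, ?_, u⁻¹ * g, ⟨?_, ?_⟩, by group⟩
  · rcases (hKmem u).1 hu with rfl | ⟨h1, h2⟩
    · exact one_mem _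
    · exact CfsgLib.Char.zass_mem_kernel hZ F hFa hFcard hFfix h1 h2
  · show (u⁻¹ * g) • a = a
    rw [mul_smul, hg, inv_smul_eq_iff, show u • a = a from hKa hu]
  · show (u⁻¹ * g) • b = b
    rw [mul_smul, inv_smul_eq_iff, hub]

/-- Conjugating the induced function by an element normalising the subgroup. -/
theorem indFun_conj {K : Type*} [Group K] [Fintype K] {H : Subgroup K} (θ θ' : H → ℂ) {h : K}
    (hn : ∀ x, x ∈ H ↔ h * x * h⁻¹ ∈ H) (hθ : ∀ x : H, θ' x = θ ⟨h * x * h⁻¹, (hn x).1 x.2⟩) :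
    Cfsg.indFun H θ' = Cfsg.indFun H θ := by
  funext g
  rw [CfsgLib.Char.indFun_def, CfsgLib.Char.indFun_def]
  congr 1
  refine Fintype.sum_equiv (Equiv.mulRight h⁻¹) _ _ fun x => ?_
  rw [Equiv.coe_mulRight, show (x * h⁻¹)⁻¹ * g * (x * h⁻¹) = h * (x⁻¹ * g * x) * h⁻¹ by group]
  by_cases hx : x⁻¹ * g * x ∈ H
  · rw [CfsgLib.Char.extendByZero_of_mem θ' hx,
      CfsgLib.Char.extendByZero_of_mem θ ((hn _).1 hx), hθ]
  · rw [CfsgLib.Char.extendByZero_of_not_mem θ' hx,
      CfsgLib.Char.extendByZero_of_not_mem θ fun h' => hx ((hn _).2 h')]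

/-- A non-trivial linear character of the kernel has trivial inertia in the two-point stabiliser. -/
theorem eq_one_of_hom_fixed (hZ : Cfsg.IsZassenhausGroup G Ω) {a b : Ω} (F : Subgroup G)
    (hFa : F ≤ stabilizer G a) (hFcard : Nat.card F + 1 = Fintype.card Ω)
    (hFfix : ∀ u ∈ F, u ≠ 1 → ∀ c : Ω, u • c = c → c = a)
    (φ : ↥(stabilizer G a ⊓ stabilizer G b) →* MulAut F)
    (hφ : ∀ h (u : F), ((φ h u : F) : G) = h * u * (h : G)⁻¹)
    (hcomm : ∀ x y : F, x * y = y * x) (hab : a ≠ b)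
    {l : F →* ℂˣ} (hl : l ≠ 1) {h : ↥(stabilizer G a ⊓ stabilizer G b)}
    (he : ∀ u : F, l (φ h u) = l u) : h = 1 := by
  by_contra h1
  haveI := finite_of_isZassenhaus hZ
  let f : F →* F :=
    { toFun := fun u => φ h u * u⁻¹
      map_one' := by simp
      map_mul' := fun x y => by
        rw [map_mul, mul_inv_rev, mul_assoc, ← mul_assoc (φ h y), hcomm (φ h y * y⁻¹) x⁻¹,
          ← mul_assoc, ← mul_assoc] }
  have hinj : Function.Injective f := by
    refine (injective_iff_map_eq_one f).2 fun u hu => ?_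
    by_contra hu1
    have e : φ h u = u := mul_inv_eq_one.mp hu
    have e' : (h : G) * u * (h : G)⁻¹ = u := by rw [← hφ, e]
    have hu1' : (u : G) ≠ 1 := fun h' => hu1 (Subtype.ext h')
    have hh := centralizer_le_kernel hZ F hFa hFcard hFfix u.2 hu1' (mul_inv_eq_iff_eq_mul.mp e')
    by_cases hh1 : (h : G) = 1
    · exact h1 (Subtype.ext hh1)
    · exact hab (hFfix _ hh hh1 b h.2.2).symm
  obtain ⟨x, hx⟩ : ∃ x, l x ≠ 1 := by
    by_contra h'
    push Not at h'
    exact hl (MonoidHom.ext h')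
  obtain ⟨u, hu⟩ := (Finite.injective_iff_surjective.mp hinj) x
  exact hx (by rw [← hu]; show l (φ h u * u⁻¹) = 1; rw [map_mul, map_inv, he, mul_inv_cancel])

variable [Fintype G]

/-- The exceptional characters. -/
theorem exists_theta (hZ : Cfsg.IsZassenhausGroup G Ω) {a b : Ω} (hab : a ≠ b) (F : Subgroup G)
    (hFa : F ≤ stabilizer G a) (hFcard : Nat.card F + 1 = Fintype.card Ω)
    (hFfix : ∀ u ∈ F, u ≠ 1 → ∀ c : Ω, u • c = c → c = a) (hcomm : ∀ x y : F, x * y = y * x)
    (φ : ↥(stabilizer G a ⊓ stabilizer G b) →* MulAut F)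
    (hφ : ∀ h (u : F), ((φ h u : F) : G) = h * u * (h : G)⁻¹)
    [Fintype (F →* ℂˣ)] [DecidableEq (F →* ℂˣ)]
    (hbig : 2 * Nat.card ↥(stabilizer G a ⊓ stabilizer G b) + 1 < Nat.card F) :
    ∃ (ε : ℂ) (r : ℕ) (θ : Fin r → G → ℂ) (cl : (F →* ℂˣ) → Fin r),
      (ε = 1 ∨ ε = -1) ∧ (∀ i, Cfsg.IsIrrCharacter G (θ i)) ∧ Function.Injective θ ∧ 2 < r ∧
      r * Nat.card ↥(stabilizer G a ⊓ stabilizer G b) + 1 = Nat.card F ∧
      (∀ l l', l ≠ 1 → l' ≠ 1 → (cl l' = cl l ↔ ∃ h, l' = l.comp (φ h).toMonoidHom)) ∧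
      (∀ i, (univ.filter fun l : F →* ℂˣ => l ≠ 1 ∧ cl l = i).card =
        Nat.card ↥(stabilizer G a ⊓ stabilizer G b)) ∧
      ∀ l l', l ≠ 1 → l' ≠ 1 → Cfsg.indFun F (fun u => (l u : ℂ)) -
        Cfsg.indFun F (fun u => (l' u : ℂ)) = ε • (θ (cl l) - θ (cl l')) := by
  classical
  let E : Subgroup G := stabilizer G a ⊓ stabilizer G b
  let N : Subgroup G := stabilizer G a
  let AN : Subgroup N := F.subgroupOf N
  haveI hANn : AN.Normal := ⟨fun x hx g =>
    CfsgLib.Char.zass_kernel_conj hZ F hFa hFcard hFfix (g := (g : G)) g.2 hx⟩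
  have hC : ∀ x ∈ AN, x ≠ 1 → Subgroup.centralizer ({x} : Set N) ≤ AN := by
    intro x hx hx1 g hg
    rw [Subgroup.mem_centralizer_singleton_iff] at hg
    exact centralizer_le_kernel hZ F hFa hFcard hFfix hx (fun h => hx1 (Subtype.ext h))
      (congrArg Subtype.val hg)
  let res : (F →* ℂˣ) → (AN →* ℂˣ) := fun l =>
    l.comp (Subgroup.subgroupOfEquivOfLe hFa).toMonoidHom
  let α : (F →* ℂˣ) → N → ℂ := fun l => Cfsg.indFun AN (fun x => (res l x : ℂ))
  have hres : ∀ l : F →* ℂˣ, ∀ x : AN, res l x = l ⟨((x : N) : G), x.2⟩ := fun _ _ => rfl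
  have hresinj : ∀ l l' : F →* ℂˣ, (∀ x, res l x = res l' x) → l = l' := fun l l' h =>
    MonoidHom.ext fun u => h ⟨⟨u, hFa u.2⟩, u.2⟩
  have hind : ∀ l : F →* ℂˣ, Cfsg.indFun N (α l) = Cfsg.indFun F (fun u => (l u : ℂ)) := fun l =>
    CfsgLib.Char.indFun_indFun hFa (fun u => (l u : ℂ))
  have hirr : ∀ l : F →* ℂˣ, l ≠ 1 → Cfsg.IsIrrCharacter N (α l) := fun l hl =>
    CfsgLib.Char.isIrrCharacter_indFun_of_centralizer_le hC (CfsgLib.Char.isIrrCharacter_ofHom _)
      fun e => hl (hresinj l 1 fun x => Units.ext (congrFun e x))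
  have hdeg : ∀ l : F →* ℂˣ, α l 1 = (AN.index : ℂ) := fun l => by
    simp only [α, CfsgLib.Char.indFun_one, map_one, Units.val_one, mul_one]
  have hvan : ∀ l : F →* ℂˣ, ∀ x : N, (x : G) ∉ (F : Set G) → α l x = 0 := fun l x hx =>
    CfsgLib.Char.indFun_eq_zero_of_normal _ hx
  -- equal induced characters come from one orbit
  have horbit : ∀ l l' : F →* ℂˣ, (α l = α l' ∧ l ≠ 1 ↔
      ∃ h : E, l ≠ 1 ∧ l' = l.comp (φ h).toMonoidHom) := by
    intro l l'
    constructor
    · rintro ⟨e, hl⟩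
      have hne : Cfsg.classInner (fun x : AN => (res l' x : ℂ)) (fun x : AN => α l x) ≠ 0 := by
        rw [← CfsgLib.Char.classInner_indFun _
          (CfsgLib.Char.IsIrrCharacter.isClassFunction (hirr l hl))]
        show Cfsg.classInner (α l') (α l) ≠ 0
        rw [← e, CfsgLib.Char.IsIrrCharacter.classInner_self (hirr l hl)]
        exact one_ne_zero
      obtain ⟨g, hg⟩ : ∃ g : N, Cfsg.classInner (fun x : AN => (res l' x : ℂ))
          (fun x : AN => (res l ⟨g * x * g⁻¹, hANn.conj_mem x x.2 g⟩ : ℂ)) ≠ 0 := by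
        by_contra h
        push Not at h
        refine hne ?_
        have hfun : (fun x : AN => α l x) = (Nat.card AN : ℂ)⁻¹ •
            ∑ g : N, (fun x : AN => (res l ⟨g * x * g⁻¹, hANn.conj_mem x x.2 g⟩ : ℂ)) := by
          funext x
          rw [Pi.smul_apply, Finset.sum_apply, smul_eq_mul]
          exact CfsgLib.Char.indFun_apply_normal _ x
        rw [hfun, CfsgLib.Char.classInner_smul_right, CfsgLib.Char.classInner_sum_right,
          Finset.sum_eq_zero (fun g _ => h g), mul_zero]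
      obtain ⟨u, hu, h, hh, hgu⟩ := exists_mul_pair hZ hab F hFa hFcard hFfix (g := (g : G)) g.2
      refine ⟨⟨h, hh⟩, hl, ?_⟩
      let lg : AN →* ℂˣ :=
        (res l).comp (MulAut.conjNormal (H := AN) g).toMonoidHom
      have hlg : (fun x : AN => (res l ⟨g * x * g⁻¹, hANn.conj_mem x x.2 g⟩ : ℂ)) =
          fun x => (lg x : ℂ) := rfl
      rw [hlg] at hg
      have heq : res l' = lg := by
        by_contra h'
        exact hg (CfsgLib.Char.IsIrrCharacter.classInner_of_ne (CfsgLib.Char.isIrrCharacter_ofHom _)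
          (CfsgLib.Char.isIrrCharacter_ofHom _) fun e' => h' (MonoidHom.ext fun x =>
            Units.ext (congrFun e' x)))
      refine MonoidHom.ext fun w => ?_
      have e1 := DFunLike.congr_fun heq ⟨⟨w, hFa w.2⟩, w.2⟩
      rw [hres] at e1
      refine e1.trans (congrArg l (Subtype.ext ?_))
      show (g : G) * w * (g : G)⁻¹ = (φ ⟨h, hh⟩ w : G)
      rw [hgu, hφ, show u * h * (w : G) * (u * h)⁻¹ = u * (h * w * h⁻¹) * u⁻¹ by group]
      have hm : h * (w : G) * h⁻¹ ∈ F :=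
        CfsgLib.Char.zass_kernel_conj hZ F hFa hFcard hFfix hh.1 w.2
      rw [show u * (h * (w : G) * h⁻¹) = h * w * h⁻¹ * u from
        congrArg Subtype.val (hcomm ⟨u, hu⟩ ⟨_, hm⟩), mul_inv_cancel_right]
    · rintro ⟨h, hl, rfl⟩
      refine ⟨?_, hl⟩
      refine (indFun_conj _ _ (h := (⟨(h : G), h.2.1⟩ : N)) (fun x => ⟨fun hx => hANn.conj_mem x hx _,
        fun hx => ?_⟩) fun x => ?_).symm
      · have := hANn.conj_mem _ hx (⟨(h : G), h.2.1⟩ : N)⁻¹
        simpa [mul_assoc] using this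
      · show ((l (φ h ⟨((x : N) : G), x.2⟩) : ℂˣ) : ℂ) = _
        refine congrArg (fun w : F => ((l w : ℂˣ) : ℂ)) (Subtype.ext ?_)
        exact hφ h _
  -- classes
  set S : Finset (N → ℂ) := (univ.filter fun l : F →* ℂˣ => l ≠ 1).image α with hS
  have hcardE : ∀ l : F →* ℂˣ, l ≠ 1 →
      (univ.image fun h : E => l.comp (φ h).toMonoidHom).card = Nat.card E := by
    intro l hl
    rw [card_image_of_injective, card_univ, Nat.card_eq_fintype_card]
    intro h k e
    have : k⁻¹ * h = 1 := by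
      refine eq_one_of_hom_fixed hZ F hFa hFcard hFfix φ hφ hcomm hab
        (l := l.comp (φ k).toMonoidHom) (fun h' => hl (MonoidHom.ext fun u => ?_)) fun u => ?_
      · have := DFunLike.congr_fun h' ((φ k).symm u)
        simpa using this
      · show l (φ k (φ (k⁻¹ * h) u)) = l (φ k u)
        rw [← MulAut.mul_apply, ← map_mul, mul_inv_cancel_left]
        exact DFunLike.congr_fun e u
    exact (inv_mul_eq_one.mp this).symm
  have hfib : ∀ l : F →* ℂˣ, l ≠ 1 → (univ.filter fun l' : F →* ℂˣ => l' ≠ 1 ∧ α l' = α l) =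
      univ.image fun h : E => l.comp (φ h).toMonoidHom := by
    intro l hl
    ext l'
    simp only [mem_filter, mem_univ, true_and, mem_image]
    constructor
    · rintro ⟨-, e⟩
      obtain ⟨h, -, rfl⟩ := (horbit l l').1 ⟨e.symm, hl⟩
      exact ⟨h, rfl⟩
    · rintro ⟨h, rfl⟩
      refine ⟨fun h' => hl (MonoidHom.ext fun u => ?_), ((horbit l _).2 ⟨h, hl, rfl⟩).1.symm⟩
      have := DFunLike.congr_fun h' ((φ h).symm u)
      simpa using this
  have hcard : S.card * Nat.card E + 1 = Nat.card F := by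
    have h1 : (univ.filter fun l : F →* ℂˣ => l ≠ 1).card = S.card * Nat.card E := by
      rw [card_eq_sum_card_fiberwise (f := α) (t := S) fun l hl => mem_image_of_mem _ hl,
        sum_congr rfl (g := fun _ => Nat.card E) fun f hf => ?_, sum_const, smul_eq_mul]
      obtain ⟨l, hl, rfl⟩ := mem_image.1 hf
      rw [filter_filter, hfib l (mem_filter.1 hl).2, hcardE l (mem_filter.1 hl).2]
    rw [← h1, Finset.filter_ne', card_erase_of_mem (mem_univ _), card_univ, card_hom hcomm,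
      Nat.card_eq_fintype_card]
    have := Fintype.card_pos (α := F)
    omega
  have hr : 2 < S.card := by
    have hd : 0 < Nat.card E := Nat.card_pos
    by_contra h
    have : S.card * Nat.card E ≤ 2 * Nat.card E := Nat.mul_le_mul_right _ (by omega)
    have hb : 2 * Nat.card E + 1 < Nat.card F := hbig
    omega
  have hrep : ∀ i : Fin S.card, ∃ l : F →* ℂˣ, l ≠ 1 ∧ α l = (S.equivFin.symm i : N → ℂ) := fun i => by
    obtain ⟨l, hl, e⟩ := mem_image.1 (S.equivFin.symm i).2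
    exact ⟨l, (mem_filter.1 hl).2, e⟩
  choose L hL1 hLα using hrep
  obtain ⟨ε, hε, θ, hθ, hθi, hdiff⟩ := CfsgLib.Char.exists_exceptional (S := (F : Set G)) (H := N)
    (fun g hg s hs hgs => (CfsgLib.Char.zassenhaus_kernel_TI hZ a F hFa hFcard hFfix).1 g hg s hs hgs)
    (n := S.card) (by omega) (χ := fun i => α (L i)) (fun i => hirr _ (hL1 i))
    (fun i j e => S.equivFin.symm.injective (Subtype.ext (by
      simp only at e
      rw [← hLα, ← hLα, e])))
    (fun i => hvan _) (fun i j => by rw [hdeg, hdeg])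
  let cl : (F →* ℂˣ) → Fin S.card := fun l =>
    if hl : l ≠ 1 then S.equivFin ⟨α l, mem_image_of_mem _ (mem_filter.2 ⟨mem_univ _, hl⟩)⟩
    else ⟨0, by omega⟩
  have hclα : ∀ l, l ≠ 1 → α (L (cl l)) = α l := fun l hl => by
    rw [hLα]
    simp only [cl, dif_pos hl, Equiv.symm_apply_apply]
  have hcliff : ∀ l l', l ≠ 1 → l' ≠ 1 → (cl l' = cl l ↔ α l' = α l) := fun l l' hl hl' => by
    simp only [cl, dif_pos hl, dif_pos hl', EmbeddingLike.apply_eq_iff_eq, Subtype.mk.injEq]
  refine ⟨ε, S.card, θ, cl, hε, hθ, hθi, hr, hcard, fun l l' hl hl' => ?_, fun i => ?_,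
    fun l l' hl hl' => ?_⟩
  · rw [hcliff l l' hl hl']
    have h := congrArg (fun T : Finset (F →* ℂˣ) => l' ∈ T) (hfib l hl)
    simp only [mem_filter, mem_univ, true_and, mem_image, eq_iff_iff] at h
    exact ⟨fun e => (h.1 ⟨hl', e⟩).imp fun _ e' => e'.symm,
      fun ⟨g, e⟩ => (h.2 ⟨g, e.symm⟩).2⟩
  · have hi : cl (L i) = i := by
      simp only [cl, dif_pos (hL1 i)]
      exact S.equivFin.apply_eq_iff_eq_symm_apply.mpr (Subtype.ext (hLα i))
    rw [← hcardE (L i) (hL1 i), ← hfib (L i) (hL1 i)]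
    congr 1
    refine filter_congr fun l' _ => and_congr_right fun hl' => ?_
    rw [← hcliff (L i) l' (hL1 i) hl', hi]
  · rw [← hind l, ← hind l', ← hclα l hl, ← hclα l' hl']
    exact hdiff _ _

end CfsgLib.Zass
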