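import Cfsg.Agent.Char.ZassenhausChars
import Cfsg.Agent.Zass.AbelianExceptional
import Mathlib

/-!
The characters with a fixed vector for an abelian kernel.
-/

set_option autoImplicit false
set_option linter.style.haveILetI false

namespace CfsgLib.Zass

open MulAction Finset
open scoped ComplexConjugate

variable {G Ω : Type*} [Group G] [Fintype G] [MulAction G Ω] [Fintype Ω]

/-- The trivial character, the permutation character less one and the principal series are the
only characters with a fixed vector for the kernel. -/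
theorem exists_principal [IsSimpleGroup G] (hZ : Cfsg.IsZassenhausGroup G Ω) {a b : Ω} (hab : a ≠ b)
    (hodd : Odd (Nat.card ↥(stabilizer G a ⊓ stabilizer G b))) (F : Subgroup G) [Fintype F]
    (hFa : F ≤ stabilizer G a) (hFcard : Nat.card F + 1 = Fintype.card Ω)
    (hFfix : ∀ u ∈ F, u ≠ 1 → ∀ c : Ω, u • c = c → c = a) :
    ∃ (St : G → ℂ) (P : Finset (G → ℂ)), Cfsg.IsIrrCharacter G St ∧ St 1 = (Nat.card F : ℂ) ∧
      (∀ u ∈ F, u ≠ 1 → St u = 0) ∧
      (∀ χ ∈ P, Cfsg.IsIrrCharacter G χ ∧ χ 1 = (Nat.card F : ℂ) + 1 ∧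
        ∀ u ∈ F, u ≠ 1 → χ u = 1) ∧
      ∀ χ, Cfsg.IsIrrCharacter G χ →
        Cfsg.classInner (fun u : F => χ u) (fun _ => 1) ≠ 0 →
          χ = (fun _ => 1) ∨ χ = St ∨ χ ∈ P := by
  classical
  haveI := hZ.1
  have hn3 := CfsgLib.Char.zassenhaus_three_le hZ
  let E : Subgroup G := stabilizer G a ⊓ stabilizer G b
  let N : Subgroup G := stabilizer G a
  haveI hpre : IsPretransitive G Ω := ⟨fun p q => by
    obtain ⟨c, hc⟩ := Fintype.exists_ne_of_one_lt_card (by omega) p
    obtain ⟨d, hd⟩ := Fintype.exists_ne_of_one_lt_card (by omega) q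
    obtain ⟨g, hg, -⟩ := two_trans hZ hc.symm hd.symm
    exact ⟨g, hg⟩⟩
  have hidx : N.index = Fintype.card Ω := by
    rw [index_stabilizer_of_transitive, Nat.card_eq_fintype_card]
  -- the permutation character
  set π : G → ℂ := Cfsg.indFun N (fun _ => 1) with hπ
  have hπch : Cfsg.IsCharacter G π :=
    CfsgLib.Char.IsCharacter.indFun CfsgLib.Char.isCharacter_one
  have hπfix : ∀ g, π g = (Nat.card (fixedBy Ω g) : ℂ) := fun g => by
    rw [hπ, CfsgLib.Char.indFun_one_stabilizer]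
  have hπcl := CfsgLib.Char.IsCharacter.isClassFunction hπch
  have hnorm : Cfsg.classInner π π = 2 := by
    rw [hπ, CfsgLib.Char.classInner_indFun _ hπcl, CfsgLib.Char.classInner_def]
    have horb : Fintype.card (orbitRel.Quotient N Ω) = 2 := by
      rw [← Nat.card_eq_fintype_card, Nat.card_eq_two_iff]
      refine ⟨Quotient.mk'' a, Quotient.mk'' b, fun h => ?_, ?_⟩
      · obtain ⟨g, hg⟩ := Quotient.exact' h
        have h1 : (g : G) • b = a := hg
        exact hab (smul_left_cancel (g : G) ((g.2 : (g : G) • a = a).trans h1.symm))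
      · ext q
        induction q using Quotient.inductionOn' with
        | h c =>
          simp only [Set.mem_insert_iff, Set.mem_singleton_iff, Set.mem_univ, iff_true]
          by_cases hc : c = a
          · exact Or.inl (by rw [hc])
          · right
            refine Quotient.sound' ?_
            obtain ⟨g, hga, hgb⟩ := two_trans hZ hab (Ne.symm hc)
            exact ⟨⟨g, hga⟩, hgb⟩
    have hb := MulAction.sum_card_fixedBy_eq_card_orbits_mul_card_group N Ω
    rw [horb] at hb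
    simp only [one_mul, hπfix, Complex.conj_natCast]
    rw [← Nat.cast_sum, show ∑ x : N, Nat.card (fixedBy Ω (x : G)) = 2 * Fintype.card N from ?_,
      Nat.cast_mul, ← Nat.card_eq_fintype_card, mul_left_comm, inv_mul_cancel₀
        (Nat.cast_ne_zero.2 Nat.card_pos.ne'), mul_one]
    · norm_num
    · rw [← hb]
      exact sum_congr rfl fun x _ => by rw [Nat.card_eq_fintype_card]; rfl
  have hπ1 : Cfsg.classInner π (fun _ => 1) = 1 := by
    rw [hπ, CfsgLib.Char.classInner_indFun _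
      (CfsgLib.Char.IsCharacter.isClassFunction CfsgLib.Char.isCharacter_one)]
    exact CfsgLib.Char.classInner_one_one
  choose! c hc using fun χ (hχ : Cfsg.IsIrrCharacter G χ) =>
    CfsgLib.Char.IsCharacter.exists_classInner_eq_natCast hπch hχ
  have hone : (fun _ : G => (1 : ℂ)) ∈ CfsgLib.Char.irrFinset G :=
    CfsgLib.Char.mem_irrFinset.2 CfsgLib.Char.isIrrCharacter_one
  set I := (CfsgLib.Char.irrFinset G).erase (fun _ => 1) with hI
  have hIirr : ∀ χ ∈ I, Cfsg.IsIrrCharacter G χ := fun χ h =>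
    CfsgLib.Char.mem_irrFinset.1 (mem_of_mem_erase h)
  have hsq : ∑ χ ∈ I, c χ * c χ = 1 := by
    have h := CfsgLib.Char.classInner_eq_sum_irr hπcl π
    rw [hnorm, ← add_sum_erase _ _ hone, hπ1, map_one, mul_one, ← hI] at h
    have e : ∑ χ ∈ I, Cfsg.classInner π χ * conj (Cfsg.classInner π χ) =
        ((∑ χ ∈ I, c χ * c χ : ℕ) : ℂ) := by
      rw [Nat.cast_sum]
      exact sum_congr rfl fun χ hχ => by
        rw [hc χ (hIirr χ hχ), Complex.conj_natCast, Nat.cast_mul]
    rw [e] at h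
    exact_mod_cast (by linear_combination -h : ((∑ χ ∈ I, c χ * c χ : ℕ) : ℂ) = 1)
  obtain ⟨St, hStI, hSt⟩ : ∃ St ∈ I, c St ≠ 0 := by
    by_contra h
    push Not at h
    rw [sum_eq_zero (fun χ hχ => by rw [h χ hχ, mul_zero])] at hsq
    exact zero_ne_one hsq
  have hsplit := add_sum_erase I (fun χ => c χ * c χ) hStI
  rw [hsq] at hsplit
  have hc1 : c St = 1 := by
    have h1 : c St * 1 ≤ c St * c St := Nat.mul_le_mul_left _ (Nat.pos_of_ne_zero hSt)
    omega
  have hc0 : ∀ χ ∈ I, χ ≠ St → c χ = 0 := by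
    intro χ hχ hne
    have h1 : ∑ x ∈ I.erase St, c x * c x = 0 := by rw [hc1] at hsplit; omega
    exact (mul_self_eq_zero).1 (sum_eq_zero_iff.1 h1 χ (mem_erase.2 ⟨hne, hχ⟩))
  have hStirr := hIirr St hStI
  have hπeq : ∀ g, π g = 1 + St g := by
    intro g
    have h := congrFun (CfsgLib.Char.eq_sum_irr hπcl) g
    rw [← add_sum_erase _ _ hone, hπ1, one_smul, ← hI, Pi.add_apply, Finset.sum_apply] at h
    rw [h, sum_eq_single St (fun χ hχ hne => by
      rw [Pi.smul_apply, hc χ (hIirr χ hχ), hc0 χ hχ hne, Nat.cast_zero, zero_smul])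
      (fun h => absurd hStI h), Pi.smul_apply, hc St hStirr, hc1, Nat.cast_one, one_smul]
  -- the projection on the two-point stabiliser
  have hdec : ∀ g : N, ∃ u : F, ∃ h : E, (g : G) = (u : G) * (h : G) := fun g => by
    obtain ⟨u, hu, h, hh, e⟩ := exists_mul_pair hZ hab F hFa hFcard hFfix (g := (g : G)) g.2
    exact ⟨⟨u, hu⟩, ⟨h, hh⟩, e⟩
  choose pu pe hpe using hdec
  have huniq : ∀ (u u' : F) (h h' : E), (u : G) * h = u' * h' → h = h' := by
    intro u u' h h' e
    have e1 : (u' : G)⁻¹ * u = h' * (h : G)⁻¹ := by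
      rw [eq_mul_inv_iff_mul_eq, mul_assoc, e, inv_mul_cancel_left]
    have hm : (u' : G)⁻¹ * u ∈ E := e1 ▸ mul_mem h'.2 (inv_mem h.2)
    have : (u' : G)⁻¹ * u = 1 := by
      by_contra hne
      exact hab (hFfix _ (mul_mem (inv_mem u'.2) u.2) hne b hm.2).symm
    rw [this] at e1
    exact (Subtype.ext (mul_inv_eq_one.1 e1.symm)).symm
  let pr : N →* E := MonoidHom.mk' pe fun g g' => by
    have hm : (pe g : G) * pu g' * (pe g : G)⁻¹ ∈ F :=
      CfsgLib.Char.zass_kernel_conj hZ F hFa hFcard hFfix (pe g).2.1 (pu g').2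
    refine huniq (pu (g * g')) ⟨(pu g : G) * _, mul_mem (pu g).2 hm⟩ _ _ ?_
    rw [← hpe, Subgroup.coe_mul, Subgroup.coe_mul, hpe g, hpe g']
    group
  have hpr : ∀ g : N, pr g = 1 ↔ (g : G) ∈ F := fun g => by
    constructor
    · intro h
      have h' : pe g = 1 := h
      rw [hpe g, h', OneMemClass.coe_one, mul_one]
      exact (pu g).2
    · intro h
      refine huniq (pu g) ⟨g, h⟩ _ 1 ?_
      show (pu g : G) * (pe g : G) = (g : G) * ((1 : E) : G)
      rw [← hpe, OneMemClass.coe_one, mul_one]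
  obtain ⟨hcyc, -, -⟩ := CfsgLib.Char.zass_simple_pair hZ hab hodd
  have hEcomm : ∀ x y : E, x * y = y * x :=
    haveI := hcyc.commGroup.toCommMonoid
    fun x y => (IsCyclic.commGroup (α := E)).mul_comm x y
  haveI := finite_hom E
  haveI : Fintype (E →* ℂˣ) := Fintype.ofFinite _
  set P : Finset (G → ℂ) := (univ.erase (1 : E →* ℂˣ)).image
    (fun μ => Cfsg.indFun N (fun x => ((μ.comp pr) x : ℂ))) with hP
  have hPirr : ∀ μ : E →* ℂˣ, μ ≠ 1 →
      Cfsg.IsIrrCharacter G (Cfsg.indFun N (fun x => ((μ.comp pr) x : ℂ))) ∧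
      ∀ u ∈ F, u ≠ 1 → Cfsg.indFun N (fun x => ((μ.comp pr) x : ℂ)) u = 1 := by
    intro μ hμ
    refine CfsgLib.Char.zass_principal_series hZ hab hodd F hFa hFcard hFfix (μ.comp pr)
      (fun u hu => by rw [MonoidHom.comp_apply, (hpr u).2 hu, map_one]) fun h => hμ ?_
    refine MonoidHom.ext fun e => ?_
    have h2 := DFunLike.congr_fun h (⟨(e : G), e.2.1⟩ : N)
    have e' : pr ⟨(e : G), e.2.1⟩ = e :=
      huniq _ 1 _ _ ((hpe ⟨(e : G), e.2.1⟩).symm.trans (one_mul _).symm)
    rwa [MonoidHom.comp_apply, e'] at h2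
  refine ⟨St, P, hStirr, ?_, fun u hu hu1 => ?_, fun χ hχ => ?_, fun χ hχ hne => ?_⟩
  · have h := hπeq 1
    rw [hπ, CfsgLib.Char.indFun_one, hidx, mul_one, ← hFcard] at h
    push_cast at h
    linear_combination -h
  · have h := hπeq u
    have : Nat.card (fixedBy Ω u) = 1 := by
      rw [Nat.card_eq_one_iff_unique]
      exact ⟨⟨fun p q => Subtype.ext ((hFfix u hu hu1 _ p.2).trans (hFfix u hu hu1 _ q.2).symm)⟩,
        ⟨⟨a, hFa hu⟩⟩⟩
    rw [hπfix, this, Nat.cast_one] at h
    linear_combination -h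
  · obtain ⟨μ, hμ, rfl⟩ := mem_image.1 hχ
    obtain ⟨h1, h2⟩ := hPirr μ (ne_of_mem_erase hμ)
    refine ⟨h1, ?_, h2⟩
    rw [CfsgLib.Char.indFun_one, map_one, Units.val_one, mul_one, hidx, ← hFcard]
    push_cast
    ring
  · have hsum : ∑ μ : E →* ℂˣ, Cfsg.classInner (fun x : N => χ x) (fun x => ((μ.comp pr) x : ℂ)) =
        Cfsg.classInner (fun u : F => χ u) (fun _ => 1) := by
      simp only [CfsgLib.Char.classInner_def, ← mul_sum]
      rw [sum_comm]
      simp only [← mul_sum, conj_hom_apply, MonoidHom.comp_apply, sum_hom hEcomm]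
      simp only [inv_eq_one, mul_ite, mul_zero]
      rw [← sum_filter, ← sum_mul,
        CfsgLib.Char.zass_card_stab hZ hab, ← hFcard, Nat.add_sub_cancel, Nat.cast_mul,
        ← Nat.card_eq_fintype_card (α := E), mul_inv, mul_comm (∑ x ∈ _, _) (Nat.card E : ℂ),
        mul_assoc, inv_mul_cancel_left₀ (Nat.cast_ne_zero.2 Nat.card_pos.ne')]
      congr 1
      refine sum_nbij' (fun x : N => if h : (x : G) ∈ F then (⟨x, h⟩ : F) else 1)
        (fun u : F => ⟨u, hFa u.2⟩) ?_ ?_ ?_ ?_ ?_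
      · intro x _; exact mem_coe.2 (mem_univ _)
      · intro u _
        simp only [mem_coe, mem_filter, mem_univ, true_and]
        exact (hpr _).2 u.2
      · intro x hx
        simp only [mem_coe, mem_filter, mem_univ, true_and] at hx
        simp [(hpr x).1 hx]
      · intro u _; simp
      · intro x hx
        simp only [mem_filter, mem_univ, true_and] at hx
        simp [(hpr x).1 hx]
    obtain ⟨μ, -, hμ⟩ := exists_ne_zero_of_sum_ne_zero (hsum ▸ hne)
    rw [← CfsgLib.Char.classInner_indFun_right (CfsgLib.Char.IsIrrCharacter.isClassFunction hχ)] at hμ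
    by_cases hμ1 : μ = 1
    · subst hμ1
      by_cases hχ1 : χ = fun _ => 1
      · exact Or.inl hχ1
      · refine Or.inr (Or.inl ?_)
        by_contra hne'
        apply hμ
        have e : (fun x : N => (((1 : E →* ℂˣ).comp pr) x : ℂ)) = fun _ => 1 := by
          funext x; simp
        rw [e, ← hπ, ← CfsgLib.Char.classInner_conj, hc χ hχ, hc0 χ (mem_erase.2 ⟨hχ1,
          CfsgLib.Char.mem_irrFinset.2 hχ⟩) hne', Nat.cast_zero, map_zero]
    · refine Or.inr (Or.inr (mem_image.2 ⟨μ, mem_erase.2 ⟨hμ1, mem_univ _⟩, ?_⟩))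
      by_contra hne'
      exact hμ (CfsgLib.Char.IsIrrCharacter.classInner_of_ne hχ (hPirr μ hμ1).1 (Ne.symm hne'))

end CfsgLib.Zass
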