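import Cfsg.Agent.Char.ZassenhausClasses
import Cfsg.Agent.Char.ClassProducts
import Cfsg.Agent.Zass.AbelianCount
import Cfsg.Agent.Zass.AbelianPrincipal
import Mathlib

/-!
In a simple Zassenhaus group with abelian kernel and odd two-point stabilisers of order `d` the
degree is at most `2 d + 2`.
-/

set_option autoImplicit false
set_option linter.style.haveILetI false

namespace CfsgLib.Zass

open MulAction Finset
open scoped ComplexConjugate

private theorem key_identity {ι : Type*} (s : Finset ι) (f g : ι → ℂ) (m e : ℂ) :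
    ∑ i ∈ s, (-m + e * f i) * (-m + e * g i) =
      (s.card : ℂ) * m * m - m * e * (∑ i ∈ s, f i) - m * e * (∑ i ∈ s, g i) +
        e * e * ∑ i ∈ s, f i * g i := by
  rw [mul_sum, mul_sum, mul_sum, show (s.card : ℂ) * m * m = ∑ _i ∈ s, m * m by
    rw [sum_const, nsmul_eq_mul, mul_assoc], ← sum_sub_distrib, ← sum_sub_distrib, ← sum_add_distrib]
  exact sum_congr rfl fun i _ => by ring

variable {G Ω : Type*} [Group G] [Finite G] [MulAction G Ω] [Fintype Ω]

theorem false_of_odd_simple [IsSimpleGroup G] (hZ : Cfsg.IsZassenhausGroup G Ω) {a b : Ω}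
    (hab : a ≠ b) (hodd : Odd (Nat.card ↥(stabilizer G a ⊓ stabilizer G b))) (F : Subgroup G)
    (hFa : F ≤ stabilizer G a) (hFcard : Nat.card F + 1 = Fintype.card Ω)
    (hFfix : ∀ u ∈ F, u ≠ 1 → ∀ c : Ω, u • c = c → c = a) (hcomm' : IsMulCommutative F)
    (hbig : 2 * Nat.card ↥(stabilizer G a ⊓ stabilizer G b) + 1 < Nat.card F) : False := by
  classical
  letI := Fintype.ofFinite G
  letI : CommGroup F := { (inferInstance : Group F) with mul_comm := fun x y => hcomm'.is_comm.comm x y }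
  have hcomm : ∀ x y : F, x * y = y * x := fun x y => mul_comm x y
  let E : Subgroup G := stabilizer G a ⊓ stabilizer G b
  let φ : E →* MulAut F := MonoidHom.mk'
    (fun h =>
      { toFun := fun u => ⟨h * u * (h : G)⁻¹,
          CfsgLib.Char.zass_kernel_conj hZ F hFa hFcard hFfix h.2.1 u.2⟩
        invFun := fun u => ⟨(h : G)⁻¹ * u * h, by
          have := CfsgLib.Char.zass_kernel_conj hZ F hFa hFcard hFfix
            (g := (h : G)⁻¹) (inv_mem h.2.1 : (h : G)⁻¹ ∈ stabilizer G a) u.2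
          rwa [inv_inv] at this⟩
        left_inv := fun u => Subtype.ext (by simp [mul_assoc])
        right_inv := fun u => Subtype.ext (by simp [mul_assoc])
        map_mul' := fun x y => Subtype.ext (by
          show (h : G) * ((x : G) * y) * (h : G)⁻¹ = h * x * (h : G)⁻¹ * (h * y * (h : G)⁻¹)
          group) })
    (fun x y => MulEquiv.ext fun u => Subtype.ext (by
      show ((x : G) * y) * u * ((x : G) * y)⁻¹ = x * (y * u * (y : G)⁻¹) * (x : G)⁻¹
      group))
  have hφ : ∀ h (u : F), ((φ h u : F) : G) = h * u * (h : G)⁻¹ := fun _ _ => rfl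
  haveI := finite_hom F
  letI : Fintype (F →* ℂˣ) := Fintype.ofFinite _
  obtain ⟨ε, r, θ, cl, hε, hθ, hθi, hr, hrd, horb, hfib, hdiff⟩ :=
    exists_theta hZ hab F hFa hFcard hFfix hcomm φ hφ hbig
  obtain ⟨St, P, hSt, hSt1, hStu, hP, hTchar⟩ := exists_principal hZ hab hodd F hFa hFcard hFfix
  have hd3 : 3 ≤ Nat.card E := CfsgLib.Char.zass_three_le_pair hZ hab hodd
  obtain ⟨e, he, hεe⟩ : ∃ e : ℤ, (e = 1 ∨ e = -1) ∧ ε = (e : ℂ) := by
    rcases hε with rfl | rfl
    · exact ⟨1, Or.inl rfl, by simp⟩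
    · exact ⟨-1, Or.inr rfl, by simp⟩
  have he2 : ε * ε = 1 := by rcases hε with rfl | rfl <;> norm_num
  have hεc : conj ε = ε := by rcases hε with rfl | rfl <;> simp
  set n := Nat.card F with hn
  set d := Nat.card E with hd
  have hnF : (Fintype.card F : ℂ) = (n : ℂ) := by rw [hn, Nat.card_eq_fintype_card]
  have hdE : (Fintype.card E : ℂ) = (d : ℂ) := by rw [hd, Nat.card_eq_fintype_card]
  have hdC : (d : ℂ) ≠ 0 := Nat.cast_ne_zero.2 (by omega)
  have hrdC : (r : ℂ) * d = (n : ℂ) - 1 := by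
    rw [eq_sub_iff_add_eq]
    exact_mod_cast hrd
  have hn1 : (n : ℂ) - 1 ≠ 0 := by
    rw [← hrdC]
    exact mul_ne_zero (Nat.cast_ne_zero.2 (by omega)) hdC
  -- multiplicities on the kernel
  let κ : (G → ℂ) → (F →* ℂˣ) → ℂ := fun χ l =>
    Cfsg.classInner (fun u : F => χ u) (fun u => (l u : ℂ))
  have hκnat : ∀ χ, Cfsg.IsIrrCharacter G χ → ∀ l, ∃ k : ℕ, κ χ l = k := fun χ hχ l =>
    CfsgLib.Char.IsCharacter.exists_classInner_eq_natCast'
      (CfsgLib.Char.IsCharacter.restrict (CfsgLib.Char.IsIrrCharacter.isCharacter hχ) F)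
      (CfsgLib.Char.isCharacter_ofHom l)
  have hκdiff : ∀ χ, Cfsg.IsIrrCharacter G χ → ∀ l l', l ≠ 1 → l' ≠ 1 →
      κ χ l - κ χ l' = ε * ((if χ = θ (cl l) then 1 else 0) - (if χ = θ (cl l') then 1 else 0)) := by
    intro χ hχ l l' hl hl'
    have h := congrArg (fun f => Cfsg.classInner χ f) (hdiff l l' hl hl')
    simp only [CfsgLib.Char.classInner_sub_right, CfsgLib.Char.classInner_smul_right, hεc,
      CfsgLib.Char.classInner_indFun_right (CfsgLib.Char.IsIrrCharacter.isClassFunction hχ),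
      CfsgLib.Char.IsIrrCharacter.classInner_eq hχ (hθ _)] at h
    exact h
  have hrep : ∀ i, ∃ l, l ≠ 1 ∧ cl l = i := fun i => by
    obtain ⟨l, hl⟩ := Finset.card_pos.1 (show 0 < _ by rw [hfib i]; omega)
    exact ⟨l, (mem_filter.1 hl).2⟩
  have hm : ∀ χ, ∃ m : ℕ, Cfsg.IsIrrCharacter G χ → ∀ l, l ≠ 1 →
      κ χ l = (m : ℂ) + if χ = θ (cl l) then ε else 0 := by
    intro χ
    by_cases hχ : Cfsg.IsIrrCharacter G χ
    · obtain ⟨i, hi⟩ : ∃ i, χ ≠ θ i := by
        by_contra h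
        push Not at h
        have := congrArg Fin.val (hθi ((h ⟨0, by omega⟩).symm.trans (h ⟨1, by omega⟩)))
        simp at this
      obtain ⟨l₀, hl₀, hl₀i⟩ := hrep i
      obtain ⟨m, hm⟩ := hκnat χ hχ l₀
      refine ⟨m, fun _ l hl => ?_⟩
      have h := hκdiff χ hχ l l₀ hl hl₀
      rw [hl₀i, if_neg hi, sub_zero, hm] at h
      rw [← sub_eq_iff_eq_add'.symm.symm] at *
      split_ifs at h ⊢
      · linear_combination h
      · linear_combination h
    · exact ⟨0, fun h => absurd h hχ⟩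
  choose m hm using hm
  let o : Fin r → F → ℂ := fun i u =>
    ∑ l ∈ univ.filter (fun l : F →* ℂˣ => l ≠ 1 ∧ cl l = i), ((l u : ℂˣ) : ℂ)
  have hsumo : ∀ u, ∑ i, o i u = ∑ l ∈ univ.erase (1 : F →* ℂˣ), ((l u : ℂˣ) : ℂ) := fun u => by
    simp only [o, ← filter_filter]
    rw [sum_fiberwise, filter_ne']
  have hval : ∀ χ, Cfsg.IsIrrCharacter G χ → ∀ u : F, χ (u : G) = κ χ 1 +
      (m χ : ℂ) * ((if u = 1 then (n : ℂ) else 0) - 1) +
      ε * ∑ i, if χ = θ i then o i u else 0 := by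
    intro χ hχ u
    rw [inversion hcomm (fun v : F => χ v) u, ← add_sum_erase _ _ (mem_univ (1 : F →* ℂˣ)),
      MonoidHom.one_apply, Units.val_one, mul_one, add_assoc]
    congr 1
    rw [← hnF, ← sum_hom_ne_one hcomm u, mul_sum, mul_sum,
      ← sum_fiberwise (univ.erase 1) cl, ← sum_fiberwise (univ.erase 1) cl, ← sum_add_distrib]
    refine sum_congr rfl fun i _ => ?_
    have hset : (univ.erase (1 : F →* ℂˣ)).filter (fun l => cl l = i) =
        univ.filter (fun l => l ≠ 1 ∧ cl l = i) := by ext l; simp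
    rw [mul_ite, mul_zero, hset]
    simp only [o]
    split_ifs with h
    · rw [mul_sum, ← sum_add_distrib]
      refine sum_congr rfl fun l hl => ?_
      simp only [mem_filter, mem_univ, true_and] at hl
      show κ χ l * _ = _
      rw [hm χ hχ l hl.1, hl.2, if_pos h, add_mul]
    · rw [add_zero]
      refine sum_congr rfl fun l hl => ?_
      simp only [mem_filter, mem_univ, true_and] at hl
      show κ χ l * _ = _
      rw [hm χ hχ l hl.1, hl.2, if_neg h, add_zero]
  obtain ⟨u₀, hu₀⟩ : ∃ u : F, u ≠ 1 := by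
    refine Fintype.exists_ne_of_one_lt_card ?_ 1
    rw [← Nat.card_eq_fintype_card]
    omega
  have hu₀' : (u₀ : G) ≠ 1 := fun h => hu₀ (Subtype.ext h)
  set T : Finset (G → ℂ) := insert (fun _ => 1) (insert St P) with hT
  have hTconst : ∀ χ ∈ T, Cfsg.IsIrrCharacter G χ ∧ ∃ c : ℂ, ∀ u : F, u ≠ 1 → χ u = c := by
    intro χ hχ
    simp only [hT, mem_insert] at hχ
    rcases hχ with rfl | rfl | h
    · exact ⟨CfsgLib.Char.isIrrCharacter_one, 1, fun _ _ => rfl⟩
    · exact ⟨hSt, 0, fun u hu => hStu u u.2 fun h => hu (Subtype.ext h)⟩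
    · exact ⟨(hP χ h).1, 1, fun u hu => (hP χ h).2.2 u u.2 fun h => hu (Subtype.ext h)⟩
  have hθT : ∀ i, θ i ∉ T := by
    intro i hi
    obtain ⟨-, c, hc⟩ := hTconst _ hi
    have hκc : ∀ l, l ≠ 1 → κ (θ i) l = (Nat.card F : ℂ)⁻¹ * (θ i 1 - c) := by
      intro l hl
      show Cfsg.classInner (fun u : F => θ i u) (fun u => (l u : ℂ)) = _
      rw [CfsgLib.Char.classInner_def]
      congr 1
      have hz : ∑ u : F, conj ((l u : ℂˣ) : ℂ) = 0 := by
        have h := CfsgLib.Char.IsIrrCharacter.classInner_of_ne CfsgLib.Char.isIrrCharacter_one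
          (CfsgLib.Char.isIrrCharacter_ofHom l)
          fun e => hl (MonoidHom.ext fun u => Units.ext (by simpa using (congrFun e u).symm))
        rw [CfsgLib.Char.classInner_def, mul_eq_zero] at h
        simpa [← Nat.card_eq_fintype_card] using h.resolve_left (by simp)
      have hpt : ∀ u : F, θ i u * conj ((l u : ℂˣ) : ℂ) =
          c * conj ((l u : ℂˣ) : ℂ) + if u = 1 then θ i 1 - c else 0 := fun u => by
        by_cases hu : u = 1
        · subst hu; simp
        · rw [if_neg hu, add_zero, hc u hu]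
      rw [sum_congr rfl fun u _ => hpt u, sum_add_distrib, ← mul_sum, hz, mul_zero, zero_add,
        Finset.sum_ite_eq' univ (1 : F) fun _ => θ i 1 - c, if_pos (mem_univ _)]
    obtain ⟨l, hl, hli⟩ := hrep i
    obtain ⟨j, hj⟩ : ∃ j, j ≠ i := by
      haveI : Nontrivial (Fin r) := Fin.nontrivial_iff_two_le.2 (by omega)
      exact exists_ne i
    obtain ⟨l', hl', hlj⟩ := hrep j
    have h := hκdiff _ (hθ i) l l' hl hl'
    rw [hκc l hl, hκc l' hl', sub_self, hli, hlj, if_pos rfl, if_neg (hθi.ne hj.symm), sub_zero,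
      mul_one] at h
    rcases hε with rfl | rfl <;> norm_num at h
  have hk0 : ∀ χ, Cfsg.IsIrrCharacter G χ → χ ∉ T → κ χ 1 = 0 := by
    intro χ hχ hχT
    by_contra h
    refine hχT ?_
    simpa [hT] using hTchar χ hχ (by simpa [κ] using h)
  have hθval : ∀ i, ∀ u : F, θ i u =
      (m (θ i) : ℂ) * ((if u = 1 then (n : ℂ) else 0) - 1) + ε * o i u := fun i u => by
    rw [hval _ (hθ i) u, hk0 _ (hθ i) (hθT i), zero_add, Finset.sum_eq_single i
      (fun j _ hj => if_neg fun h => hj (hθi h).symm) (fun h => absurd (mem_univ i) h), if_pos rfl]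
  have ho1 : ∀ i, o i 1 = d := fun i => by
    simp only [o, map_one, Units.val_one, sum_const, hfib i, nsmul_eq_mul, mul_one]
  have hθ1 : ∀ i, θ i 1 = (m (θ i) : ℂ) * ((n : ℂ) - 1) + ε * d := fun i => by
    have h := hθval i 1
    rwa [if_pos rfl, ho1, OneMemClass.coe_one] at h
  obtain ⟨m₀, hm₀⟩ : ∃ m₀ : ℕ, ∀ i, m (θ i) = m₀ := by
    refine ⟨m (θ ⟨0, by omega⟩), fun i => ?_⟩
    obtain ⟨l, hl, hli⟩ := hrep i
    obtain ⟨l₀, hl₀, hl₀i⟩ := hrep ⟨0, by omega⟩
    have h := congrFun (hdiff l l₀ hl hl₀) 1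
    simp only [Pi.sub_apply, Pi.smul_apply, smul_eq_mul, CfsgLib.Char.indFun_one, map_one,
      sub_self, hli, hl₀i, hθ1] at h
    rcases mul_eq_zero.1 h.symm with h | h
    · rcases hε with rfl | rfl <;> norm_num at h
    · have h' : ((m (θ i) : ℂ) - m (θ ⟨0, by omega⟩)) * ((n : ℂ) - 1) = 0 := by
        linear_combination h
      exact_mod_cast sub_eq_zero.1 ((mul_eq_zero.1 h').resolve_right hn1)
  set O := CfsgLib.Char.irrFinset G \ (T ∪ univ.image θ) with hO
  have hOirr : ∀ χ ∈ O, Cfsg.IsIrrCharacter G χ ∧ χ ∉ T ∧ ∀ i, χ ≠ θ i := fun χ hχ => by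
    simp only [hO, mem_sdiff, mem_union, mem_image, mem_univ, true_and, not_or, not_exists] at hχ
    exact ⟨CfsgLib.Char.mem_irrFinset.1 hχ.1, hχ.2.1, fun i h => hχ.2.2 i h.symm⟩
  have hOval : ∀ χ ∈ O, ∀ u : F, χ u = (m χ : ℂ) * ((if u = 1 then (n : ℂ) else 0) - 1) :=
    fun χ hχ u => by
      obtain ⟨h1, h2, h3⟩ := hOirr χ hχ
      rw [hval χ h1 u, hk0 χ h1 h2, zero_add,
        sum_eq_zero (fun i _ => if_neg (h3 i)), mul_zero, add_zero]
  have hO1 : ∀ χ ∈ O, χ 1 = (m χ : ℂ) * ((n : ℂ) - 1) := fun χ hχ => by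
    have h := hOval χ hχ 1
    rwa [if_pos rfl, OneMemClass.coe_one] at h
  have hmpos : ∀ χ ∈ O, 1 ≤ m χ := fun χ hχ => by
    rw [Nat.one_le_iff_ne_zero]
    intro h0
    have h := hO1 χ hχ
    rw [h0, Nat.cast_zero, zero_mul] at h
    exact CfsgLib.Char.IsIrrCharacter.apply_one_ne_zero (hOirr χ hχ).1 h
  have hone : (fun _ : G => (1 : ℂ)) ∉ insert St P := by
    rw [mem_insert]
    rintro (h | h)
    · have := congrFun h u₀
      rw [hStu u₀ u₀.2 hu₀'] at this
      exact one_ne_zero this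
    · have := (hP _ h).2.1
      exact Nat.cast_ne_zero.2 (show n ≠ 0 by omega) (by linear_combination -this : (n : ℂ) = 0)
  have hStP : St ∉ P := fun h => by
    have := (hP St h).2.2 u₀ u₀.2 hu₀'
    rw [hStu u₀ u₀.2 hu₀'] at this
    exact zero_ne_one this
  have hdis : Disjoint T (univ.image θ) := by
    rw [Finset.disjoint_right]
    intro χ hχ
    obtain ⟨i, -, rfl⟩ := mem_image.1 hχ
    exact hθT i
  have hsub : T ∪ univ.image θ ⊆ CfsgLib.Char.irrFinset G := fun χ hχ => by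
    refine CfsgLib.Char.mem_irrFinset.2 ?_
    rcases mem_union.1 hχ with h | h
    · exact (hTconst χ h).1
    · obtain ⟨i, -, rfl⟩ := mem_image.1 h
      exact hθ i
  have hsplit : ∀ f : (G → ℂ) → ℂ, ∑ χ ∈ CfsgLib.Char.irrFinset G, f χ =
      f (fun _ => 1) + f St + ∑ χ ∈ P, f χ + ∑ i, f (θ i) + ∑ χ ∈ O, f χ := fun f => by
    rw [← sum_sdiff hsub, ← hO, sum_union hdis, hT, sum_insert hone, sum_insert hStP,
      sum_image fun i _ j _ h => hθi h]
    ring
  -- sums of orbit sums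
  have ho_sum : ∀ u : F, u ≠ 1 → ∑ i, o i u = -1 := fun u hu => by
    rw [hsumo, sum_hom_ne_one hcomm, if_neg hu, zero_sub]
  have horbsum : ∀ l, l ≠ 1 → ∀ u, o (cl l) u = ∑ h : E, ((l (φ h u) : ℂˣ) : ℂ) := by
    intro l hl u
    have himg : univ.filter (fun l' : F →* ℂˣ => l' ≠ 1 ∧ cl l' = cl l) =
        univ.image fun h : E => l.comp (φ h).toMonoidHom := by
      ext l'
      simp only [mem_filter, mem_univ, true_and, mem_image]
      constructor
      · rintro ⟨h1, h2⟩
        exact ((horb l l' hl h1).1 h2).imp fun _ e => e.symm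
      · rintro ⟨h, rfl⟩
        have h1 : l.comp (φ h).toMonoidHom ≠ 1 := fun h' => hl (MonoidHom.ext fun v => by
          have := DFunLike.congr_fun h' ((φ h).symm v)
          simpa using this)
        exact ⟨h1, (horb l _ hl h1).2 ⟨h, rfl⟩⟩
    have hcard := hfib (cl l)
    rw [himg, hd, Nat.card_eq_fintype_card, ← card_univ, card_image_iff] at hcard
    show ∑ l' ∈ univ.filter (fun l' : F →* ℂˣ => l' ≠ 1 ∧ cl l' = cl l), _ = _
    rw [himg, sum_image hcard]
    rfl
  have hFsum : ∀ Φ : Fin r → ℂ, (d : ℂ) * ∑ i, Φ i = ∑ l ∈ univ.erase (1 : F →* ℂˣ), Φ (cl l) := by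
    intro Φ
    rw [← sum_fiberwise (univ.erase 1) cl, mul_sum]
    refine sum_congr rfl fun i _ => ?_
    rw [sum_congr rfl (fun l hl => by rw [(mem_filter.1 hl).2] : ∀ l ∈ (univ.erase (1 : F →* ℂˣ)).filter
      (fun l => cl l = i), Φ (cl l) = Φ i), sum_const, ← filter_ne', filter_filter, hfib i,
      nsmul_eq_mul]
  have ho2 : ∀ u : F, u ≠ 1 → ∑ i, o i u * conj (o i u) = (n : ℂ) - d := by
    intro u hu
    refine mul_left_cancel₀ hdC ?_
    rw [hFsum (fun i => o i u * conj (o i u))]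
    have e : ∀ l ∈ univ.erase (1 : F →* ℂˣ), o (cl l) u * conj (o (cl l) u) =
        ∑ g : E, ∑ h : E, ((l (φ g u * (φ h u)⁻¹) : ℂˣ) : ℂ) := fun l hl => by
      rw [horbsum l (ne_of_mem_erase hl), map_sum, sum_mul_sum]
      simp only [conj_hom_apply, map_mul, Units.val_mul]
    rw [sum_congr rfl e, sum_comm, sum_congr rfl fun g _ => sum_comm]
    simp only [sum_hom_ne_one hcomm, mul_inv_eq_one, hnF, sum_sub_distrib, sum_const, card_univ,
      nsmul_eq_mul, mul_one]
    have hinj : ∀ g h : E, (φ g u = φ h u ↔ g = h) := fun g h => by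
      refine ⟨fun hgh => ?_, fun hgh => by rw [hgh]⟩
      have e1 : φ (h⁻¹ * g) u = u := by
        rw [map_mul, MulAut.mul_apply, hgh, ← MulAut.mul_apply, ← map_mul, inv_mul_cancel, map_one,
          MulAut.one_apply]
      have e2 := congrArg Subtype.val e1
      rw [hφ, mul_inv_eq_iff_eq_mul] at e2
      have hmem := centralizer_le_kernel hZ F hFa hFcard hFfix u.2 (fun h => hu (Subtype.ext h)) e2
      by_contra hne
      refine hab (hFfix _ hmem (fun h1 => hne ?_) b (h⁻¹ * g).2.2).symm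
      exact (inv_mul_eq_one.1 (Subtype.ext h1)).symm
    simp only [hinj, Finset.sum_ite_eq, mem_univ, if_true, sum_const, card_univ, nsmul_eq_mul, hdE]
    ring
  set q := P.card with hq
  set M := ∑ χ ∈ O, m χ * m χ with hM
  -- the first two column relations
  have hcent : Nat.card (Subgroup.centralizer ({(u₀ : G)} : Set G)) = n := by
    rw [hn]
    congr 2
    refine le_antisymm (fun g hg => ?_) fun g hg => ?_
    · exact centralizer_le_kernel hZ F hFa hFcard hFfix u₀.2 hu₀'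
        (Subgroup.mem_centralizer_singleton_iff.1 hg)
    · exact Subgroup.mem_centralizer_singleton_iff.2 (congrArg Subtype.val (hcomm ⟨g, hg⟩ u₀))
  have hcol1 : 1 + (q : ℂ) * (n + 1) +
      ((m₀ : ℂ) * ((n : ℂ) - 1) + ε * d) * (-(r : ℂ) * m₀ - ε) - ((n : ℂ) - 1) * M = 0 := by
    have h := CfsgLib.Char.sum_irr_mul_conj (u₀ : G) 1
    rw [if_neg (fun h => hu₀' (isConj_one_left.1 h)), hsplit] at h
    rw [sum_congr (s₁ := P) rfl (g := fun _ => (n : ℂ) + 1) (fun χ hχ => by
        rw [(hP χ hχ).2.2 u₀ u₀.2 hu₀', (hP χ hχ).2.1]; simp),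
      sum_congr (s₁ := univ) rfl (g := fun i => (-(m₀ : ℂ) + ε * o i u₀) * ((m₀ : ℂ) * ((n : ℂ) - 1) + ε * d))
        (fun i _ => by
          rw [hθval i u₀, hθ1 i, if_neg hu₀, hm₀ i]
          simp [hεc]),
      sum_congr (s₁ := O) rfl (g := fun χ => -((n : ℂ) - 1) * ((m χ * m χ : ℕ) : ℂ)) (fun χ hχ => by
        rw [hOval χ hχ u₀, hO1 χ hχ, if_neg hu₀]
        simp; ring),
      hStu u₀ u₀.2 hu₀', sum_const, nsmul_eq_mul, ← sum_mul, sum_add_distrib, sum_const,
      ← mul_sum, ← mul_sum, ho_sum u₀ hu₀, card_univ, Fintype.card_fin, nsmul_eq_mul,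
      ← Nat.cast_sum, ← hM, ← hq, map_one] at h
    linear_combination h
  have hcol2 : 1 + (q : ℂ) + ((r : ℂ) * m₀ * m₀ + 2 * ε * m₀ + ((n : ℂ) - d)) + M = n := by
    have h := CfsgLib.Char.sum_irr_mul_conj (u₀ : G) (u₀ : G)
    rw [if_pos (IsConj.refl _), hcent, hsplit] at h
    rw [sum_congr (s₁ := P) rfl (g := fun _ => (1 : ℂ)) (fun χ hχ => by
        rw [(hP χ hχ).2.2 u₀ u₀.2 hu₀']; simp),
      sum_congr (s₁ := univ) rfl (g := fun i => (-(m₀ : ℂ) + ε * o i u₀) * (-(m₀ : ℂ) + ε * conj (o i u₀)))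
        (fun i _ => by
          rw [hθval i u₀, if_neg hu₀, hm₀ i]
          simp [hεc]),
      sum_congr (s₁ := O) rfl (g := fun χ => ((m χ * m χ : ℕ) : ℂ)) (fun χ hχ => by
        rw [hOval χ hχ u₀, if_neg hu₀]
        simp),
      hStu u₀ u₀.2 hu₀', key_identity, sum_const, nsmul_eq_mul, ← map_sum, ho_sum u₀ hu₀,
      ho2 u₀ hu₀, card_univ, Fintype.card_fin, map_neg, map_one, zero_mul, add_zero, mul_one,
      ← Nat.cast_sum, ← hM, ← hq, he2, one_mul] at h
    linear_combination h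
  obtain ⟨hq2, hB⟩ : 2 * q + 1 = d ∧
      (q : ℤ) + M + ((r : ℤ) * m₀ * m₀ + 2 * e * m₀) = (d : ℤ) - 1 := by
    have h2 : (q : ℂ) + M + ((r : ℂ) * m₀ * m₀ + 2 * ε * m₀) = (d : ℂ) - 1 := by
      linear_combination hcol2
    have h1 : (n : ℂ) * (2 * q + 1 - d) = 0 := by
      linear_combination hcol1 + ((n : ℂ) - 1) * h2 + (ε * m₀) * hrdC + (d : ℂ) * he2
    refine ⟨?_, by rw [hεe] at h2; exact_mod_cast h2⟩
    have := sub_eq_zero.1 ((mul_eq_zero.1 h1).resolve_left (Nat.cast_ne_zero.2 (by omega)))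
    exact_mod_cast this
  -- counting classes
  have hOcard : q ≤ O.card := by
    have h1 := CfsgLib.Char.zass_classes_avoiding hZ hab hodd (by rw [← hd]; omega) F hFa hFcard hFfix
    have hk : (CfsgLib.Char.irrFinset G).card = 2 + q + r + O.card := by
      rw [← card_sdiff_add_card_eq_card hsub, ← hO, card_union_of_disjoint hdis, hT,
        card_insert_of_notMem hone, card_insert_of_notMem hStP,
        card_image_of_injective _ hθi, card_univ, Fintype.card_fin, ← hq]
      omega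
    rw [← CfsgLib.Char.card_irr, CfsgLib.Char.card_irr_eq_card_conjClasses,
      Nat.card_eq_fintype_card] at hk
    rw [Nat.card_eq_fintype_card (α := {C : ConjClasses G // _}), Fintype.card_subtype, ← hd] at h1
    set Y := univ.filter (fun C : ConjClasses G => ∀ g : G, ConjClasses.mk g = C → g ∉ F)
    set X := (univ.erase (1 : F)).image (fun u : F => ConjClasses.mk (u : G))
    have hX : n - 1 ≤ X.card * d := by
      have := card_le_mul_card_image_of_maps_to (f := fun u : F => ConjClasses.mk (u : G))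
        (s := univ.erase (1 : F)) (t := X) (fun u hu => mem_image_of_mem _ hu) d fun C hC => by
        obtain ⟨u, hu, rfl⟩ := mem_image.1 hC
        have hu1 : (u : G) ≠ 1 := fun h => ne_of_mem_erase hu (Subtype.ext h)
        rw [hd, Nat.card_eq_fintype_card, ← card_univ]
        refine (card_le_card ?_).trans (card_image_le (f := fun h : E => φ h u))
        intro v hv
        obtain ⟨g, hg⟩ := isConj_iff.1 (ConjClasses.mk_eq_mk_iff_isConj.1 (mem_filter.1 hv).2).symm
        have hga : g • a = a := by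
          by_contra hga
          exact hu1 ((CfsgLib.Char.zassenhaus_kernel_TI hZ a F hFa hFcard hFfix).1 g hga u u.2
            (hg ▸ v.2))
        obtain ⟨w, hw, h, hh, rfl⟩ := exists_mul_pair hZ hab F hFa hFcard hFfix hga
        refine mem_image.2 ⟨⟨h, hh⟩, mem_univ _, Subtype.ext ?_⟩
        have hm : h * (u : G) * h⁻¹ ∈ F :=
          CfsgLib.Char.zass_kernel_conj hZ F hFa hFcard hFfix hh.1 u.2
        rw [hφ, ← hg, show w * h * (u : G) * (w * h)⁻¹ = w * (h * u * h⁻¹) * w⁻¹ by group,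
          show w * (h * (u : G) * h⁻¹) = h * u * h⁻¹ * w from
            congrArg Subtype.val (hcomm ⟨w, hw⟩ ⟨_, hm⟩), mul_inv_cancel_right]
      rw [card_erase_of_mem (mem_univ _), card_univ, ← Nat.card_eq_fintype_card, mul_comm] at this
      exact this
    have hXr : r ≤ X.card := Nat.le_of_mul_le_mul_right (by omega) (by omega : 0 < d)
    have hne1 : ConjClasses.mk (1 : G) ∉ X := fun h => by
      obtain ⟨u, hu, he⟩ := mem_image.1 h
      exact ne_of_mem_erase hu (Subtype.ext (isConj_one_left.1 (ConjClasses.mk_eq_mk_iff_isConj.1 he)))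
    have hdisj : Disjoint Y (insert (ConjClasses.mk (1 : G)) X) := by
      rw [Finset.disjoint_left]
      intro C hC hC'
      rcases mem_insert.1 hC' with rfl | hC'
      · exact (mem_filter.1 hC).2 1 rfl (one_mem _)
      · obtain ⟨u, -, rfl⟩ := mem_image.1 hC'
        exact (mem_filter.1 hC).2 u rfl u.2
    have h2 := card_le_univ (Y ∪ insert (ConjClasses.mk (1 : G)) X)
    rw [card_union_of_disjoint hdisj, card_insert_of_notMem hne1] at h2
    omega
  have hMO : O.card ≤ M := by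
    rw [hM, card_eq_sum_ones]
    exact sum_le_sum fun χ hχ => Nat.one_le_iff_ne_zero.2 (by
      have := hmpos χ hχ
      exact Nat.mul_ne_zero (by omega) (by omega))
  obtain ⟨hm00, he1, hMq⟩ : m₀ = 0 ∧ e = 1 ∧ M = q := by
    have hm00 : m₀ = 0 := by
      by_contra h
      have h1 : (1 : ℤ) ≤ m₀ := by omega
      have h3 : (3 : ℤ) ≤ r := by omega
      have h2 : (0 : ℤ) < (r : ℤ) * m₀ * m₀ + 2 * e * m₀ := by
        have h4 : (3 : ℤ) ≤ r * m₀ := by nlinarith
        have h5 : 3 * (m₀ : ℤ) ≤ r * m₀ * m₀ := mul_le_mul_of_nonneg_right h4 (by omega)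
        rcases he with rfl | rfl <;> linarith
      omega
    rw [hm00] at hB
    refine ⟨hm00, ?_, by omega⟩
    rcases he with rfl | rfl
    · rfl
    · exfalso
      have h := hθ1 ⟨0, by omega⟩
      obtain ⟨k, -, hk⟩ := CfsgLib.Char.IsIrrCharacter.exists_degree (hθ ⟨0, by omega⟩)
      rw [hm₀, hm00, hεe, hk] at h
      have h' : ((k + d : ℕ) : ℂ) = ((0 : ℕ) : ℂ) := by push_cast at h ⊢; linear_combination h
      have := Nat.cast_inj.1 h'
      omega
  have hε1 : ε = 1 := by rw [hεe, he1]; simp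
  -- triples
  refine false_of_uniform φ (fun g x hgx => ?_) (by rw [← Nat.card_eq_fintype_card]; omega)
    (by simp only [← Nat.card_eq_fintype_card]; exact hbig)
    (by simp only [← Nat.card_eq_fintype_card]; exact ⟨r, show n - 1 = d * r by rw [mul_comm d r]; omega⟩)
    fun u v w hu hv hw => ?_
  · by_cases hx : x = 1
    · exact Or.inr hx
    left
    have e2 := congrArg Subtype.val hgx
    rw [hφ, mul_inv_eq_iff_eq_mul] at e2
    have hmem := centralizer_le_kernel hZ F hFa hFcard hFfix x.2 (fun h => hx (Subtype.ext h)) e2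
    by_contra hne
    exact hab (hFfix _ hmem (fun h1 => hne (Subtype.ext h1)) b g.2.2).symm
  have hu' : (u : G) ≠ 1 := fun h => hu (Subtype.ext h)
  have hv' : (v : G) ≠ 1 := fun h => hv (Subtype.ext h)
  have hw' : (w : G) ≠ 1 := fun h => hw (Subtype.ext h)
  set N₀ := orbitPairs φ u v w with hN₀
  have htri : (d : ℂ) * ∑ i, o i u * o i v * conj (o i w) = (n : ℂ) * d * N₀ - (d : ℂ) ^ 3 := by
    rw [hFsum (fun i => o i u * o i v * conj (o i w))]
    have e : ∀ l ∈ univ.erase (1 : F →* ℂˣ), o (cl l) u * o (cl l) v * conj (o (cl l) w) =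
        ∑ k : E, ∑ p : E × E, ((l (φ p.1 u * φ p.2 v * (φ k w)⁻¹) : ℂˣ) : ℂ) := fun l hl => by
      simp only [horbsum l (ne_of_mem_erase hl), map_sum, conj_hom_apply, map_mul, Units.val_mul]
      rw [sum_mul_sum, mul_sum]
      refine sum_congr rfl fun k _ => ?_
      rw [sum_mul, Fintype.sum_prod_type]
      exact sum_congr rfl fun g _ => sum_mul _ _ _
    rw [sum_congr rfl e, sum_comm, sum_congr rfl fun g _ => sum_comm]
    simp only [sum_hom_ne_one hcomm, mul_inv_eq_one, hnF, sum_sub_distrib, sum_const, card_univ,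
      nsmul_eq_mul, mul_one, Fintype.card_prod, Nat.cast_mul, hdE]
    have hk : ∀ k : E, ∑ p : E × E, (if φ p.1 u * φ p.2 v = φ k w then (n : ℂ) else 0) =
        (n : ℂ) * N₀ := fun k => by
      rw [← sum_filter, sum_const, nsmul_eq_mul, hN₀, ← orbitPairs_smul φ k u v w, mul_comm]
      rfl
    simp only [hk, sum_const, card_univ, nsmul_eq_mul, hdE]
    ring
  have hS : ((d : ℂ) * ((n : ℂ) - 1) * ((n : ℂ) + 1)) *
      (∑ χ ∈ CfsgLib.Char.irrFinset G, χ u * χ v * conj (χ w) / χ 1) =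
      (((N₀ * (n * (n - 1) * (n + 1)) : ℕ) : ℤ) - (d * (d - 1) * n * n : ℕ) : ℤ) := by
    rw [hsplit, sum_congr (s₁ := P) rfl (g := fun _ => 1 / ((n : ℂ) + 1)) (fun χ hχ => by
        rw [(hP χ hχ).2.2 u u.2 hu', (hP χ hχ).2.2 v v.2 hv', (hP χ hχ).2.2 w w.2 hw',
          (hP χ hχ).2.1]; simp),
      sum_congr (s₁ := univ) rfl (g := fun i => o i u * o i v * conj (o i w) / (d : ℂ)) (fun i _ => by
        rw [hθval i u, hθval i v, hθval i w, hθ1 i, hm₀, hm00, hε1]; simp),
      sum_congr (s₁ := O) rfl (g := fun χ => -((m χ * m χ : ℕ) : ℂ) / ((n : ℂ) - 1)) (fun χ hχ => by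
        rw [hOval χ hχ u, hOval χ hχ v, hOval χ hχ w, hO1 χ hχ, if_neg hu, if_neg hv, if_neg hw]
        have hm0 : (m χ : ℂ) ≠ 0 := Nat.cast_ne_zero.2 (by have := hmpos χ hχ; omega)
        simp only [zero_sub, mul_neg, mul_one, map_neg, Complex.conj_natCast, Nat.cast_mul]
        field_simp),
      hStu u u.2 hu', sum_const, nsmul_eq_mul, ← sum_div, ← sum_div, sum_neg_distrib,
      ← Nat.cast_sum, ← hM, hMq, ← hq]
    have hn2 : (n : ℂ) + 1 ≠ 0 := by exact_mod_cast Nat.succ_ne_zero n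
    have hq' : 2 * (q : ℂ) + 1 = (d : ℂ) := by exact_mod_cast hq2
    push_cast [Nat.cast_sub (show 1 ≤ n by omega), Nat.cast_sub (show 1 ≤ d by omega)]
    simp only [map_one, mul_one, div_one, zero_mul, zero_div, add_zero]
    have hS3 : ∑ i, o i u * o i v * conj (o i w) = (n : ℂ) * N₀ - (d : ℂ) ^ 2 :=
      mul_left_cancel₀ hdC (by rw [htri]; ring)
    field_simp
    linear_combination ((n : ℂ) - 1) * ((n : ℂ) + 1) * hS3 - (d : ℂ) * hq'
  have hN := CfsgLib.Char.card_class_products (u : G) (v : G) (w : G)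
  have hpos : ∀ x : G, 0 < Nat.card {y : G // IsConj x y} := fun x =>
    Nat.card_pos_iff.2 ⟨⟨⟨x, IsConj.refl x⟩⟩, inferInstance⟩
  set N₁ := Nat.card {p : G × G // IsConj (u : G) p.1 ∧ IsConj (v : G) p.2 ∧ p.1 * p.2 = w}
  set A₁ := Nat.card {y : G // IsConj (u : G) y}
  set A₂ := Nat.card {y : G // IsConj (v : G) y}
  have key : ((N₁ * Nat.card G * (d * (n - 1) * (n + 1)) : ℕ) : ℤ) = ((A₁ * A₂ : ℕ) : ℤ) *
      (((N₀ * (n * (n - 1) * (n + 1)) : ℕ) : ℤ) - (d * (d - 1) * n * n : ℕ)) := by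
    have hG0 : (Nat.card G : ℂ) ≠ 0 := Nat.cast_ne_zero.2 Nat.card_pos.ne'
    have : ((N₁ * Nat.card G * (d * (n - 1) * (n + 1)) : ℕ) : ℂ) = ((A₁ * A₂ : ℕ) : ℂ) *
      ((((N₀ * (n * (n - 1) * (n + 1)) : ℕ) : ℤ) - (d * (d - 1) * n * n : ℕ) : ℤ) : ℂ) := by
      rw [← hS, Nat.cast_mul, Nat.cast_mul, hN]
      push_cast [Nat.cast_sub (show 1 ≤ n by omega)]
      field_simp
    exact_mod_cast this
  have h0 : (0 : ℤ) ≤ ((N₀ * (n * (n - 1) * (n + 1)) : ℕ) : ℤ) - (d * (d - 1) * n * n : ℕ) := by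
    refine nonneg_of_mul_nonneg_right (a := ((A₁ * A₂ : ℕ) : ℤ)) ?_ ?_
    · rw [← key]; exact Int.natCast_nonneg _
    · exact_mod_cast Nat.mul_pos (hpos _) (hpos _)
  have h1 : d * (d - 1) * n * n ≤ N₀ * ((n - 1) * (n + 1)) * n := by
    rw [sub_nonneg, Nat.cast_le] at h0
    exact h0.trans (le_of_eq (by ring))
  simp only [← Nat.card_eq_fintype_card]
  exact Nat.le_of_mul_le_mul_right h1 (by omega)

end CfsgLib.Zass
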