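import Cfsg.Agent.Zass.HalfSwap
import Cfsg.Agent.Zass.LargeFpf
import Cfsg.Agent.Perm.SharplyThreePGL
import Mathlib

/-!
Field coordinates for a Zassenhaus group of degree `2 d + 2` with abelian two-point stabilisers.
-/

set_option autoImplicit false
set_option linter.style.haveILetI false

namespace CfsgLib.Zass

open MulAction Finset OnePoint CfsgLib.Dickson

variable {G Ω : Type*} [Group G] [Finite G] [MulAction G Ω] [Fintype Ω]

theorem exists_half_coords (hZ : Cfsg.IsZassenhausGroup G Ω) {a b : Ω} (hab : a ≠ b)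
    (F : Subgroup G) (hFa : F ≤ stabilizer G a) (hFcard : Nat.card F + 1 = Fintype.card Ω)
    (hFfix : ∀ u ∈ F, u ≠ 1 → ∀ c : Ω, u • c = c → c = a) (hFcomm : IsMulCommutative F)
    (hEcomm : ∀ x ∈ stabilizer G a ⊓ stabilizer G b, ∀ y ∈ stabilizer G a ⊓ stabilizer G b,
      x * y = y * x)
    (hhalf : 2 * Nat.card ↥(stabilizer G a ⊓ stabilizer G b) + 2 = Fintype.card Ω) :
    ∃ (K : Type) (_ : Field K) (_ : Fintype K) (_ : DecidableEq K) (e : OnePoint K → Ω)
      (c : ↥(stabilizer G a ⊓ stabilizer G b) → Kˣ),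
      ringChar K ≠ 2 ∧ Fintype.card K = 2 * Nat.card ↥(stabilizer G a ⊓ stabilizer G b) + 1 ∧
      Function.Bijective e ∧ e ∞ = a ∧ e ((0 : K) : OnePoint K) = b ∧
      (∀ t : K, ∃ g : G, ∀ x, g • e x = e (aff 1 t • x)) ∧
      (∀ h : ↥(stabilizer G a ⊓ stabilizer G b), ∀ x, (h : G) • e x = e (aff (c h) 0 • x)) ∧
      (∀ u : Kˣ, IsSquare (u : K) ↔ ∃ h, c h = u) := by
  classical
  set d := Nat.card ↥(stabilizer G a ⊓ stabilizer G b) with hd
  let E : Subgroup G := stabilizer G a ⊓ stabilizer G b
  have hd1 : 1 < d := CfsgLib.Char.zass_one_lt_card_pair hZ hab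
  -- the kernel is elementary
  have hFn : (F.subgroupOf (stabilizer G a)).Normal := ⟨fun x hx g =>
    CfsgLib.Char.zass_kernel_conj hZ F hFa hFcard hFfix (g := (g : G)) g.2 hx⟩
  have hinjF : Function.Injective (fun u : F => (u : G) • b) := fun u v e => by
    by_contra hne
    have e' : (u : G) • b = (v : G) • b := e
    refine hab (hFfix _ (mul_mem (inv_mem v.2) u.2) (fun h => hne (Subtype.ext (inv_mul_eq_one.1 h).symm))
      b ?_).symm
    rw [mul_smul, e', inv_smul_smul]
  have hFb : ∀ u : F, (u : G) • b ≠ a := fun u h =>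
    hab (smul_left_cancel (u : G) ((hFa u.2 : (u : G) • a = a).trans h.symm))
  have hsurj : ∀ z : Ω, z ≠ a → ∃ u : F, (u : G) • b = z := by
    intro z hz
    have hbij : Function.Bijective (fun u : F => (⟨(u : G) • b, hFb u⟩ : {z : Ω // z ≠ a})) := by
      haveI := Fintype.ofFinite F
      rw [Fintype.bijective_iff_injective_and_card]
      refine ⟨fun u v e => hinjF (congrArg Subtype.val e), ?_⟩
      rw [← Nat.card_eq_fintype_card, Fintype.card_subtype_compl, Fintype.card_subtype_eq]
      omega
    obtain ⟨u, hu⟩ := hbij.2 ⟨z, hz⟩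
    exact ⟨u, congrArg Subtype.val hu⟩
  have hreg : ∀ y z : Ω, y ≠ a → z ≠ a → ∃! u : F, (u : G) • y = z := by
    intro y z hy hz
    obtain ⟨u, rfl⟩ := hsurj y hy
    obtain ⟨v, rfl⟩ := hsurj z hz
    refine ⟨v * u⁻¹, ?_, fun w hw => ?_⟩
    · show ((v : G) * (u : G)⁻¹) • (u : G) • b = (v : G) • b
      rw [mul_smul, inv_smul_smul]
    · refine eq_mul_inv_of_mul_eq (hinjF ?_)
      show ((w : G) * (u : G)) • b = (v : G) • b
      rw [mul_smul]
      exact hw
  obtain ⟨-, p, f, hp, hexp, hcardp⟩ := kernel_elementary hZ hab (by omega) F hFa hFn hreg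
  haveI : Fact p.Prime := ⟨hp⟩
  have hn : Nat.card F = 2 * d + 1 := by omega
  have hfpos : f ≠ 0 := fun h => by rw [h, pow_zero] at hcardp; omega
  let K := GaloisField p f
  haveI : Fintype K := Fintype.ofFinite K
  have hKcard : Fintype.card K = 2 * d + 1 := by
    rw [← Nat.card_eq_fintype_card, GaloisField.card p f hfpos]
    omega
  have hchar : ringChar K ≠ 2 := by
    intro h
    have := FiniteField.even_card_of_char_two (F := K) h
    omega
  -- the additive group
  let V := Additive F
  letI : AddCommGroup V :=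
    { (inferInstance : AddGroup (Additive F)) with
      add_comm := fun x y => congrArg Additive.ofMul (hFcomm.is_comm.comm x.toMul y.toMul) }
  haveI : Finite V := inferInstanceAs (Finite F)
  let ρ : E → AddMonoid.End V := fun h =>
    { toFun := fun v => Additive.ofMul (⟨h * ((v.toMul : F) : G) * (h : G)⁻¹,
          CfsgLib.Char.zass_kernel_conj hZ F hFa hFcard hFfix h.2.1 v.toMul.2⟩ : F)
      map_zero' := congrArg Additive.ofMul (Subtype.ext (by simp))
      map_add' := fun v w => congrArg Additive.ofMul (Subtype.ext (by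
        show (h : G) * (((v.toMul : F) : G) * (w.toMul : F)) * (h : G)⁻¹ =
          h * (v.toMul : F) * (h : G)⁻¹ * (h * (w.toMul : F) * (h : G)⁻¹)
        group)) }
  let pt : V → Ω := fun v => ((v.toMul : F) : G) • b
  have hρpt : ∀ (h : E) (v : V), pt (ρ h v) = (h : G) • pt v := by
    intro h v
    show ((h : G) * ((v.toMul : F) : G) * (h : G)⁻¹) • b = _
    rw [mul_smul, mul_smul, inv_smul_eq_iff.mpr (show (h : G) • b = b from h.2.2).symm]
  have hpt0 : pt 0 = b := one_smul G b
  have hpt_ne : ∀ v, pt v ≠ a := fun v => hFb _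
  have hpt_inj : Function.Injective pt := fun v w e =>
    congrArg Additive.ofMul (hinjF (e : ((v.toMul : F) : G) • b = ((w.toMul : F) : G) • b))
  have hρinj : ∀ (h k : E) (v : V), v ≠ 0 → ρ h v = ρ k v → h = k := by
    intro h k v hv e
    have e1 := congrArg pt e
    rw [hρpt, hρpt] at e1
    by_contra hne
    have h1 : (k : G)⁻¹ * h ≠ 1 := fun h' => hne (Subtype.ext (inv_mul_eq_one.1 h').symm)
    rcases eq_or_eq hZ hab (w := pt v) h1
      (by rw [mul_smul, show (h : G) • a = a from h.2.1, inv_smul_eq_iff,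
        show (k : G) • a = a from k.2.1])
      (by rw [mul_smul, show (h : G) • b = b from h.2.2, inv_smul_eq_iff,
        show (k : G) • b = b from k.2.2])
      (by rw [mul_smul, e1, inv_smul_smul]) with e2 | e2
    · exact hpt_ne v e2
    · exact hv (hpt_inj (e2.trans hpt0.symm))
  have hirr : ∀ W : AddSubgroup V, (∀ h : E, ∀ w ∈ W, ρ h w ∈ W) → W ≠ ⊥ → W = ⊤ := by
    intro W hW hW0
    obtain ⟨w, hw, hw0⟩ := W.bot_or_exists_ne_zero.resolve_left hW0
    have hle : d + 1 ≤ Nat.card W := by
      have hlt : Nat.card E < Nat.card W := by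
        haveI := Fintype.ofFinite W
        haveI := Fintype.ofFinite E
        rw [Nat.card_eq_fintype_card, Nat.card_eq_fintype_card]
        refine Fintype.card_lt_of_injective_of_notMem (fun h : E => (⟨ρ h w, hW h w hw⟩ : W))
          (fun h k e => hρinj h k w hw0 (congrArg Subtype.val e)) (b := 0) ?_
        rintro ⟨h, hh⟩
        have e1 : ρ h w = 0 := congrArg Subtype.val hh
        have e2 := congrArg pt e1
        rw [hρpt, hpt0] at e2
        exact hw0 (hpt_inj ((smul_left_cancel (h : G) (e2.trans (h.2.2 : (h : G) • b = b).symm)).trans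
          hpt0.symm))
      exact hlt
    have hdvd : Nat.card W ∣ Nat.card V := AddSubgroup.card_addSubgroup_dvd_card W
    have hV : Nat.card V = 2 * d + 1 := hn
    refine AddSubgroup.eq_top_of_card_eq W ?_
    obtain ⟨k, hk⟩ := hdvd
    rcases Nat.lt_or_ge k 2 with h2 | h2
    · interval_cases k <;> omega
    · have := Nat.mul_le_mul hle h2
      omega
  obtain ⟨v₁, hv₁⟩ : ∃ v : V, v ≠ 0 := by
    haveI := Fintype.ofFinite V
    refine Fintype.exists_ne_of_one_lt_card ?_ 0
    rw [← Nat.card_eq_fintype_card, show Nat.card V = 2 * d + 1 from hn]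
    omega
  -- the commutative ring generated by the two-point stabiliser
  let R : Subring (AddMonoid.End V) := Subring.closure (Set.range ρ)
  have hρcomm : ∀ h k : E, ρ h * ρ k = ρ k * ρ h := by
    intro h k
    refine AddMonoidHom.ext fun v => hpt_inj ?_
    show pt (ρ h (ρ k v)) = pt (ρ k (ρ h v))
    rw [hρpt, hρpt, hρpt, hρpt]
    generalize pt v = z
    rw [smul_smul, smul_smul, hEcomm _ h.2 _ k.2]
  have hcent : ∀ r ∈ R, ∀ h : E, ρ h * r = r * ρ h := by
    intro r hr h
    have : R ≤ Subring.centralizer (Set.range ρ) := by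
      rw [Subring.closure_le]
      rintro _ ⟨k, rfl⟩ _ ⟨l, rfl⟩
      exact hρcomm l k
    exact this hr _ ⟨h, rfl⟩
  have hRcomm : ∀ r ∈ R, ∀ s ∈ R, r * s = s * r := by
    intro r hr s hs
    have : R ≤ Subring.centralizer (R : Set (AddMonoid.End V)) := by
      rw [Subring.closure_le]
      rintro _ ⟨k, rfl⟩ t ht
      exact (hcent t ht k).symm
    exact (this hs r hr)
  have heval : ∀ v : V, ∃ r ∈ R, r v₁ = v := by
    let W : AddSubgroup V :=
      { carrier := {v | ∃ r ∈ R, r v₁ = v}
        zero_mem' := ⟨0, R.zero_mem, rfl⟩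
        add_mem' := by
          rintro _ _ ⟨r, hr, rfl⟩ ⟨s, hs, rfl⟩
          exact ⟨r + s, R.add_mem hr hs, rfl⟩
        neg_mem' := by
          rintro _ ⟨r, hr, rfl⟩
          exact ⟨-r, R.neg_mem hr, rfl⟩ }
    have hW : W = ⊤ := hirr W (fun h w ⟨r, hr, e⟩ => ⟨ρ h * r, R.mul_mem (Subring.subset_closure ⟨h, rfl⟩) hr,
        by rw [← e]; rfl⟩) fun e => hv₁ (by
      have : v₁ ∈ W := ⟨1, R.one_mem, rfl⟩
      rwa [e, AddSubgroup.mem_bot] at this)
    intro v
    exact (hW ▸ AddSubgroup.mem_top v : v ∈ W)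
  have hRinj : ∀ r ∈ R, r ≠ 0 → Function.Injective r := by
    intro r hr hr0
    refine (injective_iff_map_eq_zero _).2 fun v hv => ?_
    by_contra hv0
    have hW := hirr (AddMonoidHom.ker r) (fun h w hw => by
      have hw' : r w = 0 := hw
      have := DFunLike.congr_fun (hcent r hr h) w
      show r (ρ h w) = 0
      rw [← show ρ h (r w) = r (ρ h w) from this, hw', map_zero]) fun e => hv0 (by
      have : v ∈ AddMonoidHom.ker r := hv
      rwa [e, AddSubgroup.mem_bot] at this)
    refine hr0 (AddMonoidHom.ext fun w => ?_)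
    have : w ∈ AddMonoidHom.ker r := hW ▸ AddSubgroup.mem_top w
    exact this
  haveI : Finite (AddMonoid.End V) := Finite.of_injective (fun r v => r v) DFunLike.coe_injective
  have hunit : ∀ r : R, r ≠ 0 → IsUnit r := by
    intro r hr
    have hl : Function.Injective fun s : R => r * s := by
      intro s t e
      refine Subtype.ext (AddMonoidHom.ext fun v => hRinj r r.2 (fun h => hr (Subtype.ext h)) ?_)
      exact DFunLike.congr_fun (congrArg Subtype.val e) v
    obtain ⟨s, hs⟩ := (Finite.injective_iff_surjective.mp hl) 1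
    exact ⟨⟨r, s, hs, Subtype.ext ((hRcomm s s.2 r r.2).trans (congrArg Subtype.val hs))⟩, rfl⟩
  letI : DistribMulAction Rˣ V :=
    { smul := fun u v => ((u : R) : AddMonoid.End V) v
      one_smul := fun v => rfl
      mul_smul := fun u w v => rfl
      smul_zero := fun u => map_zero _
      smul_add := fun u v w => map_add _ v w }
  have htr : ∀ v : V, v ≠ 0 → ∃ u : Rˣ, u • v₁ = v := by
    intro v hv
    obtain ⟨r, hr, hrv⟩ := heval v
    obtain ⟨u, hu⟩ := hunit ⟨r, hr⟩ fun e => hv (by
      have e' : r = 0 := congrArg Subtype.val e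
      rw [← hrv, e']; rfl)
    exact ⟨u, show ((u : R) : AddMonoid.End V) v₁ = v by rw [hu]; exact hrv⟩
  obtain ⟨ψ, hψ1, hψ⟩ := CfsgLib.SharplyThree.exists_field K (H := Rˣ)
    (by rw [show Nat.card V = 2 * d + 1 from hn, Nat.card_eq_fintype_card, hKcard])
    (fun u w => Units.ext (Subtype.ext (hRcomm _ (u : R).2 _ (w : R).2))) v₁ hv₁ htr
  have hscal : ∀ (h : E) (v : V), ψ (ρ h v) = ψ (ρ h v₁) * ψ v := by
    intro h v
    obtain ⟨u, hu⟩ := hunit ⟨ρ h, Subring.subset_closure ⟨h, rfl⟩⟩ fun e => by
      have e' : ρ h = 0 := congrArg Subtype.val e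
      have e2 := congrArg pt (DFunLike.congr_fun e' v₁)
      rw [hρpt] at e2
      exact hv₁ (hpt_inj ((smul_left_cancel (h : G) (e2.trans
        (hpt0.trans (h.2.2 : (h : G) • b = b).symm))).trans hpt0.symm))
    have := hψ u v
    rwa [show (u • v : V) = ρ h v from congrArg (fun r : R => (r : AddMonoid.End V) v) hu,
      show (u • v₁ : V) = ρ h v₁ from congrArg (fun r : R => (r : AddMonoid.End V) v₁) hu] at this
  have hne0 : ∀ h : E, ψ (ρ h v₁) ≠ 0 := fun h e => by
    have h2 := hscal h⁻¹ (ρ h v₁)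
    rw [e, mul_zero, map_eq_zero_iff _ ψ.injective] at h2
    have h3 := congrArg pt h2
    rw [hρpt, hρpt, hpt0, smul_smul, ← Subgroup.coe_mul, inv_mul_cancel, OneMemClass.coe_one,
      one_smul] at h3
    exact hv₁ (hpt_inj (h3.trans hpt0.symm))
  let c : E → Kˣ := fun h => Units.mk0 _ (hne0 h)
  let e : OnePoint K → Ω := fun x => x.elim a fun t => pt (ψ.symm t)
  have e_coe : ∀ t : K, e (t : OnePoint K) = pt (ψ.symm t) := fun t => rfl
  have e_bij : Function.Bijective e := by
    refine ⟨fun x y h => ?_, fun z => ?_⟩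
    · cases x with
      | infty =>
        cases y with
        | infty => rfl
        | coe t => exact absurd h.symm (hpt_ne _)
      | coe t =>
        cases y with
        | infty => exact absurd h (hpt_ne _)
        | coe t' => exact congrArg _ (ψ.symm.injective (hpt_inj h))
    · by_cases hz : z = a
      · exact ⟨∞, hz.symm⟩
      · obtain ⟨u, hu⟩ := hsurj z hz
        exact ⟨(ψ (Additive.ofMul u) : K), by rw [e_coe, ψ.symm_apply_apply]; exact hu⟩
  have hscale : ∀ h : E, ∀ x, (h : G) • e x = e (aff (c h) 0 • x) := by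
    intro h x
    cases x with
    | infty => rw [aff_smul_infty]; exact h.2.1
    | coe t =>
      rw [aff_smul_coe, e_coe, e_coe, add_zero, ← hρpt]
      congr 1
      rw [eq_comm, ψ.symm_apply_eq, hscal h (ψ.symm t), ψ.apply_symm_apply]
      rfl
  refine ⟨K, inferInstance, inferInstance, inferInstance, e, c, hchar, hKcard, e_bij, rfl,
    by rw [e_coe, map_zero]; exact hpt0, fun t => ?_, hscale, fun u => ?_⟩
  · refine ⟨(((ψ.symm t).toMul : F) : G), fun x => ?_⟩
    cases x with
    | infty => rw [aff_smul_infty]; exact hFa ((ψ.symm t).toMul : F).2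
    | coe r =>
      rw [aff_smul_coe, e_coe, e_coe, Units.val_one, one_mul, map_add, add_comm]
      exact (mul_smul (((ψ.symm t).toMul : F) : G) (((ψ.symm r).toMul : F) : G) b).symm
  · have hcinj : Function.Injective c := fun h k e1 => by
      refine hρinj h k v₁ hv₁ (ψ.injective ?_)
      exact congrArg Units.val e1
    have hcmul : ∀ h k : E, (c (h * k) : K) = c h * c k := fun h k => by
      show ψ (ρ (h * k) v₁) = ψ (ρ h v₁) * ψ (ρ k v₁)
      rw [← hscal h (ρ k v₁)]
      congr 1
      refine hpt_inj ?_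
      rw [hρpt, hρpt, hρpt, Subgroup.coe_mul]
      exact mul_smul (h : G) (k : G) (pt v₁)
    let cm : E →* Kˣ := MonoidHom.mk' c fun h k => Units.ext (hcmul h k)
    have hsq : ∀ u : Kˣ, IsSquare (u : K) ↔ (u : K) ^ d = 1 := fun u => by
      rw [FiniteField.isSquare_iff hchar u.ne_zero, hKcard, show (2 * d + 1) / 2 = d by omega]
    have hpow : ∀ h : E, (c h : K) ^ d = 1 := fun h => by
      have h1 : h ^ d = 1 := pow_card_eq_one'
      have h2 := congrArg (fun w : E => ((cm w : Kˣ) : K)) h1
      simp only [map_pow, Units.val_pow_eq_pow_val, map_one, Units.val_one] at h2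
      exact h2
    rw [hsq]
    refine ⟨fun hu => ?_, fun ⟨h, hh⟩ => hh ▸ hpow h⟩
    haveI := Fintype.ofFinite E
    by_contra hnot
    push Not at hnot
    have hlt : Fintype.card E < ((Polynomial.nthRoots d (1 : K)).toFinset).card := by
      rw [← Finset.card_univ, ← Finset.card_image_of_injective univ
        (f := fun h : E => (c h : K)) (fun h k e1 => hcinj (Units.ext e1))]
      refine Finset.card_lt_card (Finset.ssubset_iff_of_subset ?_ |>.2 ⟨(u : K), ?_, ?_⟩)
      · intro z hz
        obtain ⟨h, -, rfl⟩ := mem_image.1 hz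
        rw [Multiset.mem_toFinset, Polynomial.mem_nthRoots (by omega)]
        exact hpow h
      · rw [Multiset.mem_toFinset, Polynomial.mem_nthRoots (by omega)]
        exact hu
      · intro hz
        obtain ⟨h, -, hh⟩ := mem_image.1 hz
        exact hnot h (Units.ext hh)
    have h3 := (Multiset.toFinset_card_le _).trans (Polynomial.card_nthRoots d (1 : K))
    have h4 : Fintype.card E = d := (Nat.card_eq_fintype_card).symm
    omega

end CfsgLib.Zass
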