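import Cfsg.Agent.Zass.AbelianKernel
import Mathlib

/-!
Zassenhaus groups of degree `2 d + 2`: the elements interchanging two points are involutions.
-/

set_option autoImplicit false
set_option linter.style.haveILetI false

namespace CfsgLib.Zass

open MulAction Finset

variable {G Ω : Type*} [Group G] [Finite G] [MulAction G Ω] [Fintype Ω]

/-- With two-point stabilisers of even order `d` and degree `2 d + 2`, counting shows that every
element interchanging two points is an involution. -/
theorem swap_sq_of_even (hZ : Cfsg.IsZassenhausGroup G Ω) {a b : Ω} (hab : a ≠ b)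
    (heven : Even (Nat.card ↥(stabilizer G a ⊓ stabilizer G b)))
    (hhalf : 2 * Nat.card ↥(stabilizer G a ⊓ stabilizer G b) + 2 = Fintype.card Ω)
    {s : G} (hsa : s • a = b) (hsb : s • b = a) : s * s = 1 := by
  classical
  haveI := hZ.1
  haveI := Fintype.ofFinite G
  haveI : Fact (Nat.Prime 2) := ⟨Nat.prime_two⟩
  set d := Nat.card ↥(stabilizer G a ⊓ stabilizer G b) with hd
  obtain ⟨z, hz⟩ := exists_prime_orderOf_dvd_card' (G := ↥(stabilizer G a ⊓ stabilizer G b)) 2
    heven.two_dvd
  rw [← Subgroup.orderOf_coe] at hz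
  have hz1 : (z : G) ≠ 1 := fun e => by rw [e, orderOf_one] at hz; norm_num at hz
  have hzz : (z : G) * z = 1 := by rw [← sq, ← hz, pow_orderOf_eq_one]
  -- the involutions with fixed points
  set Z : Finset G := univ.filter fun i => i * i = 1 ∧ i ≠ 1 ∧ ∃ c : Ω, i • c = c with hZdef
  have hfix : ∀ i ∈ Z, (univ.filter fun c : Ω => i • c = c).card = 2 := by
    intro i hi
    obtain ⟨hii, hi1, c, hc⟩ := (mem_filter.1 hi).2
    have hle := CfsgLib.Char.zass_card_fixedBy_le hZ hi1
    have hpos : 0 < (univ.filter fun c : Ω => i • c = c).card :=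
      card_pos.2 ⟨c, mem_filter.2 ⟨mem_univ _, hc⟩⟩
    have hp : IsPGroup 2 (Subgroup.zpowers i) := by
      refine IsPGroup.of_card (n := 1) ?_
      rw [Nat.card_zpowers, pow_one]
      exact orderOf_eq_prime (by rw [sq, hii]) hi1
    have h := hp.card_modEq_card_fixedPoints Ω
    have he : Nat.card (MulAction.fixedPoints (Subgroup.zpowers i) Ω) =
        (univ.filter fun c : Ω => i • c = c).card := by
      rw [← Fintype.card_subtype, ← Nat.card_eq_fintype_card]
      refine Nat.card_congr (Equiv.subtypeEquivRight fun w => ⟨fun hw => hw ⟨i, Subgroup.mem_zpowers i⟩,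
        fun hw => ?_⟩)
      rintro ⟨t, k, rfl⟩
      exact (mem_stabilizer_iff.mp (zpow_mem (mem_stabilizer_iff.mpr hw) k) :)
    rw [he, Nat.card_eq_fintype_card, ← hhalf] at h
    unfold Nat.ModEq at h
    omega
  -- each pair is fixed by exactly one of them
  have hpair : ∀ p q : Ω, p ≠ q → (Z.filter fun i => i • p = p ∧ i • q = q).card = 1 := by
    intro p q hpq
    obtain ⟨g, hga, hgb⟩ := two_trans hZ hab hpq
    have hmem : g * z * g⁻¹ ∈ Z.filter fun i => i • p = p ∧ i • q = q := by
      have h1 : (g * z * g⁻¹) • p = p := by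
        rw [← hga, mul_smul, mul_smul, inv_smul_smul, show (z : G) • a = a from z.2.1]
      have h2 : (g * z * g⁻¹) • q = q := by
        rw [← hgb, mul_smul, mul_smul, inv_smul_smul, show (z : G) • b = b from z.2.2]
      simp only [hZdef, mem_filter, mem_univ, true_and]
      refine ⟨⟨?_, fun e => hz1 (by simpa using e), p, h1⟩, h1, h2⟩
      rw [show g * z * g⁻¹ * (g * z * g⁻¹) = g * ((z : G) * z) * g⁻¹ by group, hzz, mul_one,
        mul_inv_cancel]
    refine card_eq_one.2 ⟨_, eq_singleton_iff_unique_mem.2 ⟨hmem, fun i hi => ?_⟩⟩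
    obtain ⟨hi, hip, hiq⟩ := mem_filter.1 hi
    obtain ⟨hj, hjp, hjq⟩ := mem_filter.1 hmem
    exact involution_unique hZ hpq (mem_filter.1 hi).2.1 (mem_filter.1 hi).2.2.1 hip hiq
      (mem_filter.1 hj).2.1 (mem_filter.1 hj).2.2.1 hjp hjq
  set P : Finset (Ω × Ω) := univ.filter fun e => e.1 ≠ e.2 with hP
  have hsame : Z.card * 2 = P.card := by
    have h := sum_card_bipartiteAbove_eq_sum_card_bipartiteBelow
      (fun (i : G) (e : Ω × Ω) => i • e.1 = e.1 ∧ i • e.2 = e.2) (s := Z) (t := P)
    rw [sum_congr rfl (g := fun _ => 2), sum_const, smul_eq_mul,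
      sum_congr rfl (g := fun _ => 1), sum_const, smul_eq_mul, mul_one] at h
    · exact h
    · intro e he
      exact hpair e.1 e.2 (mem_filter.1 he).2
    · intro i hi
      have : bipartiteAbove (fun (i : G) (e : Ω × Ω) => i • e.1 = e.1 ∧ i • e.2 = e.2) P i =
          (univ.filter fun c : Ω => i • c = c).offDiag := by
        ext ⟨p, q⟩
        simp [mem_bipartiteAbove, mem_offDiag, hP]
        tauto
      rw [this, offDiag_card, hfix i hi]
  -- the pairs interchanged
  let sw : Ω × Ω → Finset G := fun e => univ.filter fun g => g • e.1 = e.2 ∧ g • e.2 = e.1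
  have hsw : ∀ e ∈ P, (sw e).card ≤ d := by
    rintro ⟨p, q⟩ he
    have hpq : p ≠ q := (mem_filter.1 he).2
    rcases (sw (p, q)).eq_empty_or_nonempty with h | ⟨g₀, hg₀⟩
    · rw [h]; exact Nat.zero_le _
    obtain ⟨u1, u2⟩ := (mem_filter.1 hg₀).2
    rw [hd, ← card_pair hZ hab hpq, ← Fintype.card_coe, ← Nat.card_eq_fintype_card]
    refine Nat.card_le_card_of_injective (fun g : sw (p, q) =>
      (⟨g₀⁻¹ * g.1, ?_, ?_⟩ : ↥(stabilizer G p ⊓ stabilizer G q))) fun g g' e => Subtype.ext (by
        simpa using congrArg Subtype.val e)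
    · show (g₀⁻¹ * g.1) • p = p
      rw [mul_smul, (mem_filter.1 g.2).2.1, inv_smul_eq_iff]
      exact u1.symm
    · show (g₀⁻¹ * g.1) • q = q
      rw [mul_smul, (mem_filter.1 g.2).2.2, inv_smul_eq_iff]
      exact u2.symm
  have hdc := sum_card_bipartiteAbove_eq_sum_card_bipartiteBelow
    (fun (i : G) (e : Ω × Ω) => i ∈ sw e) (s := Z) (t := P)
  have hL : ∀ i ∈ Z, (bipartiteAbove (fun (i : G) (e : Ω × Ω) => i ∈ sw e) P i).card = 2 * d := by
    intro i hi
    have hii : ∀ c : Ω, i • i • c = c := fun c => by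
      rw [smul_smul, (mem_filter.1 hi).2.1, one_smul]
    have e : bipartiteAbove (fun (i : G) (e : Ω × Ω) => i ∈ sw e) P i =
        (univ.filter fun c : Ω => i • c ≠ c).image fun c => (c, i • c) := by
      ext ⟨p, q⟩
      simp only [mem_bipartiteAbove, sw, hP, mem_filter, mem_univ, true_and, mem_image,
        Prod.mk.injEq]
      constructor
      · rintro ⟨hpq, h1, -⟩
        exact ⟨p, by rw [h1]; exact hpq.symm, rfl, h1⟩
      · rintro ⟨c, hc, rfl, rfl⟩
        exact ⟨hc.symm, rfl, hii c⟩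
    rw [e, card_image_of_injective _ fun c c' h => (Prod.mk.injEq .. ▸ h).1,
      filter_not, ← compl_eq_univ_sdiff, card_compl, hfix i hi]
    omega
  rw [sum_congr rfl hL, sum_const, smul_eq_mul, ← mul_assoc, hsame, ← smul_eq_mul,
    ← sum_const] at hdc
  have hbelow : ∀ e ∈ P, (bipartiteBelow (fun (i : G) (e : Ω × Ω) => i ∈ sw e) Z e).card ≤ d :=
    fun e he => (card_le_card fun i hi => by
      simp only [bipartiteBelow, mem_filter] at hi; exact hi.2).trans (hsw e he)
  have heq := (sum_eq_sum_iff_of_le hbelow).1 hdc.symm (a, b)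
    (mem_filter.2 ⟨mem_univ _, hab⟩)
  have hsub : bipartiteBelow (fun (i : G) (e : Ω × Ω) => i ∈ sw e) Z (a, b) = sw (a, b) :=
    eq_of_subset_of_card_le (fun i hi => by
      simp only [bipartiteBelow, mem_filter] at hi; exact hi.2)
      (by rw [heq]; exact hsw _ (mem_filter.2 ⟨mem_univ _, hab⟩))
  have hmem : s ∈ sw (a, b) := mem_filter.2 ⟨mem_univ _, hsa, hsb⟩
  rw [← hsub] at hmem
  exact (mem_filter.1 ((mem_bipartiteBelow _).1 hmem).1).2.1

/-- With degree `2 d + 2` and an abelian kernel every element interchanging two points is an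
involution, and for odd `d` no involution fixes a point. -/
theorem swap_sq_of_half (hZ : Cfsg.IsZassenhausGroup G Ω) {a b : Ω} (hab : a ≠ b) (F : Subgroup G)
    (hFa : F ≤ stabilizer G a) (hFcard : Nat.card F + 1 = Fintype.card Ω)
    (hFfix : ∀ u ∈ F, u ≠ 1 → ∀ c : Ω, u • c = c → c = a) (hcomm : IsMulCommutative F)
    (hhalf : 2 * Nat.card ↥(stabilizer G a ⊓ stabilizer G b) + 2 = Fintype.card Ω)
    {s : G} (hsa : s • a = b) (hsb : s • b = a) : s * s = 1 := by
  rcases Nat.even_or_odd (Nat.card ↥(stabilizer G a ⊓ stabilizer G b)) with he | ho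
  · exact swap_sq_of_even hZ hab he hhalf hsa hsb
  · haveI := simple_of_half hZ hab F hFa hFcard hFfix hcomm hhalf
    rw [← sq, ← CfsgLib.Char.zass_swap_orderOf hZ hab ho hsa hsb]
    exact pow_orderOf_eq_one s

/-- An involution fixing a point makes the two-point stabilisers even. -/
theorem even_of_involution_fix (hZ : Cfsg.IsZassenhausGroup G Ω) {a b : Ω} (hab : a ≠ b)
    (hhalf : 2 * Nat.card ↥(stabilizer G a ⊓ stabilizer G b) + 2 = Fintype.card Ω)
    {s : G} (hss : s * s = 1) (hs1 : s ≠ 1) {c : Ω} (hc : s • c = c) :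
    Even (Nat.card ↥(stabilizer G a ⊓ stabilizer G b)) := by
  haveI : Fact (Nat.Prime 2) := ⟨Nat.prime_two⟩
  obtain ⟨c', hc'⟩ := Fintype.exists_ne_of_one_lt_card
    (by have := CfsgLib.Char.zassenhaus_three_le hZ; omega) c
  have h := CfsgLib.Char.zass_card_stab hZ (Ne.symm hc')
  rw [card_pair hZ hab (Ne.symm hc')] at h
  have h2 : orderOf s ∣ Nat.card (stabilizer G c) := Subgroup.orderOf_dvd_natCard _ hc
  rw [orderOf_eq_prime (by rw [sq, hss]) hs1, h] at h2
  rcases (Nat.prime_two.dvd_mul).1 h2 with h2 | h2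
  · omega
  · exact even_iff_two_dvd.2 h2

end CfsgLib.Zass
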